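import Cfsg.Agent.H802.FusNorm

/-!
# Invariant subsystems over the whole of `S` (helper763)

* `hom_eq_of_autGroup_le` : an `F`-invariant subsystem `E` over `S` with `Aut_F(S) ≤ Aut_E(S)` is `F`;
* `conj_mem_autGroup` : `Aut_E(V)` is normal in `Aut_F(V)`;
* `Nn E V` : the elements of `N_G(V)` inducing maps of `E`; `Nn_conj`;
* `conjHom_mem_of_centralizer_le` : an element of `N_G(S) ∩ N_G(V)`, `V` normal in `S`, `C_G(V) ≤ V`, inducing a map
  of `E` on `V` induces a map of `E` on `S`;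
* `isSimple_of_gen` : the simplicity criterion.
-/

set_option autoImplicit false

namespace Cfsg.Agent.H763

open Cfsg Cfsg.FusionSystem Cfsg.Agent.H802

section Abstract

variable {Ω : Type*} [Group Ω] {S : Subgroup Ω}

/-- An invariant subsystem over `S` with the full automorphism group of `S` is the whole system. -/
theorem hom_eq_of_autGroup_le {E F : FusionSystem S} (hE : E.IsInvariantIn F)
    (hA : F.autGroup S ≤ E.autGroup S) (P : Subgroup Ω) : E.Hom P = F.Hom P := by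
  apply Set.Subset.antisymm (hE.1 P)
  intro φ hφ
  obtain ⟨α, hα, φ₀, hφ₀, he⟩ := hE.2.2.2 P (hom_le hφ) φ hφ
  obtain ⟨χ, hχ, hχe⟩ := exists_comp hφ₀ ((mem_autGroup_iff E le_rfl α).1 (hA hα))
    (fun x => hom_apply_mem hφ₀ x)
  refine mem_of_apply_eq hχ fun x => ?_
  rw [hχe, he x (hom_apply_mem hφ₀ x)]
  rfl

/-- `Aut_E(V)` is normalised by `Aut_F(V)` for `E` invariant in `F` over `S`. -/
theorem conj_mem_autGroup {E F : FusionSystem S} (hE : E.IsInvariantIn F) {V : Subgroup Ω}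
    (hV : V ≤ S) {φ ψ : MulAut V} (hφ : φ ∈ E.autGroup V) (hψ : ψ ∈ F.autGroup V) :
    ψ * φ * ψ⁻¹ ∈ E.autGroup V := by
  rw [mem_autGroup_iff F hV] at hψ
  rw [mem_autGroup_iff E hV] at hφ ⊢
  obtain ⟨α, hα, φ₀, hφ₀, he⟩ := hE.2.2.2 V hV _ hψ
  have he' : ∀ x : V, ((ψ x : V) : Ω) = ((α ⟨φ₀ x, hom_apply_mem hφ₀ x⟩ : S) : Ω) :=
    fun x => he x (hom_apply_mem hφ₀ x)
  obtain ⟨W, hW⟩ : ∃ W, W = φ₀.range := ⟨_, rfl⟩
  have hWS : W ≤ S := by rw [hW]; exact range_le_of_mem hφ₀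
  obtain ⟨ρ, hρ, hρr, h1, h2⟩ := exists_inv hφ₀ hW.symm
  have hφ₀W : ∀ x : V, φ₀ x ∈ W := fun x => by rw [hW]; exact ⟨x, rfl⟩
  -- `φ' = φ₀ φ φ₀⁻¹`
  have hρV : ∀ y : W, ρ y ∈ V := fun y => by rw [← hρr]; exact ⟨y, rfl⟩
  obtain ⟨χ₁, hχ₁, he₁⟩ := exists_comp hρ hφ hρV
  have hχ₁V : ∀ y : W, χ₁ y ∈ V := fun y => by rw [he₁]; exact (φ _).2
  obtain ⟨χ₂, hχ₂, he₂⟩ := exists_comp hχ₁ hφ₀ hχ₁V
  have he₃ : ∀ x : V, χ₂ ⟨φ₀ x, hφ₀W x⟩ = φ₀ (φ x) := by
    intro x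
    rw [he₂]
    congr 1
    apply Subtype.ext
    show χ₁ ⟨φ₀ x, hφ₀W x⟩ = ((φ x : V) : Ω)
    rw [he₁]
    show ((φ ⟨ρ ⟨φ₀ x, hφ₀W x⟩, hρV _⟩ : V) : Ω) = _
    congr 2
    exact Subtype.ext (h1 x (hφ₀W x))
  obtain ⟨χ, hχ, hχe⟩ := hE.2.2.1 W hWS χ₂ hχ₂ α hα
  have hsrc : (W.subgroupOf S).map (S.subtype.comp α.toMonoidHom) = V := by
    ext z
    constructor
    · rintro ⟨⟨w, hwS⟩, hw, rfl⟩
      have hw' : w ∈ φ₀.range := by rw [← hW]; exact hw
      obtain ⟨x, rfl⟩ := hw'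
      show ((α ⟨φ₀ x, hwS⟩ : S) : Ω) ∈ V
      rw [← he' x]
      exact (ψ x).2
    · intro hz
      refine ⟨⟨φ₀ (ψ⁻¹ ⟨z, hz⟩), hom_apply_mem hφ₀ _⟩, hφ₀W _, ?_⟩
      show ((α ⟨φ₀ (ψ⁻¹ ⟨z, hz⟩), hom_apply_mem hφ₀ _⟩ : S) : Ω) = z
      rw [← he' (ψ⁻¹ ⟨z, hz⟩)]
      have h3 : ψ (ψ⁻¹ ⟨z, hz⟩) = ⟨z, hz⟩ := ψ.apply_symm_apply _
      rw [h3]
  refine mem_of_eq_source hsrc hχ fun x hx hx' => ?_
  -- write `x = ψ v`
  obtain ⟨v, hv⟩ : ∃ v, ψ v = ⟨x, hx'⟩ := ⟨ψ⁻¹ ⟨x, hx'⟩, ψ.apply_symm_apply _⟩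
  have hv1 : ψ⁻¹ ⟨x, hx'⟩ = v := by rw [← hv]; exact ψ.symm_apply_apply v
  show (((ψ * φ * ψ⁻¹) ⟨x, hx'⟩ : V) : Ω) = χ ⟨x, hx⟩
  rw [MulAut.mul_apply, MulAut.mul_apply, hv1, he' (φ v)]
  have hx1 : ((α ⟨φ₀ v, hom_apply_mem hφ₀ v⟩ : S) : Ω) = x := by rw [← he' v, hv]
  have h4 := hχe ⟨φ₀ v, hφ₀W v⟩ (hom_apply_mem hχ₂ _) (by
    have h5 := hx
    rw [← hx1] at h5
    exact h5)
  have h6 : χ ⟨x, hx⟩ = χ ⟨((α ⟨φ₀ v, hom_apply_mem hφ₀ v⟩ : S) : Ω), by rw [hx1]; exact hx⟩ := by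
    congr 1
    exact Subtype.ext hx1.symm
  rw [h6]
  refine Eq.trans ?_ h4.symm
  congr 2
  exact Subtype.ext (he₃ v).symm

end Abstract

section Group

variable {G : Type*} [Group G] {S : Subgroup G}

theorem conjHom_mem_group {P : Subgroup G} {g : G} (hP : P ≤ S) (hg : ∀ x ∈ P, g * x * g⁻¹ ∈ S) :
    conjHom P g ∈ (groupFusionSystem S).Hom P :=
  ⟨hP, fun x => hg x x.2, g, fun _ => rfl⟩

theorem exists_conj_of_mem {P : Subgroup G} {φ : P →* G} (h : φ ∈ (groupFusionSystem S).Hom P) :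
    ∃ g : G, φ = conjHom P g := by
  obtain ⟨-, -, g, hg⟩ := h
  exact ⟨g, MonoidHom.ext hg⟩

theorem exists_conj_of_mem' {E : FusionSystem S} (hE : E.IsSubsystemOf (groupFusionSystem S))
    {P : Subgroup G} {φ : P →* G} (h : φ ∈ E.Hom P) : ∃ g : G, φ = conjHom P g :=
  exists_conj_of_mem (hE P h)

/-- The elements of `N_G(V)` which induce maps of `E` on `V`. -/
def Nn (E : FusionSystem S) {V : Subgroup G} (hV : V ≤ S) : Subgroup G where
  carrier := {g | g ∈ Subgroup.normalizer (V : Set G) ∧ conjHom V g ∈ E.Hom V}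
  mul_mem' := by
    rintro a b ⟨ha, ha'⟩ ⟨hb, hb'⟩
    refine ⟨mul_mem ha hb, ?_⟩
    obtain ⟨χ, hχ, he⟩ := exists_comp hb' ha' (fun x => (Subgroup.mem_normalizer_iff.1 hb x).1 x.2)
    refine mem_of_apply_eq hχ fun x => ?_
    rw [he]
    show a * b * x * (a * b)⁻¹ = a * (b * x * b⁻¹) * a⁻¹
    group
  one_mem' := ⟨one_mem _, mem_of_apply_eq (subtype_mem E hV) fun x => by
    show 1 * (x : G) * 1⁻¹ = x
    group⟩
  inv_mem' := by
    rintro a ⟨ha, ha'⟩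
    refine ⟨inv_mem ha, ?_⟩
    have hr : (conjHom V a).range = V := by
      ext z
      constructor
      · rintro ⟨x, rfl⟩
        exact (Subgroup.mem_normalizer_iff.1 ha x).1 x.2
      · intro hz
        have h1 := (Subgroup.mem_normalizer_iff.1 (inv_mem ha) z).1 hz
        refine ⟨⟨_, h1⟩, ?_⟩
        show a * (a⁻¹ * z * a⁻¹⁻¹) * a⁻¹ = z
        group
    obtain ⟨ψ, hψ, -, h1, -⟩ := exists_inv ha' hr
    refine mem_of_apply_eq hψ fun x => ?_
    have h2 := (Subgroup.mem_normalizer_iff.1 (inv_mem ha) x).1 x.2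
    have h3 : conjHom V a ⟨_, h2⟩ = x := by
      show a * (a⁻¹ * (x : G) * a⁻¹⁻¹) * a⁻¹ = x
      group
    have h4 := h1 ⟨_, h2⟩ (by rw [h3]; exact x.2)
    have h5 : (⟨conjHom V a ⟨_, h2⟩, by rw [h3]; exact x.2⟩ : V) = x := Subtype.ext h3
    rw [h5] at h4
    exact h4.symm

theorem mem_Nn {E : FusionSystem S} {V : Subgroup G} {hV : V ≤ S} {g : G} :
    g ∈ Nn E hV ↔ g ∈ Subgroup.normalizer (V : Set G) ∧ conjHom V g ∈ E.Hom V := Iff.rfl

theorem mem_Nn_of_mem {E : FusionSystem S} {V : Subgroup G} (hV : V ≤ S) {g : G} (hg : g ∈ S)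
    (hn : g ∈ Subgroup.normalizer (V : Set G)) : g ∈ Nn E hV :=
  ⟨hn, E.conj_mem hV hg⟩

/-- `Nn E V` is normal in `N_G(V)`. -/
theorem Nn_conj {E : FusionSystem S} (hE : E.IsInvariantIn (groupFusionSystem S)) {V : Subgroup G}
    (hV : V ≤ S) {g n : G} (hg : g ∈ Nn E hV) (hn : n ∈ Subgroup.normalizer (V : Set G)) :
    n * g * n⁻¹ ∈ Nn E hV := by
  obtain ⟨α, hα⟩ := exists_conjAut hg.1
  obtain ⟨β, hβ⟩ := exists_conjAut hn
  have h1 : α ∈ E.autGroup V :=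
    (mem_autGroup_iff E hV α).2 (mem_of_apply_eq hg.2 hα)
  have h2 : β ∈ (groupFusionSystem S).autGroup V := by
    refine (mem_autGroup_iff _ hV β).2 (mem_of_apply_eq
      (conjHom_mem_group hV (g := n) fun x hx => hV ((Subgroup.mem_normalizer_iff.1 hn x).1 hx)) hβ)
  have h3 := (mem_autGroup_iff E hV _).1 (conj_mem_autGroup hE hV h1 h2)
  refine ⟨mul_mem (mul_mem hn hg.1) (inv_mem hn), mem_of_apply_eq h3 fun x => ?_⟩
  show n * g * n⁻¹ * x * (n * g * n⁻¹)⁻¹ = ((β (α (β⁻¹ x)) : V) : G)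
  rw [hβ, hα]
  have h4 : ((β⁻¹ x : V) : G) = n⁻¹ * x * n := by
    have h5 := hβ (β⁻¹ x)
    have h6 : β (β⁻¹ x) = x := β.apply_symm_apply x
    rw [h6] at h5
    rw [h5]
    group
  rw [h4]
  group

/-- the subgroup generated by the conjugates of `S` under `N_G(V)` induces maps of `E`. -/
theorem closure_le_Nn {E : FusionSystem S} (hE : E.IsInvariantIn (groupFusionSystem S))
    {V : Subgroup G} (hV : V ≤ S) (hS : S ≤ Subgroup.normalizer (V : Set G)) :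
    Subgroup.closure {x | ∃ n ∈ Subgroup.normalizer (V : Set G), ∃ s ∈ S, x = n * s * n⁻¹} ≤ Nn E hV := by
  rw [Subgroup.closure_le]
  rintro _ ⟨n, hn, s, hs, rfl⟩
  exact Nn_conj hE hV (mem_Nn_of_mem hV hs (hS hs)) hn

/-- An element of `N_G(S) ∩ N_G(V)` inducing a map of the saturated system `E` over `S` on the normal subgroup `V` of
`S` with `C_G(V) ≤ V` induces a map of `E` on `S`. -/
theorem conjHom_mem_of_centralizer_le {p : ℕ} [Fact p.Prime] [Finite S] (hS : IsPGroup p S)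
    {E : FusionSystem S} (hE : E.IsSaturated p) (hEF : E.IsSubsystemOf (groupFusionSystem S))
    {V : Subgroup G} (hV : V ≤ S) (hSV : S ≤ Subgroup.normalizer (V : Set G))
    (hC : Subgroup.centralizer (V : Set G) ≤ V) {t : G}
    (htS : t ∈ Subgroup.normalizer (S : Set G)) (ht : t ∈ Nn E hV) : conjHom S t ∈ E.Hom S := by
  -- `V` is fully normalised in `E`
  have hn : normalizerIn S V = S := inf_eq_left.2 hSV
  have hfn : E.IsFullyNormalized V := by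
    refine ⟨hV, fun Q _ => ?_⟩
    rw [hn]
    have : Finite S := inferInstance
    exact Nat.card_le_card_of_injective (Subgroup.inclusion (inf_le_left : normalizerIn S Q ≤ S))
      (Subgroup.inclusion_injective _)
  have hrec := isReceptive_of_isFullyNormalized hS hE hfn
  have hr : (conjHom V t).range = V := by
    ext z
    constructor
    · rintro ⟨x, rfl⟩
      exact (Subgroup.mem_normalizer_iff.1 ht.1 x).1 x.2
    · intro hz
      have h1 := (Subgroup.mem_normalizer_iff.1 (inv_mem ht.1) z).1 hz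
      refine ⟨⟨_, h1⟩, ?_⟩
      show t * (t⁻¹ * z * t⁻¹⁻¹) * t⁻¹ = z
      group
  obtain ⟨ψ, hψ, hψe⟩ := hrec.2 V _ ht.2 hr
  -- the extender is `S`
  have hext : extender S V (conjHom V t) = S := by
    apply le_antisymm (extender_le _ _ _)
    intro g hg
    rw [mem_extender_iff]
    refine ⟨hg, hSV hg, t * g * t⁻¹, (Subgroup.mem_normalizer_iff.1 htS g).1 hg, fun x hx => ?_⟩
    show t * (g * x * g⁻¹) * t⁻¹ = t * g * t⁻¹ * (t * x * t⁻¹) * (t * g * t⁻¹)⁻¹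
    group
  obtain ⟨y, rfl⟩ := exists_conj_of_mem' hEF hψ
  have hy : conjHom S y ∈ E.Hom S := mem_of_eq_source hext hψ fun x hx hx' => rfl
  have hz : y⁻¹ * t ∈ Subgroup.centralizer (V : Set G) := by
    rw [Subgroup.mem_centralizer_iff]
    intro v hv
    have h1 := hψe v hv (by rw [hext]; exact hV hv)
    have h2 : y * v * y⁻¹ = t * v * t⁻¹ := h1
    calc v * (y⁻¹ * t) = y⁻¹ * (y * v * y⁻¹) * t := by group
      _ = y⁻¹ * (t * v * t⁻¹) * t := by rw [h2]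
      _ = y⁻¹ * t * v := by group
  have hzS : y⁻¹ * t ∈ S := hV (hC hz)
  obtain ⟨χ, hχ, he⟩ := exists_comp (E.conj_mem (P := S) le_rfl hzS) hy
    (fun x => mul_mem (mul_mem hzS x.2) (inv_mem hzS))
  refine mem_of_apply_eq hχ fun x => ?_
  rw [he]
  show t * x * t⁻¹ = y * (y⁻¹ * t * x * (y⁻¹ * t)⁻¹) * y⁻¹
  group

/-- An invariant saturated subsystem over `S` of the fusion system of a group is the whole system, if `N_G(S)` is
generated by `S` and the elements of `N_G(S)` lying in the group generated by the conjugates of `S` under `N_G(V)`,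
`V` normal in `S` with `C_G(V) ≤ V`. -/
theorem hom_eq_of_gen {p : ℕ} [Fact p.Prime] [Finite S] (hS : IsPGroup p S)
    {E : FusionSystem S} (hE : E.IsSaturated p) (hEF : E.IsInvariantIn (groupFusionSystem S))
    (hgen : ∀ H : Subgroup G, S ≤ H →
      (∀ V : Subgroup G, V ≤ S → S ≤ Subgroup.normalizer (V : Set G) → Subgroup.centralizer (V : Set G) ≤ V →
        ∀ t ∈ Subgroup.normalizer (S : Set G), t ∈ Subgroup.closure
          {x | ∃ n ∈ Subgroup.normalizer (V : Set G), ∃ s ∈ S, x = n * s * n⁻¹} → t ∈ H) →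
      Subgroup.normalizer (S : Set G) ≤ H) (P : Subgroup G) :
    E.Hom P = (groupFusionSystem S).Hom P := by
  refine hom_eq_of_autGroup_le hEF ?_ P
  have key : Subgroup.normalizer (S : Set G) ≤ Nn E (le_refl S) := by
    refine hgen _ (fun s hs => mem_Nn_of_mem _ hs (Subgroup.le_normalizer hs)) ?_
    intro V hV hSV hC t htS ht
    exact ⟨htS, conjHom_mem_of_centralizer_le hS hE hEF.1 hV hSV hC htS (closure_le_Nn hEF hV hSV ht)⟩
  intro α hα
  have h1 := (mem_autGroup_iff _ le_rfl α).1 hα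
  obtain ⟨-, -, g, hg⟩ := h1
  have hg' : ∀ x : S, ((α x : S) : G) = g * x * g⁻¹ := hg
  have h2 := key (mem_normalizer_of_aut hg')
  exact (mem_autGroup_iff _ le_rfl α).2 (mem_of_apply_eq h2.2 hg')

/-- **Simplicity criterion.** -/
theorem isSimple_of_gen {p : ℕ} [Fact p.Prime] [Finite S] (hS : IsPGroup p S)
    (hsat : (groupFusionSystem S).IsSaturated p) (hS1 : S ≠ ⊥)
    (hcl : ∀ D : Subgroup G, (groupFusionSystem S).StronglyClosed D → D = ⊥ ∨ D = S)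
    (hgen : ∀ H : Subgroup G, S ≤ H →
      (∀ V : Subgroup G, V ≤ S → S ≤ Subgroup.normalizer (V : Set G) → Subgroup.centralizer (V : Set G) ≤ V →
        ∀ t ∈ Subgroup.normalizer (S : Set G), t ∈ Subgroup.closure
          {x | ∃ n ∈ Subgroup.normalizer (V : Set G), ∃ s ∈ S, x = n * s * n⁻¹} → t ∈ H) →
      Subgroup.normalizer (S : Set G) ≤ H) :
    (groupFusionSystem S).IsSimple p := by
  refine ⟨hsat, hS1, fun D E hE => ?_⟩
  rcases hcl D hE.1.2.2.2.1 with h1 | h1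
  · exact Or.inl h1
  · right
    subst h1
    exact ⟨rfl, hom_eq_of_gen hS hE.1.1 hE.1.2.2 hgen⟩

end Group

end Cfsg.Agent.H763
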