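import Cfsg.Agent.H763.RgdClosed
import Cfsg.Agent.H763.OverS
import Cfsg.Agent.Nodes.RGDLib

/-!
# Simplicity of the `p`-fusion system of a simple group with a root group datum of rank at least two in
characteristic `p` (helper763)
-/

set_option autoImplicit false
set_option linter.unusedSectionVars false

namespace Cfsg.Agent.H763.Simp

open Cfsg Cfsg.FusionSystem Cfsg.Agent.H802 Cfsg.Agent.H763
open CoxeterSystem Cfsg.Agent.ChevalleyStructure.CoxeterGeom Cfsg.Agent.Tits.Roots Cfsg.Agent.Tits.Core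
  Cfsg.Agent.Nodes.Reps Cfsg.Agent.Nodes.BNOf Cfsg.Agent.Nodes.StabComb
  Cfsg.Agent.Nodes.Bruhat Cfsg.Agent.Nodes.OppDec Cfsg.Agent.Nodes.FreeTorus Cfsg.Agent.KFacts.RgdCharP
  Cfsg.Agent.Nodes.LeviDec Cfsg.Agent.KFacts.RgdVJ
  Cfsg.Agent.H763.Abs Cfsg.Agent.H763.Rgd Cfsg.Agent.ClosedTwo

variable {I W Y : Type*} [Fintype I] [DecidableEq I] [Group W] [Group Y] {M : CoxeterMatrix I}
  {cs : CoxeterSystem M W} {A : I → I → ℤ} {h : IsCartan M A} {p : ℕ} {T : Subgroup Y} {n : I → Y}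
  {X : (I → ℤ) → Subgroup Y}

theorem VJ_le_VV (i : I) : VJ cs h X {i} ≤ VV cs h X i := by
  refine RGD.Sup_mono fun x hx => ⟨hx.1, hx.2.1, ?_⟩
  rintro rfl
  obtain ⟨k, hk, hk0⟩ := hx.2.2
  rw [sr_ne (fun h0 => hk (by rw [h0]; rfl))] at hk0
  exact absurd hk0 (lt_irrefl _)

section

variable [Finite W] [Finite Y] [IsSimpleGroup Y] [Nontrivial I] [Fact p.Prime] (R : RGD cs h p T n X)
  (hc : ∃ a b : Y, a * b ≠ b * a) (hG : RGD.Sup X {x | IsRoot cs h x} = ⊤)

include R hc hG

theorem center_bot : Subgroup.center Y = ⊥ := by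
  obtain ⟨a, b, hab⟩ := hc
  rcases (inferInstance : (Subgroup.center Y).Normal).eq_bot_or_eq_top with h1 | h1
  · exact h1
  · exfalso
    have h2 : a ∈ Subgroup.center Y := by rw [h1]; trivial
    exact hab ((Subgroup.mem_center_iff.1 h2 b).symm)

theorem GG_top : GG cs h T X = ⊤ := by
  rw [eq_top_iff, ← hG]
  exact le_sup_right

theorem cent_VV (i : I) : Subgroup.centralizer (VV cs h X i : Set Y) ≤ VV cs h X i := by
  have hcen := center_bot R hc hG
  have h1 := cent_VJ_le R (Conn.noCent_of_center hG hcen) (Conn.conn_of_simple R hG hcen) (J := {i}) (by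
    intro h0
    obtain ⟨k, hk⟩ := exists_ne i
    have h2 : k ∈ ({i} : Set I) := by rw [h0]; trivial
    exact hk h2)
  rw [GG_top R hc hG, inf_top_eq] at h1
  exact le_trans (Subgroup.centralizer_le (VJ_le_VV i)) (le_trans h1 (VJ_le_VV i))

/-- the Borel subgroup from the rank one tori of the simple roots -/
theorem normalizer_le {H : Subgroup Y} (hU : UU cs h X ≤ H) (hT : ∀ i, TT cs h X (sr i) ≤ H) :
    Subgroup.normalizer (UU cs h X : Set Y) ≤ H := by
  have hGG := GG_top R hc hG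
  have h1 : Subgroup.normalizer (UU cs h X : Set Y) = RGD.B cs h T X := by
    have := Cfsg.Agent.Nodes.NormalForm.normalizer_U R
    rwa [hGG, inf_top_eq] at this
  rw [h1]
  refine sup_le ?_ hU
  choose m hm hr using Torus.exists_m R
  rw [Torus.torus_eq R hG]
  refine iSup_le ?_
  rintro ⟨x, w, i, rfl⟩
  obtain ⟨ω, rfl⟩ := cs.wordProd_surjective w
  induction ω with
  | nil =>
    change TT cs h X (rep cs h (cs.wordProd []) (sr i)) ≤ H
    rw [wordProd_nil, map_one, Module.End.one_apply]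
    exact hT i
  | cons j ω ih =>
    change TT cs h X (rep cs h (cs.wordProd (j :: ω)) (sr i)) ≤ H
    change TT cs h X (rep cs h (cs.wordProd ω) (sr i)) ≤ H at ih
    set x := rep cs h (cs.wordProd ω) (sr i) with hx
    have hxr : IsRoot cs h x := ⟨_, _, rfl⟩
    rw [wordProd_cons, rep_mul_apply, ← hx, ← (Torus.acts_of_rp R (hr j)).cj_TT hxr]
    intro t ht
    rw [mem_cj] at ht
    set s := (m j)⁻¹ * t * m j with hs
    have e : t = m j * s * (m j)⁻¹ := by rw [hs]; group
    have hsT : s ∈ T := Torus.HH_le R hGG (Subgroup.mem_inf.1 ht).2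
    have hsm : m j * s * (m j)⁻¹ ∈ T :=
      (Subgroup.mem_normalizer_iff.1 (hr j).mem_normalizer s).1 hsT
    have h1 : m j * s * (m j)⁻¹ * s⁻¹ ∈ TT cs h X (sr j) := by
      refine Subgroup.mem_inf.2 ⟨?_, ?_⟩
      · have h2 : s * (m j)⁻¹ * s⁻¹ ∈ LL X (sr j) := by
          have h3 : cj s (LL X (sr j)) = LL X (sr j) := by
            unfold LL
            rw [cj_sup, R.tor _ (isRoot_sr cs h j) s hsT, R.tor _ (isRoot_sr cs h j).neg s hsT]
          rw [← h3]
          exact conj_mem_cj.2 (inv_mem (hm j))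
        rw [show m j * s * (m j)⁻¹ * s⁻¹ = m j * (s * (m j)⁻¹ * s⁻¹) by group]
        exact mul_mem (hm j) h2
      · rw [mem_HH]
        have h2 : m j * s * (m j)⁻¹ * s⁻¹ ∈ T := mul_mem hsm (inv_mem hsT)
        intro y hy
        rw [R.tor y hy _ h2, map_one, Module.End.one_apply]
    rw [e, show m j * s * (m j)⁻¹ = (m j * s * (m j)⁻¹ * s⁻¹) * s by group]
    exact mul_mem (hT j h1) (ih ht)

/-- the generation hypothesis of the criterion -/
theorem gen (H : Subgroup Y) (hUH : UU cs h X ≤ H)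
    (hH : ∀ V : Subgroup Y, V ≤ UU cs h X → UU cs h X ≤ Subgroup.normalizer (V : Set Y) →
      Subgroup.centralizer (V : Set Y) ≤ V →
      ∀ t ∈ Subgroup.normalizer (UU cs h X : Set Y), t ∈ Subgroup.closure
        {x | ∃ n ∈ Subgroup.normalizer (V : Set Y), ∃ s ∈ UU cs h X, x = n * s * n⁻¹} → t ∈ H) :
    Subgroup.normalizer (UU cs h X : Set Y) ≤ H := by
  refine normalizer_le R hc hG hUH fun i t ht => ?_
  have hGG := GG_top R hc hG
  obtain ⟨htL, htH⟩ := Subgroup.mem_inf.1 ht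
  have htT : t ∈ T := Torus.HH_le R hGG htH
  have htB : t ∈ RGD.B cs h T X := RGD.T_le_B htT
  refine hH (VV cs h X i) (VV_le i) (U_norm_V R i) (cent_VV R hc hG i) t (R.B_le_normalizer_U htB) ?_
  have hL : LL X (sr i) ≤ Subgroup.closure
      {x | ∃ n ∈ Subgroup.normalizer (VV cs h X i : Set Y), ∃ s ∈ UU cs h X, x = n * s * n⁻¹} := by
    unfold LL
    refine sup_le (fun x hx => Subgroup.subset_closure ⟨1, one_mem _, x, X_le_UU i hx, by group⟩) ?_
    have h2 : cj (n i) (X (sr i)) = X (-sr i) := by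
      rw [R.conj i _ (isRoot_sr cs h i), rep_simple_sr]
    rw [← h2]
    intro y hy
    rw [mem_cj] at hy
    exact Subgroup.subset_closure ⟨n i, n_norm_V R i, _, X_le_UU i hy, by group⟩
  exact hL htL

omit hc hG [IsSimpleGroup Y] [Nontrivial I] [Finite W] [Finite Y] [Fact p.Prime] in
theorem UU_ne_bot [Nonempty I] : UU cs h X ≠ ⊥ := by
  obtain ⟨i⟩ := (inferInstance : Nonempty I)
  intro h0
  exact Nodes.Bruhat.X_ne_bot R (isRoot_sr cs h i) (eq_bot_iff.2 (h0 ▸ X_le_UU i))

omit R hc hG [Finite W] [Finite Y] [IsSimpleGroup Y] [Nontrivial I] [Fact p.Prime] in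
theorem closed_of_stronglyClosed {D : Subgroup Y}
    (hD : (groupFusionSystem (UU cs h X)).StronglyClosed D) : Closed cs h X D := by
  refine ⟨hD.1, fun x hx g hg => ?_⟩
  have h1 : ∀ y ∈ Subgroup.zpowers x, g * y * g⁻¹ ∈ UU cs h X := by
    rintro _ ⟨k, rfl⟩
    have h2 : g * (fun n : ℤ => x ^ n) k * g⁻¹ = (g * x * g⁻¹) ^ k := (conj_zpow).symm
    rw [h2]
    exact zpow_mem hg k
  have h3 : Subgroup.zpowers x ≤ D := by rwa [Subgroup.zpowers_le]
  exact hD.2 (Subgroup.zpowers x) h3 _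
    (conjHom_mem_group (h3.trans hD.1) h1) ⟨x, Subgroup.mem_zpowers x⟩

theorem isSimple_UU (hsat : (groupFusionSystem (UU cs h X)).IsSaturated p) :
    (groupFusionSystem (UU cs h X)).IsSimple p := by
  have hconn := Conn.conn_of_simple R hG (center_bot R hc hG)
  refine isSimple_of_gen R.isPGroup_Upos hsat (UU_ne_bot R) (fun D hD => ?_) (gen R hc hG)
  by_cases hD1 : D = ⊥
  · exact Or.inl hD1
  · exact Or.inr (eq_U R (closed_of_stronglyClosed hD) hconn hc hG hD1)

/-- **The `p`-fusion system of a simple group with a root group datum of rank at least two in characteristic `p` is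
simple.** -/
theorem isSimple (hsat : ∀ S : Sylow p Y, (groupFusionSystem (S : Subgroup Y)).IsSaturated p) (S : Sylow p Y) :
    (groupFusionSystem (S : Subgroup Y)).IsSimple p := by
  have hGG := GG_top R hc hG
  obtain ⟨S', hS'⟩ := R.isPGroup_Upos.exists_le_sylow
  have hSU : (S' : Subgroup Y) = UU cs h X :=
    Cfsg.Agent.Nodes.NormalForm.eq_U_of_isPGroup R S'.2 hS' (by rw [hGG]; exact le_top)
  obtain ⟨g, hg⟩ := MulAction.exists_smul_eq Y S' S
  have hgS : (UU cs h X).map (MulAut.conj g).toMonoidHom = (S : Subgroup Y) := by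
    rw [← hSU, ← hg]
    rfl
  have hU : UU cs h (fun x => (X x).map (MulAut.conj g).toMonoidHom) = (S : Subgroup Y) := by
    rw [← hgS]
    unfold UU RGD.Sup
    rw [Subgroup.map_iSup]
  have R' := Nodes.RGDLib.rgd_map_of_injective R (MulAut.conj g).toMonoidHom (MulAut.conj g).injective
  have hG' : RGD.Sup (fun x => (X x).map (MulAut.conj g).toMonoidHom) {x | IsRoot cs h x} = ⊤ := by
    have h1 : (RGD.Sup X {x | IsRoot cs h x}).map (MulAut.conj g).toMonoidHom =
        RGD.Sup (fun x => (X x).map (MulAut.conj g).toMonoidHom) {x | IsRoot cs h x} := by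
      unfold RGD.Sup
      rw [Subgroup.map_iSup]
    rw [← h1, hG, Subgroup.map_top_of_surjective _ (MulAut.conj g).surjective]
  have h2 := isSimple_UU R' hc hG'
  rw [hU] at h2
  exact h2 (hsat S)

end

end Cfsg.Agent.H763.Simp
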