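import Mathlib
import Cfsg.Agent.H94.Syl2Sym
import Cfsg.Agent.TwoFusion.OddAut

/-!
# Automorphisms of odd order of a 2-group with a big abelian subgroup (helper763, S5174)

* `eq_one_of_cosets` : `A` an abelian subgroup of a finite 2-group `S`, invariant under the automorphism `α` of odd order,
  elements `t j` whose cosets `t j * A` are fixed by `α`, with `[t j, A] = ⟨c j⟩` cyclic, `⟨c j : j⟩` normal with
  centralizer `≤ A`, and containing the involutions of `C_A(t j : j)`: then `α = 1`.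
* `coset_fix` : the cosets are fixed if they are permuted by `α`, and by `S` as a Sylow 2-subgroup of the symmetric group.
-/

set_option autoImplicit false

namespace Cfsg.Agent.H763.Psa

open Subgroup Equiv
open Cfsg.Agent.TwoFusion.OddAut

variable {S : Type*} [Group S]

theorem isOddAut {α : MulAut S} {k : ℕ} (hk : Odd k) (hα : α ^ k = 1) : IsOddAut (⊤ : Subgroup S) (fun x => α x) := by
  refine ⟨fun x _ => mem_top _, fun x _ y _ => map_mul α x y, k, hk, fun x _ => ?_⟩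
  have : ∀ n : ℕ, ∀ y : S, (fun x => α x)^[n] y = (α ^ n) y := by
    intro n
    induction n with
    | zero => intro y; rfl
    | succ n ih =>
      intro y
      rw [Function.iterate_succ_apply, ih, pow_succ]
      rfl
  rw [this, hα]
  rfl

theorem exists_pow [Finite S] (h2 : IsPGroup 2 S) : ∃ m : ℕ, ∀ x : S, x ^ 2 ^ m = 1 := by
  obtain ⟨m, hm⟩ := IsPGroup.iff_card.1 h2
  exact ⟨m, fun x => by rw [← hm]; exact pow_card_eq_one'⟩

/-- **The abstract criterion.** -/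
theorem eq_one_of_cosets [Finite S] (h2 : IsPGroup 2 S) {ι : Type*} {α : MulAut S} {k : ℕ} (hk : Odd k) (hα : α ^ k = 1)
    (A : Subgroup S) (hcomm : ∀ a ∈ A, ∀ b ∈ A, a * b = b * a) (hA : ∀ a ∈ A, α a ∈ A) (t c : ι → S)
    (ht : ∀ j, ∃ a ∈ A, α (t j) = t j * a)
    (hc : ∀ j, ∀ a ∈ A, t j * a * (t j)⁻¹ * a⁻¹ ∈ zpowers (c j))
    (hc' : ∀ j, ∃ a ∈ A, t j * a * (t j)⁻¹ * a⁻¹ = c j)
    (hconj : ∀ s : S, ∀ j, ∃ i, s * c j * s⁻¹ ∈ zpowers (c i))
    (hcent : ∀ s : S, (∀ j, s * c j = c j * s) → s ∈ A)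
    (hinv : ∀ z ∈ A, z * z = 1 → (∀ j, z * t j = t j * z) → z ∈ closure (Set.range c)) : α = 1 := by
  obtain ⟨m, hm⟩ := exists_pow h2
  have hodd := isOddAut hk hα
  -- the basic formula
  have form : ∀ j, ∀ a ∈ A, α (t j * a * (t j)⁻¹ * a⁻¹) = t j * α a * (t j)⁻¹ * (α a)⁻¹ := by
    intro j a ha
    obtain ⟨b, hb, hbe⟩ := ht j
    rw [map_mul, map_mul, map_mul, map_inv, map_inv, hbe]
    have h1 : b * α a * b⁻¹ = α a := by rw [hcomm b hb _ (hA a ha), mul_inv_cancel_right]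
    calc t j * b * α a * (t j * b)⁻¹ * (α a)⁻¹ = t j * (b * α a * b⁻¹) * (t j)⁻¹ * (α a)⁻¹ := by group
      _ = _ := by rw [h1]
  -- the `c j` are fixed
  have hcfix : ∀ j, α (c j) = c j := by
    intro j
    obtain ⟨a, ha, hae⟩ := hc' j
    have h1 : α (c j) ∈ zpowers (c j) := by
      rw [← hae, form j a ha, hae]
      exact hc j _ (hA a ha)
    obtain ⟨i, hi⟩ := mem_zpowers_iff.1 h1
    have h3 : α (c j) = c j * c j ^ (i - 1) := by rw [← hi, ← zpow_one_add]; congr 1; ring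
    have h4 : c j ^ (i - 1) = 1 := by
      refine hodd.eq_one_of_eq_mul (g := c j) (mem_top _) (mem_top _) (j := i) (m := m) h3 ?_ (hm _)
      rw [map_zpow, ← hi, ← zpow_mul, ← zpow_mul, mul_comm]
    rw [h3, h4, mul_one]
  have hcz : ∀ j, ∀ x ∈ zpowers (c j), α x = x := by
    rintro j _ ⟨i, rfl⟩
    change α (c j ^ i) = c j ^ i
    rw [map_zpow, hcfix]
  have hD : ∀ x ∈ closure (Set.range c), α x = x := by
    intro x hx
    have : closure (Set.range c) ≤ (MonoidHom.eqLocus α.toMonoidHom (MonoidHom.id S)) := by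
      rw [closure_le]
      rintro _ ⟨j, rfl⟩
      exact hcfix j
    exact this hx
  -- `α` is trivial modulo `A`
  have hmod : ∀ s : S, s⁻¹ * α s ∈ A := by
    intro s
    refine hcent _ fun j => ?_
    obtain ⟨i, hi⟩ := hconj s j
    have h1 : α s * c j * (α s)⁻¹ = s * c j * s⁻¹ := by
      have := hcz i _ hi
      rwa [map_mul, map_mul, map_inv, hcfix] at this
    have h3 : α s * c j = s * c j * s⁻¹ * α s := by rw [← h1]; group
    rw [mul_assoc, h3]
    group
  -- the elements `a⁻¹ * α a` commute with the `t j`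
  have hB : ∀ a ∈ A, ∀ j, a⁻¹ * α a * t j = t j * (a⁻¹ * α a) := by
    intro a ha j
    have h1 := form j a ha
    rw [hcz j _ (hc j a ha)] at h1
    have h3 : (t j * a * (t j)⁻¹)⁻¹ * (t j * α a * (t j)⁻¹) = a⁻¹ * α a := by
      have e1 : t j * a * (t j)⁻¹ = (t j * a * (t j)⁻¹ * a⁻¹) * a := by group
      have e2 : t j * α a * (t j)⁻¹ = (t j * a * (t j)⁻¹ * a⁻¹) * α a := by rw [h1]; group
      rw [e2, e1]
      group
    have h4 : t j * (a⁻¹ * α a) * (t j)⁻¹ = a⁻¹ * α a := by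
      refine Eq.trans ?_ h3
      group
    rw [mul_inv_eq_iff_eq_mul] at h4
    exact h4.symm
  -- `α` is trivial on the centralizer of the `t j` in `A`
  have hBfix : ∀ n : ℕ, ∀ d ∈ A, d ^ 2 ^ n = 1 → (∀ j, d * t j = t j * d) → α d = d := by
    intro n
    induction n with
    | zero =>
      intro d _ hd _
      rw [pow_zero, pow_one] at hd
      rw [hd, map_one]
    | succ n ih =>
      intro d hdA hd hdt
      have h1 : α (d * d) = d * d := by
        refine ih _ (A.mul_mem hdA hdA) ?_ fun j => ?_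
        · rw [← pow_two, ← pow_mul, ← pow_succ', hd]
        · rw [mul_assoc, hdt, ← mul_assoc, hdt, mul_assoc]
      have heA : d⁻¹ * α d ∈ A := A.mul_mem (A.inv_mem hdA) (hA d hdA)
      have h3 : (d⁻¹ * α d) * (d⁻¹ * α d) = 1 := by
        have e1 : α d * d⁻¹ = d⁻¹ * α d := hcomm _ (hA d hdA) _ (A.inv_mem hdA)
        calc (d⁻¹ * α d) * (d⁻¹ * α d) = d⁻¹ * (α d * d⁻¹) * α d := by group
          _ = (d * d)⁻¹ * (α d * α d) := by rw [e1]; group
          _ = 1 := by rw [← map_mul, h1, inv_mul_cancel]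
      have h4 : α (d⁻¹ * α d) = d⁻¹ * α d := hD _ (hinv _ heA h3 (hB d hdA))
      have h5 := hodd.fix_of_eq_mul (g := d) (k := d⁻¹ * α d) (mem_top _) (mem_top _) (m := m) (by group) h4 (hm _)
      rw [inv_mul_eq_one] at h5
      exact h5.symm
  have hAfix : ∀ a ∈ A, α a = a := by
    intro a ha
    have h1 := hBfix m (a⁻¹ * α a) (A.mul_mem (A.inv_mem ha) (hA a ha)) (hm _) (hB a ha)
    have h5 := hodd.fix_of_eq_mul (g := a) (k := a⁻¹ * α a) (mem_top _) (mem_top _) (m := m) (by group) h1 (hm _)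
    rw [inv_mul_eq_one] at h5
    exact h5.symm
  ext s
  have h5 := hodd.fix_of_eq_mul (g := s) (k := s⁻¹ * α s) (mem_top _) (mem_top _) (m := m) (by group) (hAfix _ (hmod s)) (hm _)
  rw [inv_mul_eq_one] at h5
  exact h5.symm

/-- **The cosets are fixed.** -/
theorem coset_fix {ι : Type*} [Finite ι] {α : MulAut S} {k : ℕ} (hk : Odd k) (hα : α ^ k = 1)
    (A : Subgroup S) (hA : ∀ a ∈ A, α a ∈ A) (hAn : ∀ s : S, ∀ a ∈ A, s * a * s⁻¹ ∈ A) (t : ι → S) (π : S →* Perm ι)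
    (Q : Sylow 2 (Perm ι)) (hπ : π.range = Q)
    (hconj : ∀ (s : S) (j : ι), ∃ a ∈ A, s * t j * s⁻¹ = t (π s j) * a)
    (hinj : ∀ i j, (t i)⁻¹ * t j ∈ A → i = j)
    (hchar : ∀ j, ∃ i, ∃ a ∈ A, α (t j) = t i * a) : ∀ j, ∃ a ∈ A, α (t j) = t j * a := by
  classical
  choose σ hσ using hchar
  have hApow : ∀ n : ℕ, ∀ a ∈ A, (α ^ n) a ∈ A := by
    intro n
    induction n with
    | zero => intro a ha; exact ha
    | succ n ih =>
      intro a ha
      rw [pow_succ']
      exact hA _ (ih a ha)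
  have hAinv : ∀ a : S, α a ∈ A → a ∈ A := by
    intro a ha
    obtain ⟨l, hl⟩ := hk
    have h1 := hApow (2 * l) _ ha
    have h2 : (α ^ (2 * l)) (α a) = (α ^ k) a := by rw [hl, pow_succ]; rfl
    rw [h2, hα] at h1
    exact h1
  have hσinj : Function.Injective σ := by
    intro i j hij
    apply hinj
    apply hAinv
    obtain ⟨a, ha, h1⟩ := hσ i
    obtain ⟨b, hb, h3⟩ := hσ j
    rw [map_mul, map_inv, h1, h3, hij]
    have : (t (σ j) * a)⁻¹ * (t (σ j) * b) = a⁻¹ * b := by group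
    rw [this]
    exact A.mul_mem (A.inv_mem ha) hb
  have hσbij : Function.Bijective σ := Finite.injective_iff_bijective.1 hσinj
  set τ : Perm ι := Equiv.ofBijective σ hσbij with hτ
  have hτa : ∀ j, τ j = σ j := fun j => rfl
  -- iterates
  have hit : ∀ n : ℕ, ∀ j, ∃ a ∈ A, (α ^ n) (t j) = t ((τ ^ n) j) * a := by
    intro n
    induction n with
    | zero => intro j; exact ⟨1, A.one_mem, by simp⟩
    | succ n ih =>
      intro j
      obtain ⟨a, ha, h1⟩ := ih j
      obtain ⟨b, hb, h3⟩ := hσ ((τ ^ n) j)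
      refine ⟨b * α a, A.mul_mem hb (hA _ ha), ?_⟩
      rw [pow_succ', MulAut.mul_apply, h1, map_mul, h3, pow_succ', Perm.mul_apply, hτa, mul_assoc]
  have hτk : τ ^ k = 1 := by
    ext j
    obtain ⟨a, ha, h1⟩ := hit k j
    rw [hα] at h1
    symm
    apply hinj
    have h3 : (t j)⁻¹ * t ((τ ^ k) j) = a⁻¹ := by
      have h4 : t j = t ((τ ^ k) j) * a := h1
      rw [inv_mul_eq_iff_eq_mul, eq_mul_inv_iff_mul_eq]
      exact h4.symm
    change (t j)⁻¹ * t ((τ ^ k) j) ∈ A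
    rw [h3]
    exact A.inv_mem ha
  -- `τ` normalises `Q`
  have hcomm : ∀ s : S, τ * π s = π (α s) * τ := by
    intro s
    ext j
    apply hinj
    obtain ⟨a, ha, h1⟩ := hconj s j
    obtain ⟨b, hb, h3⟩ := hσ (π s j)
    obtain ⟨c, hc, h4⟩ := hσ j
    obtain ⟨d, hd, h5⟩ := hconj (α s) (σ j)
    have h6 : α s * α (t j) * (α s)⁻¹ = t (σ (π s j)) * (b * α a) := by
      rw [← map_inv, ← map_mul, ← map_mul, h1, map_mul, h3, mul_assoc]
    have h7 : α s * α (t j) * (α s)⁻¹ = t (π (α s) (σ j)) * (d * (α s * c * (α s)⁻¹)) := by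
      have e : t (π (α s) (σ j)) * (d * (α s * c * (α s)⁻¹)) = (t (π (α s) (σ j)) * d) * (α s * c * (α s)⁻¹) := by group
      rw [h4, e, ← h5]
      group
    rw [Perm.mul_apply, Perm.mul_apply, hτa, hτa]
    have h8 : t (σ (π s j)) * (b * α a) = t (π (α s) (σ j)) * (d * (α s * c * (α s)⁻¹)) := by rw [← h6, h7]
    have h9 : (t (σ (π s j)))⁻¹ * t (π (α s) (σ j)) = (b * α a) * (d * (α s * c * (α s)⁻¹))⁻¹ := by
      rw [inv_mul_eq_iff_eq_mul, ← mul_assoc, h8, mul_inv_cancel_right]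
    rw [h9]
    exact A.mul_mem (A.mul_mem hb (hA _ ha)) (A.inv_mem (A.mul_mem hd (hAn _ _ hc)))
  have hτN : τ ∈ normalizer ((Q : Subgroup (Perm ι)) : Set (Perm ι)) := by
    have hle : ∀ g ∈ (Q : Subgroup (Perm ι)), τ * g * τ⁻¹ ∈ (Q : Subgroup (Perm ι)) := by
      intro g hg
      rw [← hπ] at hg
      obtain ⟨s, rfl⟩ := hg
      rw [hcomm, mul_inv_cancel_right, ← hπ]
      exact ⟨_, rfl⟩
    have hle' : ∀ n : ℕ, ∀ g ∈ (Q : Subgroup (Perm ι)), τ ^ n * g * (τ ^ n)⁻¹ ∈ (Q : Subgroup (Perm ι)) := by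
      intro n
      induction n with
      | zero => intro g hg; simpa using hg
      | succ n ih =>
        intro g hg
        have := hle _ (ih g hg)
        rw [pow_succ']
        convert this using 1
        group
    rw [mem_normalizer_iff]
    intro g
    refine ⟨hle g, fun hg => ?_⟩
    obtain ⟨l, hl⟩ := hk
    have h1 := hle' (2 * l) _ hg
    have h3 : τ ^ (2 * l) = τ⁻¹ := by
      rw [eq_inv_iff_mul_eq_one, ← pow_succ, ← hl, hτk]
    rw [h3] at h1
    convert h1 using 1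
    group
  have hτ1 : τ = 1 :=
    H94.Syl2Sym.eq_one_of_normalizer Q (hk.of_dvd_nat (orderOf_dvd_of_pow_eq_one hτk)) hτN
  intro j
  obtain ⟨a, ha, h1⟩ := hσ j
  refine ⟨a, ha, ?_⟩
  rw [h1, ← hτa, hτ1]
  rfl

end Cfsg.Agent.H763.Psa
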