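import Mathlib
import Cfsg.Agent.FooteOdd.PSU
import Cfsg.Agent.H763.PsaAbs

/-!
# Block matrices for the Sylow 2-subgroups of `PSL_n(q)`, `q` odd (helper763, S5174)

`PDat P M D2 c0 t0` : facts about a Sylow 2-subgroup `P` of `GL_2(q)`: `M` is an abelian subgroup of index 2, `D2` the group of
scalars (the Sylow 2-subgroup of `Kˣ`), `⟨c0⟩ = M ∩ SL_2`, ...
-/

set_option autoImplicit false
set_option linter.unusedVariables false
set_option linter.unusedSectionVars false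

namespace Cfsg.Agent.H763.Psa

open Subgroup Equiv
open Cfsg.Agent.FooteOdd

variable {K : Type*} [Field K]

/-- `GL_2` -/
abbrev G2 (K : Type*) [Field K] := (Fin 2 → K) ≃ₗ[K] (Fin 2 → K)

/-- facts about a Sylow 2-subgroup of `GL_2(q)` or `GU_2(q)` -/
structure PDat (P M : Subgroup (G2 K)) (D2 : Subgroup Kˣ) (c0 t0 : G2 K) : Prop where
  MP : M ≤ P
  comm : ∀ a ∈ M, ∀ b ∈ M, a * b = b * a
  two : ∀ f ∈ P, ∀ g ∈ P, f ∉ M → g ∉ M → f * g ∈ M
  det_mem : ∀ f ∈ P, LinearEquiv.det f ∈ D2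
  sc_mem : ∀ d ∈ D2, sc d ∈ M
  c0M : c0 ∈ M
  c0det : LinearEquiv.det c0 = 1
  c0ord : ∃ w, 2 ≤ w ∧ orderOf c0 = 2 ^ w
  c0gen : ∀ a ∈ M, LinearEquiv.det a = 1 → a ∈ zpowers c0
  inv : ∀ f ∈ P, f ∉ M → f * c0 * f⁻¹ = c0⁻¹
  usurj : ∀ f ∈ P, f ∉ M → ∃ a ∈ M, f * a * f⁻¹ * a⁻¹ = c0
  fix : ∀ f ∈ P, f ∉ M → ∀ a ∈ M, f * a = a * f → ∃ d : Kˣ, a = sc d
  dsurj : ∀ d ∈ D2, ∃ a ∈ M, LinearEquiv.det a = d
  t0P : t0 ∈ P
  t0M : t0 ∉ M
  t0det : LinearEquiv.det t0 = 1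
  neg : ∃ k : ℤ, c0 ^ k = sc (-1)
  nonsq : ∃ d ∈ D2, ∀ e ∈ D2, e * e ≠ d
  sc_P : ∀ d : Kˣ, sc d ∈ P → d ∈ D2

theorem det_sc2 (d : Kˣ) : LinearEquiv.det (sc d : G2 K) = d * d := by
  rw [sc, det_dg, Fin.prod_univ_two]

theorem sc_inj {ι : Type*} [Nonempty ι] {c d : Kˣ} (h : (sc c : (ι → K) ≃ₗ[K] (ι → K)) = sc d) : c = d := by
  obtain ⟨i⟩ := ‹Nonempty ι›
  exact congrFun (dg_injective h) i

theorem sc_one {ι : Type*} : (sc 1 : (ι → K) ≃ₗ[K] (ι → K)) = 1 := by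
  ext v i; simp

theorem sc_inv {ι : Type*} (c : Kˣ) : (sc c : (ι → K) ≃ₗ[K] (ι → K))⁻¹ = sc c⁻¹ := by
  rw [inv_eq_iff_mul_eq_one, ← sc_mul, mul_inv_cancel, sc_one]

namespace PDat

variable {P M : Subgroup (G2 K)} {D2 : Subgroup Kˣ} {c0 t0 : G2 K} (h : PDat P M D2 c0 t0)

include h

theorem c0P : c0 ∈ P := h.MP h.c0M

theorem conj {f a : G2 K} (hf : f ∈ P) (ha : a ∈ M) : f * a * f⁻¹ ∈ M := by
  by_cases hfM : f ∈ M
  · exact M.mul_mem (M.mul_mem hfM ha) (M.inv_mem hfM)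
  · refine h.two _ (P.mul_mem hf (h.MP ha)) _ (P.inv_mem hf) (fun h1 => hfM ?_) (fun h1 => hfM ?_)
    · exact (M.mul_mem_cancel_right ha).1 h1
    · exact (M.inv_mem_iff).1 h1

theorem c0sq : c0 * c0 ≠ 1 := by
  obtain ⟨w, hw, hc⟩ := h.c0ord
  intro h1
  have h2 : orderOf c0 ∣ 2 := orderOf_dvd_of_pow_eq_one (by rw [pow_two]; exact h1)
  rw [hc] at h2
  have h3 : (2 : ℕ) ^ 2 ∣ 2 := (pow_dvd_pow 2 hw).trans h2
  norm_num at h3

theorem pow_sc {k : ℤ} {d : Kˣ} (hk : c0 ^ k = sc d) : d * d = 1 := by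
  have h1 := congrArg LinearEquiv.det hk
  rw [map_zpow, h.c0det, one_zpow, det_sc2] at h1
  exact h1.symm

theorem c0ns {d : Kˣ} (hd : c0 = sc d) : False := by
  have h1 : d * d = 1 := h.pow_sc (k := 1) (by rw [zpow_one]; exact hd)
  apply h.c0sq
  rw [hd, ← sc_mul, h1, sc_one]

/-- an element of `P` commuting with `c0` and `t0` is a scalar -/
theorem centr {g : G2 K} (hg : g ∈ P) (h1 : g * c0 = c0 * g) (h2 : g * t0 = t0 * g) : ∃ d : Kˣ, g = sc d := by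
  have hgM : g ∈ M := by
    by_contra hgM
    have h3 := h.inv g hg hgM
    rw [h1, mul_inv_cancel_right] at h3
    exact h.c0sq (eq_inv_iff_mul_eq_one.1 h3)
  exact h.fix t0 h.t0P h.t0M g hgM h2.symm

end PDat

section pairs

variable {α β : Type*}

/-- pairs -/
abbrev Pa (K : Type*) [Field K] (α β : Type*) := (α → G2 K) × (β → Kˣ)

/-- the entries of a pair, as elements of `GL_2` -/
def ent (a : Pa K α β) : α ⊕ β → G2 K := Sum.elim a.1 fun j => sc (a.2 j)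

@[simp] theorem ent_inl (a : Pa K α β) (i : α) : ent a (Sum.inl i) = a.1 i := rfl
@[simp] theorem ent_inr (a : Pa K α β) (j : β) : ent a (Sum.inr j) = sc (a.2 j) := rfl

@[simp] theorem ent_mul (a b : Pa K α β) (l : α ⊕ β) : ent (a * b) l = ent a l * ent b l := by
  rcases l with i | j
  · rfl
  · exact sc_mul _ _

@[simp] theorem ent_one (l : α ⊕ β) : ent (1 : Pa K α β) l = 1 := by
  rcases l with i | j
  · rfl
  · exact sc_one

@[simp] theorem ent_inv (a : Pa K α β) (l : α ⊕ β) : ent a⁻¹ l = (ent a l)⁻¹ := by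
  rw [eq_inv_iff_mul_eq_one, ← ent_mul, inv_mul_cancel, ent_one]

theorem ext_ent {a b : Pa K α β} (h : ∀ l, ent a l = ent b l) : a = b := by
  refine Prod.ext (funext fun i => h (Sum.inl i)) (funext fun j => sc_inj (h (Sum.inr j)))

/-- the action of a block matrix on block diagonal matrices -/
def cj (p : Pa K α β) (π : Perm α) (a : Pa K α β) : Pa K α β :=
  (fun i => p.1 i * a.1 (π⁻¹ i) * (p.1 i)⁻¹, a.2)

theorem cj_spec (p : Pa K α β) (π : Perm α) (a : Pa K α β) :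
    (J p * bp π) * J a * (J p * bp π)⁻¹ = J (cj p π a) := by
  have h1 := bp_J (K := K) (α := α) (β := β) π a
  calc (J p * bp π) * J a * (J p * bp π)⁻¹ = J p * (bp π * J a * (bp π)⁻¹) * (J p)⁻¹ := by group
    _ = J (p * (a.1 ∘ ⇑π⁻¹, a.2) * p⁻¹) := by rw [h1, map_mul, map_mul, map_inv]
    _ = _ := by
      congr 1
      refine Prod.ext rfl ?_
      change p.2 * a.2 * p.2⁻¹ = a.2
      rw [mul_comm p.2, mul_inv_cancel_right]

@[simp] theorem cj_inl (p : Pa K α β) (π : Perm α) (a : Pa K α β) (i : α) :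
    ent (cj p π a) (Sum.inl i) = p.1 i * ent a (Sum.inl (π⁻¹ i)) * (p.1 i)⁻¹ := rfl

@[simp] theorem cj_inr (p : Pa K α β) (π : Perm α) (a : Pa K α β) (j : β) :
    ent (cj p π a) (Sum.inr j) = ent a (Sum.inr j) := rfl

theorem sc_eq_J (c : Kˣ) : (sc c : (Ix α β → K) ≃ₗ[K] (Ix α β → K)) = J (fun _ => sc c, fun _ => c) := by
  ext v (⟨i, s⟩ | j)
  · simp
  · simp

theorem ent_sc (c : Kˣ) (l : α ⊕ β) : ent ((fun _ => sc c, fun _ => c) : Pa K α β) l = sc c := by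
  rcases l with i | j <;> rfl

/-- equality of block matrices up to scalars -/
theorem J_eq_sc_mul {a b : Pa K α β} {c : Kˣ} (h : J a = sc c * J b) (l : α ⊕ β) : ent a l = sc c * ent b l := by
  rw [sc_eq_J, ← map_mul] at h
  rw [J_injective h, ent_mul, ent_sc]

variable [DecidableEq α] [DecidableEq β]

/-- one entry in `α` -/
def sg (i : α) (x : G2 K) : Pa K α β := (Pi.mulSingle i x, 1)

theorem sg_same (i : α) (x : G2 K) : ent (sg (β := β) i x) (Sum.inl i) = x := Pi.mulSingle_eq_same _ _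

theorem sg_ne {i : α} {l : α ⊕ β} (h : l ≠ Sum.inl i) (x : G2 K) : ent (sg (β := β) i x) l = 1 := by
  rcases l with i' | j
  · exact Pi.mulSingle_eq_of_ne (fun h1 => h (by rw [h1])) _
  · exact sc_one

theorem sg_mul (i : α) (x y : G2 K) : sg (β := β) i (x * y) = sg i x * sg i y := by
  refine Prod.ext (Pi.mulSingle_mul _ _ _) (by simp [sg])

theorem sg_one (i : α) : sg (β := β) i (1 : G2 K) = 1 := Prod.ext (Pi.mulSingle_one _) rfl

theorem sg_inv (i : α) (x : G2 K) : sg (β := β) i x⁻¹ = (sg i x)⁻¹ := by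
  rw [eq_inv_iff_mul_eq_one, ← sg_mul, inv_mul_cancel, sg_one]

end pairs

end Cfsg.Agent.H763.Psa
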