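import Mathlib
import Cfsg.Agent.H763.PsaBlk

/-!
# Odd automorphisms of the Sylow 2-subgroups of `PSL_n(q)`, `n ≥ 5` (helper763, S5174)
-/

set_option autoImplicit false
set_option linter.unusedVariables false
set_option linter.unusedSectionVars false

namespace Cfsg.Agent.H763.Psa

open Subgroup Equiv
open Cfsg.Agent.FooteOdd

variable {K : Type*} [Field K] {α β : Type*} [Fintype α] [DecidableEq α] [Fintype β] [DecidableEq β]

/-- block diagonal matrices with entries in `P` and determinant 1 -/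
def IsB (P : Subgroup (G2 K)) (D2 : Subgroup Kˣ) (a : Pa K α β) : Prop :=
  (∀ i, a.1 i ∈ P) ∧ (∀ j, a.2 j ∈ D2) ∧ LinearEquiv.det (J a) = 1

/-- the model of a Sylow 2-subgroup of `SL_n(q)` -/
noncomputable def St (α β : Type*) [Fintype α] [DecidableEq α] [Fintype β] [DecidableEq β] (P : Subgroup (G2 K)) (D2 : Subgroup Kˣ)
    (Q : Subgroup (Perm α)) : Subgroup ((Ix α β → K) ≃ₗ[K] (Ix α β → K)) :=
  R P D2 Q ⊓ (LinearEquiv.det : ((Ix α β → K) ≃ₗ[K] (Ix α β → K)) →* Kˣ).ker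

/-- a quotient by the scalars -/
structure Mod (α β : Type*) [Fintype α] [DecidableEq α] [Fintype β] [DecidableEq β] (P : Subgroup (G2 K)) (D2 : Subgroup Kˣ)
    (Q : Subgroup (Perm α)) (S : Type*) [Group S] where
  Ψ : ((Ix α β → K) ≃ₗ[K] (Ix α β → K)) → S
  mul : ∀ g ∈ St α β P D2 Q, ∀ h ∈ St α β P D2 Q, Ψ (g * h) = Ψ g * Ψ h
  surj : ∀ s : S, ∃ g ∈ St α β P D2 Q, Ψ g = s
  ker : ∀ g ∈ St α β P D2 Q, (Ψ g = 1 ↔ ∃ c : Kˣ, g = sc c)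

variable {P M : Subgroup (G2 K)} {D2 : Subgroup Kˣ} {c0 t0 : G2 K} {Q : Subgroup (Perm α)} {S : Type*} [Group S]

theorem IsB.mul {a b : Pa K α β} (ha : IsB P D2 a) (hb : IsB P D2 b) : IsB P D2 (a * b) :=
  ⟨fun i => P.mul_mem (ha.1 i) (hb.1 i), fun j => D2.mul_mem (ha.2.1 j) (hb.2.1 j), by
    rw [map_mul, map_mul, ha.2.2, hb.2.2, one_mul]⟩

theorem IsB.inv {a : Pa K α β} (ha : IsB P D2 a) : IsB P D2 a⁻¹ :=
  ⟨fun i => P.inv_mem (ha.1 i), fun j => D2.inv_mem (ha.2.1 j), by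
    rw [map_inv, map_inv, ha.2.2, inv_one]⟩

theorem IsB.one : IsB P D2 (1 : Pa K α β) :=
  ⟨fun i => P.one_mem, fun j => D2.one_mem, by rw [map_one, map_one]⟩

theorem IsB.mono {a : Pa K α β} {P' : Subgroup (G2 K)} (h : P ≤ P') (ha : IsB P D2 a) : IsB P' D2 a :=
  ⟨fun i => h (ha.1 i), ha.2.1, ha.2.2⟩

theorem IsB.mem {a : Pa K α β} (ha : IsB P D2 a) : J a ∈ St α β P D2 Q :=
  ⟨⟨a, 1, Q.one_mem, ha.1, ha.2.1, by rw [map_one, mul_one]⟩, ha.2.2⟩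

theorem det_sg (i : α) (x : G2 K) : LinearEquiv.det (J (sg (β := β) i x)) = LinearEquiv.det x := by
  rw [det_J]
  have h1 : ∀ i', LinearEquiv.det ((sg (β := β) i x).1 i') = (Pi.mulSingle i (LinearEquiv.det x) : α → Kˣ) i' := by
    intro i'
    change LinearEquiv.det ((Pi.mulSingle i x : α → G2 K) i') = _
    by_cases hi : i' = i
    · subst hi; rw [Pi.mulSingle_eq_same, Pi.mulSingle_eq_same]
    · rw [Pi.mulSingle_eq_of_ne hi, Pi.mulSingle_eq_of_ne hi, map_one]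
  rw [Finset.prod_congr rfl fun i' _ => h1 i', Finset.prod_pi_mulSingle']
  simp [sg]

theorem isB_sg {i : α} {x : G2 K} (hx : x ∈ P) (hd : LinearEquiv.det x = 1) : IsB P D2 (sg (β := β) i x) := by
  refine ⟨fun i' => ?_, fun j => D2.one_mem, by rw [det_sg, hd]⟩
  change (Pi.mulSingle i x : α → G2 K) i' ∈ P
  rw [Pi.mulSingle_apply]; split_ifs
  · exact hx
  · exact P.one_mem

theorem bp_mem_St {π : Perm α} (hπ : π ∈ Q) : (bp π : (Ix α β → K) ≃ₗ[K] (Ix α β → K)) ∈ St α β P D2 Q :=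
  ⟨⟨1, π, hπ, fun i => P.one_mem, fun j => D2.one_mem, by simp⟩, det_bp π⟩

theorem exists_of_mem {g : (Ix α β → K) ≃ₗ[K] (Ix α β → K)} (hg : g ∈ St α β P D2 Q) :
    ∃ p : Pa K α β, ∃ π ∈ Q, IsB P D2 p ∧ g = J p * bp π := by
  obtain ⟨⟨p, π, hπ, h1, h2, rfl⟩, h3⟩ := hg
  refine ⟨p, π, hπ, ⟨h1, h2, ?_⟩, rfl⟩
  have h4 : LinearEquiv.det (J p * bp π) = 1 := h3
  rwa [map_mul, det_bp, mul_one] at h4

theorem mem_St {p : Pa K α β} (hp : IsB P D2 p) {π : Perm α} (hπ : π ∈ Q) :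
    (J p * bp π : (Ix α β → K) ≃ₗ[K] (Ix α β → K)) ∈ St α β P D2 Q := mul_mem hp.mem (bp_mem_St hπ)

theorem cj_isB {p : Pa K α β} (hp : IsB P D2 p) {π : Perm α} (hπ : π ∈ Q) {a : Pa K α β} (ha : IsB P D2 a) :
    IsB P D2 (cj p π a) := by
  refine ⟨fun i => P.mul_mem (P.mul_mem (hp.1 i) (ha.1 _)) (P.inv_mem (hp.1 i)), ha.2.1, ?_⟩
  rw [← cj_spec, map_mul, map_mul, ha.2.2, mul_one, map_inv, mul_inv_cancel]

/-- adjusting the determinant -/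
theorem exists_adj (h : PDat P M D2 c0 t0) (k : α ⊕ β) {δ : Kˣ} (hδ : δ ∈ D2) :
    ∃ b : Pa K α β, (∀ i, b.1 i ∈ M) ∧ (∀ j, b.2 j ∈ D2) ∧ LinearEquiv.det (J b) = δ ∧ ∀ l, l ≠ k → ent b l = 1 := by
  rcases k with i | j
  · obtain ⟨x, hx, hxd⟩ := h.dsurj δ hδ
    refine ⟨sg i x, fun i' => ?_, fun j => D2.one_mem, by rw [det_sg, hxd], fun l hl => sg_ne hl x⟩
    change (Pi.mulSingle i x : α → G2 K) i' ∈ M
    rw [Pi.mulSingle_apply]; split_ifs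
    · exact hx
    · exact M.one_mem
  · refine ⟨(1, Pi.mulSingle j δ), fun i' => M.one_mem, fun j' => ?_, ?_, fun l hl => ?_⟩
    · change (Pi.mulSingle j δ : β → Kˣ) j' ∈ D2
      rw [Pi.mulSingle_apply]; split_ifs
      · exact hδ
      · exact D2.one_mem
    · rw [det_J, Finset.prod_pi_mulSingle']
      simp
    · rcases l with i' | j'
      · rfl
      · change sc ((Pi.mulSingle j δ : β → Kˣ) j') = 1
        rw [Pi.mulSingle_eq_of_ne (fun h1 => hl (by rw [h1])), sc_one]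

/-- elements of `A` with a given entry -/
theorem exists_A (h : PDat P M D2 c0 t0) {i : α} {k : α ⊕ β} (hk : k ≠ Sum.inl i) {g : G2 K} (hg : g ∈ M) :
    ∃ a : Pa K α β, IsB M D2 a ∧ ent a (Sum.inl i) = g ∧ ∀ l, l ≠ Sum.inl i → l ≠ k → ent a l = 1 := by
  obtain ⟨b, h1, h2, h3, h4⟩ := exists_adj (α := α) (β := β) h k (D2.inv_mem (h.det_mem g (h.MP hg)))
  refine ⟨sg i g * b, ⟨fun i' => ?_, fun j => ?_, ?_⟩, ?_, fun l hl hlk => ?_⟩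
  · refine M.mul_mem ?_ (h1 i')
    change (Pi.mulSingle i g : α → G2 K) i' ∈ M
    rw [Pi.mulSingle_apply]; split_ifs
    · exact hg
    · exact M.one_mem
  · exact D2.mul_mem D2.one_mem (h2 j)
  · rw [map_mul, map_mul, det_sg, h3, mul_inv_cancel]
  · rw [ent_mul, sg_same, h4 _ hk.symm, mul_one]
  · rw [ent_mul, sg_ne hl, h4 _ hlk, mul_one]

namespace Mod

variable (md : Mod α β P D2 Q S)

theorem one : md.Ψ 1 = 1 := (md.ker 1 (one_mem _)).2 ⟨1, sc_one.symm⟩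

theorem inv {g : (Ix α β → K) ≃ₗ[K] (Ix α β → K)} (hg : g ∈ St α β P D2 Q) : md.Ψ g⁻¹ = (md.Ψ g)⁻¹ := by
  rw [eq_inv_iff_mul_eq_one, ← md.mul _ (inv_mem hg) _ hg, inv_mul_cancel, md.one]

theorem eq_iff {g g' : (Ix α β → K) ≃ₗ[K] (Ix α β → K)} (hg : g ∈ St α β P D2 Q) (hg' : g' ∈ St α β P D2 Q) :
    md.Ψ g = md.Ψ g' ↔ ∃ c : Kˣ, g = sc c * g' := by
  rw [← mul_inv_eq_one, ← md.inv hg', ← md.mul _ hg _ (inv_mem hg'), md.ker _ (mul_mem hg (inv_mem hg'))]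
  refine exists_congr fun c => mul_inv_eq_iff_eq_mul

/-- the entries of elements with the same image -/
theorem ent_eq {a b : Pa K α β} (ha : IsB P D2 a) (hb : IsB P D2 b) (h : md.Ψ (J a) = md.Ψ (J b)) :
    ∃ c : Kˣ, ∀ l, ent a l = sc c * ent b l := by
  obtain ⟨c, hc⟩ := (md.eq_iff ha.mem hb.mem).1 h
  exact ⟨c, J_eq_sc_mul hc⟩

theorem Jmul {a b : Pa K α β} (ha : IsB P D2 a) (hb : IsB P D2 b) : md.Ψ (J (a * b)) = md.Ψ (J a) * md.Ψ (J b) := by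
  rw [map_mul, md.mul _ ha.mem _ hb.mem]

theorem Jinv {a : Pa K α β} (ha : IsB P D2 a) : md.Ψ (J a⁻¹) = (md.Ψ (J a))⁻¹ := by
  rw [map_inv, md.inv ha.mem]

theorem conj_eq {p : Pa K α β} (hp : IsB P D2 p) {π : Perm α} (hπ : π ∈ Q) {a : Pa K α β} (ha : IsB P D2 a) :
    md.Ψ (J p * bp π) * md.Ψ (J a) * (md.Ψ (J p * bp π))⁻¹ = md.Ψ (J (cj p π a)) := by
  have hx : (J p * bp π : (Ix α β → K) ≃ₗ[K] (Ix α β → K)) ∈ St α β P D2 Q := mem_St hp hπ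
  have hJa : (J a : (Ix α β → K) ≃ₗ[K] (Ix α β → K)) ∈ St α β P D2 Q := ha.mem
  rw [← cj_spec, md.mul _ (mul_mem hx hJa) _ (inv_mem hx), md.mul _ hx _ hJa, md.inv hx]

theorem comm_eq {p : Pa K α β} (hp : IsB P D2 p) {π : Perm α} (hπ : π ∈ Q) {a : Pa K α β} (ha : IsB P D2 a) :
    md.Ψ (J p * bp π) * md.Ψ (J a) * (md.Ψ (J p * bp π))⁻¹ * (md.Ψ (J a))⁻¹ = md.Ψ (J (cj p π a * a⁻¹)) := by
  rw [md.conj_eq hp hπ ha, md.Jmul (cj_isB hp hπ ha) ha.inv, md.Jinv ha]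

/-- the permutation of the blocks is determined by the image -/
theorem perm_eq {p p' : Pa K α β} (hp : IsB P D2 p) (hp' : IsB P D2 p') {π π' : Perm α} (hπ : π ∈ Q) (hπ' : π' ∈ Q)
    (h : md.Ψ (J p * bp π) = md.Ψ (J p' * bp π')) : π = π' := by
  obtain ⟨c, hc⟩ := (md.eq_iff (mem_St hp hπ) (mem_St hp' hπ')).1 h
  rw [sc_eq_J, ← mul_assoc, ← map_mul] at hc
  have h1 : J (((fun _ => sc c, fun _ => c) * p')⁻¹ * p) = bp (π' * π⁻¹) := by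
    have h2 : (bp (π' * π⁻¹) : (Ix α β → K) ≃ₗ[K] (Ix α β → K)) = bp π' * (bp π)⁻¹ := by rw [map_mul, map_inv]
    rw [h2, map_mul, map_inv, inv_mul_eq_iff_eq_mul, ← mul_assoc, ← hc, mul_inv_cancel_right]
  exact (mul_inv_eq_one.1 (eq_one_of_J_eq_bp h1)).symm

/-- the subgroup `A` -/
def A (hMP : M ≤ P) : Subgroup S where
  carrier := {s | ∃ a : Pa K α β, IsB M D2 a ∧ md.Ψ (J a) = s}
  mul_mem' := by
    rintro _ _ ⟨a, ha, rfl⟩ ⟨b, hb, rfl⟩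
    exact ⟨a * b, ha.mul hb, md.Jmul (ha.mono hMP) (hb.mono hMP)⟩
  one_mem' := ⟨1, IsB.one, by rw [map_one, md.one]⟩
  inv_mem' := by
    rintro _ ⟨a, ha, rfl⟩
    exact ⟨a⁻¹, ha.inv, md.Jinv (ha.mono hMP)⟩

theorem mem_A {hMP : M ≤ P} {s : S} : s ∈ md.A hMP ↔ ∃ a : Pa K α β, IsB M D2 a ∧ md.Ψ (J a) = s := Iff.rfl

end Mod

end Cfsg.Agent.H763.Psa
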