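import Mathlib
import Cfsg.Agent.H763.PsaMod
import Cfsg.Agent.TwoFusion.CyclicAut

/-!
# Odd automorphisms of the Sylow 2-subgroups of `PSL_n(q)`, `n ≥ 5`, continued (helper763, S5174)
-/

set_option autoImplicit false
set_option linter.unusedVariables false
set_option linter.unusedSectionVars false

namespace Cfsg.Agent.H763.Psa

open Subgroup Equiv
open Cfsg.Agent.FooteOdd

variable {K : Type*} [Field K] {α β : Type*} [Fintype α] [DecidableEq α] [Fintype β] [DecidableEq β]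
variable {P M : Subgroup (G2 K)} {D2 : Subgroup Kˣ} {c0 t0 : G2 K} {Q : Subgroup (Perm α)} {S : Type*} [Group S]

theorem conj_sc {f x : G2 K} {c : Kˣ} (h : f * x * f⁻¹ = sc c) : x = sc c := by
  have h1 : x = f⁻¹ * (f * x * f⁻¹) * f := by group
  rw [h1, h, ← sc_comm, inv_mul_cancel_right]

/-- the entries of the commutator with an element with one entry -/
theorem comm_sg (p : Pa K α β) {π : Perm α} {i : α} (hi : π i ≠ i) (x : G2 K) :
    ent (cj p π (sg i x) * (sg i x)⁻¹) (Sum.inl (π i)) = p.1 (π i) * x * (p.1 (π i))⁻¹ ∧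
    ent (cj p π (sg i x) * (sg i x)⁻¹) (Sum.inl i) = x⁻¹ ∧
    ∀ l, l ≠ Sum.inl i → l ≠ Sum.inl (π i) → ent (cj p π (sg i x) * (sg i x)⁻¹) l = 1 := by
  refine ⟨?_, ?_, ?_⟩
  · rw [ent_mul, ent_inv, cj_inl, show π⁻¹ (π i) = i from π.symm_apply_apply i, sg_same,
      sg_ne (fun h => hi (Sum.inl.inj h)), inv_one, mul_one]
  · rw [ent_mul, ent_inv, cj_inl, sg_same, sg_ne, mul_one, mul_inv_cancel, one_mul]
    intro h
    have h1 : π⁻¹ i = i := Sum.inl.inj h
    exact hi (by conv_lhs => rw [← h1]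
                 exact π.apply_symm_apply i)
  · intro l hl hl'
    rw [ent_mul, ent_inv, sg_ne hl, inv_one, mul_one]
    rcases l with l | j
    · rw [cj_inl, sg_ne, mul_one, mul_inv_cancel]
      intro h
      have h1 : π⁻¹ l = i := Sum.inl.inj h
      apply hl'
      rw [← h1, show π (π⁻¹ l) = l from π.apply_symm_apply l]
    · rw [cj_inr, sg_ne hl]

theorem cj_sg (p : Pa K α β) (π : Perm α) (i : α) (x : G2 K) :
    cj p π (sg i x) = sg (π i) (p.1 (π i) * x * (p.1 (π i))⁻¹) := by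
  apply ext_ent
  intro l
  by_cases hl : l = Sum.inl (π i)
  · subst hl
    rw [cj_inl, sg_same, show π⁻¹ (π i) = i from π.symm_apply_apply i, sg_same]
  · rw [sg_ne hl]
    rcases l with l | j
    · rw [cj_inl, sg_ne, mul_one, mul_inv_cancel]
      intro h
      have h1 : π⁻¹ l = i := Sum.inl.inj h
      apply hl
      rw [← h1, show π (π⁻¹ l) = l from π.apply_symm_apply l]
    · rw [cj_inr, sg_ne (by simp)]

namespace Mod

variable (md : Mod α β P D2 Q S)

/-- **A normal abelian subgroup is contained in `A`** (at least three places). -/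
theorem le_A (h : PDat P M D2 c0 t0) (h3 : ∀ l l' : α ⊕ β, ∃ k, k ≠ l ∧ k ≠ l') (N : Subgroup S) (hN : N.Normal)
    (hab : ∀ a ∈ N, ∀ b ∈ N, a * b = b * a) : N ≤ md.A h.MP := by
  intro s hs
  obtain ⟨g, hg, rfl⟩ := md.surj s
  obtain ⟨p, π, hπ, hp, rfl⟩ := exists_of_mem hg
  have key : ∀ b, IsB P D2 b → ∃ c : Kˣ, ∀ l, ent (cj p π (cj p π b * b⁻¹)) l = sc c * ent (cj p π b * b⁻¹) l := by
    intro b hb
    have hy : md.Ψ (J (cj p π b * b⁻¹)) ∈ N := by
      rw [← md.comm_eq hp hπ hb, mul_assoc, mul_assoc, ← mul_assoc (md.Ψ (J b))]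
      exact N.mul_mem hs (hN.conj_mem _ (N.inv_mem hs) _)
    have hyB : IsB P D2 (cj p π b * b⁻¹) := (cj_isB hp hπ hb).mul hb.inv
    refine md.ent_eq (cj_isB hp hπ hyB) hyB ?_
    rw [← md.conj_eq hp hπ hyB, hab _ hs _ hy, mul_inv_cancel_right]
  have hπ1 : π = 1 := by
    by_contra hne
    obtain ⟨i, hi⟩ : ∃ i, π i ≠ i := by
      by_contra hcon
      push Not at hcon
      exact hne (Equiv.ext hcon)
    obtain ⟨c, hc⟩ := key (sg i c0) (isB_sg h.c0P h.c0det)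
    obtain ⟨e1, e2, e3⟩ := comm_sg p hi c0
    have f1 := hc (Sum.inl (π i))
    rw [cj_inl, show π⁻¹ (π i) = i from π.symm_apply_apply i, e1, e2] at f1
    have f2 : c0⁻¹ = sc c * c0 := by
      have h1 : p.1 (π i) * c0⁻¹ * (p.1 (π i))⁻¹ = p.1 (π i) * (sc c * c0) * (p.1 (π i))⁻¹ := by
        rw [f1, ← mul_assoc, ← mul_assoc, ← mul_assoc, sc_comm]
      exact mul_left_cancel (mul_right_cancel h1)
    have f3 : sc c ≠ (1 : G2 K) := by
      intro h1
      rw [h1, one_mul] at f2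
      exact h.c0sq (inv_eq_iff_mul_eq_one.1 f2)
    obtain ⟨k, hk1, hk2⟩ := h3 (Sum.inl i) (Sum.inl (π i))
    have f4 := hc k
    rw [e3 k hk1 hk2, mul_one] at f4
    rcases k with k | k
    · rw [cj_inl] at f4
      by_cases hk3 : π⁻¹ k = π i
      · rw [hk3, e1] at f4
        exact h.c0ns (conj_sc (conj_sc f4))
      · rw [e3 (Sum.inl (π⁻¹ k)), mul_one, mul_inv_cancel] at f4
        · exact f3 f4.symm
        · intro h1
          have h2 : π⁻¹ k = i := Sum.inl.inj h1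
          apply hk2
          rw [← h2, show π (π⁻¹ k) = k from π.apply_symm_apply k]
        · intro h1
          exact hk3 (Sum.inl.inj h1)
    · rw [cj_inr, e3 _ hk1 hk2] at f4
      exact f3 f4.symm
  subst hπ1
  have hpM : ∀ i, p.1 i ∈ M := by
    intro i
    by_contra hi
    obtain ⟨g, hgM, hgc⟩ := h.usurj _ (hp.1 i) hi
    obtain ⟨k, hk, _⟩ := h3 (Sum.inl i) (Sum.inl i)
    obtain ⟨l, hl1, hl2⟩ := h3 (Sum.inl i) k
    obtain ⟨a, ha, ha1, ha2⟩ := exists_A h hk hgM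
    obtain ⟨c, hc⟩ := key a (ha.mono h.MP)
    have e1 : ent (cj p 1 a * a⁻¹) (Sum.inl i) = c0 := by
      rw [ent_mul, ent_inv, cj_inl, inv_one, Perm.one_apply, ha1, hgc]
    have e2 : ent (cj p 1 a * a⁻¹) l = 1 := by
      rw [ent_mul, ent_inv, ha2 l hl1 hl2, inv_one, mul_one]
      rcases l with l | l
      · rw [cj_inl, inv_one, Perm.one_apply, ha2 _ hl1 hl2, mul_one, mul_inv_cancel]
      · rw [cj_inr, ha2 _ hl1 hl2]
    have e3 : sc c = (1 : G2 K) := by
      have h1 := hc l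
      rw [e2, mul_one] at h1
      rw [← h1]
      rcases l with l | l
      · rw [cj_inl, inv_one, Perm.one_apply, e2, mul_one, mul_inv_cancel]
      · rw [cj_inr, e2]
    have h1 := hc (Sum.inl i)
    rw [cj_inl, inv_one, Perm.one_apply, e1, e3, one_mul, h.inv _ (hp.1 i) hi] at h1
    exact h.c0sq (inv_eq_iff_mul_eq_one.1 h1)
  exact ⟨p, ⟨hpM, hp.2.1, hp.2.2⟩, by rw [map_one, mul_one]⟩

/-- an element acting on `A` with the commutators in a cyclic group of order `|c0|` -/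
theorem char_t (h : PDat P M D2 c0 t0) (h3 : ∀ l l' : α ⊕ β, ∃ k, k ≠ l ∧ k ≠ l') {y c : S}
    (hcord : orderOf c = orderOf c0) (hyc : ∀ a ∈ md.A h.MP, y * a * y⁻¹ * a⁻¹ ∈ zpowers c) :
    y ∈ md.A h.MP ∨ ∃ j, ∃ a ∈ md.A h.MP, y = md.Ψ (J (sg j t0)) * a := by
  obtain ⟨g, hg, rfl⟩ := md.surj y
  obtain ⟨p, π, hπ, hp, rfl⟩ := exists_of_mem hg
  obtain ⟨w, hw, hcw⟩ := h.c0ord
  have key : ∀ b, IsB M D2 b → md.Ψ (J (cj p π b * b⁻¹)) ∈ zpowers c := by
    intro b hb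
    rw [← md.comm_eq hp hπ (hb.mono h.MP)]
    exact hyc _ ⟨b, hb, rfl⟩
  have hfin : Finite (zpowers c) := by
    have : 0 < orderOf c := by rw [hcord, hcw]; positivity
    exact (orderOf_pos_iff.1 this).finite_zpowers
  -- powers of images
  have hpow : ∀ b : Pa K α β, IsB P D2 b → ∀ s : ℤ, md.Ψ (J b) ^ s = md.Ψ (J (b ^ s)) ∧ IsB P D2 (b ^ s) := by
    intro b hb s
    have h1 : ∀ n : ℕ, md.Ψ (J b) ^ n = md.Ψ (J (b ^ n)) ∧ IsB P D2 (b ^ n) := by
      intro n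
      induction n with
      | zero => rw [pow_zero, pow_zero, map_one, md.one]; exact ⟨rfl, IsB.one⟩
      | succ n ih => rw [pow_succ, pow_succ, ih.1, md.Jmul ih.2 hb]; exact ⟨rfl, ih.2.mul hb⟩
    obtain ⟨n, rfl | rfl⟩ := s.eq_nat_or_neg
    · rw [zpow_natCast, zpow_natCast]; exact h1 n
    · rw [zpow_neg, zpow_neg, zpow_natCast, zpow_natCast, (h1 n).1, md.Jinv (h1 n).2]
      exact ⟨rfl, (h1 n).2.inv⟩
  have entpow : ∀ (b : Pa K α β) (s : ℤ) (l : α ⊕ β), ent (b ^ s) l = ent b l ^ s := by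
    intro b s l
    let f : Pa K α β →* G2 K := ⟨⟨fun b => ent b l, ent_one l⟩, fun b b' => ent_mul b b' l⟩
    exact map_zpow f b s
  -- equal orders give equal cyclic groups
  have hzp : ∀ u ∈ zpowers c, ∀ v ∈ zpowers c, orderOf u = orderOf v → u ∈ zpowers v := by
    intro u hu v hv huv
    have h1 := TwoFusion.CyclicAut.zpowers_eq_of_orderOf_eq (C := zpowers c) ⟨u, hu⟩ ⟨v, hv⟩
      (by rw [orderOf_mk, orderOf_mk]; exact huv)
    have h2 : (⟨u, hu⟩ : zpowers c) ∈ zpowers (⟨v, hv⟩ : zpowers c) := by rw [← h1]; exact mem_zpowers _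
    obtain ⟨s, hs⟩ := mem_zpowers_iff.1 h2
    exact ⟨s, congrArg Subtype.val hs⟩
  -- images of elements with one trivial entry
  have hinj : ∀ b : Pa K α β, IsB P D2 b → ∀ k : α ⊕ β, ent b k = 1 → ∀ s : ℤ, md.Ψ (J b) ^ s = 1 → ∀ l, ent b l ^ s = 1 := by
    intro b hb k hk s hs l
    obtain ⟨e1, e2⟩ := hpow b hb s
    rw [e1, (md.ker _ e2.mem)] at hs
    obtain ⟨d, hd⟩ := hs
    have h1 : J (b ^ s) = sc d * J (1 : Pa K α β) := by rw [hd, map_one, mul_one]
    have h2 := J_eq_sc_mul h1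
    have h4 := h2 k
    rw [entpow, hk, one_zpow, ent_one, mul_one] at h4
    have h5 := h2 l
    rw [entpow, ent_one, mul_one, ← h4] at h5
    exact h5
  have hord1 : ∀ b : Pa K α β, IsB P D2 b → ∀ k : α ⊕ β, ent b k = 1 → ∀ l, orderOf (ent b l) ∣ orderOf (md.Ψ (J b)) := by
    intro b hb k hk l
    have h1 := hinj b hb k hk (orderOf (md.Ψ (J b))) (by rw [zpow_natCast, pow_orderOf_eq_one]) l
    rw [zpow_natCast] at h1
    exact orderOf_dvd_of_pow_eq_one h1
  have hord2 : ∀ b : Pa K α β, IsB P D2 b → ∀ n : ℕ, (∀ l, ent b l ^ n = 1) → orderOf (md.Ψ (J b)) ∣ n := by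
    intro b hb n hn
    apply orderOf_dvd_of_pow_eq_one
    have h1 := (hpow b hb n).1
    rw [zpow_natCast, zpow_natCast] at h1
    rw [h1]
    have h2 : b ^ n = 1 := ext_ent fun l => by
      have := entpow b n l
      rw [zpow_natCast, zpow_natCast] at this
      rw [this, hn, ent_one]
    rw [h2, map_one, md.one]
  have hπ1 : π = 1 := by
    by_contra hne
    obtain ⟨i, hi⟩ : ∃ i, π i ≠ i := by
      by_contra hcon
      push Not at hcon
      exact hne (Equiv.ext hcon)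
    obtain ⟨e1, e2, e3⟩ := comm_sg p hi c0
    obtain ⟨k, hk1, hk2⟩ := h3 (Sum.inl i) (Sum.inl (π i))
    have hB0 : IsB M D2 (sg (β := β) i c0) := isB_sg h.c0M h.c0det
    have hvB : IsB P D2 (cj p π (sg i c0) * (sg i c0)⁻¹) := (cj_isB hp hπ (hB0.mono h.MP)).mul (hB0.mono h.MP).inv
    set v := cj p π (sg i c0) * (sg i c0)⁻¹ with hv
    have hvc : md.Ψ (J v) ∈ zpowers c := key _ hB0
    have hvord : orderOf (md.Ψ (J v)) = orderOf c := by
      rw [hcord]
      apply Nat.dvd_antisymm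
      · refine hord2 v hvB _ fun l => ?_
        by_cases hl1 : l = Sum.inl i
        · rw [hl1, e2, inv_pow, pow_orderOf_eq_one, inv_one]
        · by_cases hl2 : l = Sum.inl (π i)
          · rw [hl2, e1, conj_pow, pow_orderOf_eq_one, mul_one, mul_inv_cancel]
          · rw [e3 l hl1 hl2, one_pow]
      · have := hord1 v hvB k (e3 k hk1 hk2) (Sum.inl i)
        rwa [e2, orderOf_inv] at this
    have hall : ∀ b, IsB M D2 b → ∃ (d : Kˣ) (s : ℤ), ∀ l, ent (cj p π b * b⁻¹) l = sc d * ent v l ^ s := by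
      intro b hb
      have h1 : zpowers c ≤ zpowers (md.Ψ (J v)) := by
        rw [zpowers_le]
        exact hzp _ (mem_zpowers c) _ hvc hvord.symm
      obtain ⟨s, hs⟩ := mem_zpowers_iff.1 (h1 (key b hb))
      rw [(hpow v hvB s).1] at hs
      obtain ⟨d, hd⟩ := md.ent_eq ((cj_isB hp hπ (hb.mono h.MP)).mul (hb.mono h.MP).inv) (hpow v hvB s).2 hs.symm
      refine ⟨d, s, fun l => ?_⟩
      rw [hd l, entpow]
    by_cases hii : π (π i) = i
    · obtain ⟨δ, hδ, hδn⟩ := h.nonsq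
      obtain ⟨x, hx, hxd⟩ := h.dsurj δ hδ
      obtain ⟨b, hb, hb1, hb2⟩ := exists_A h hk1 hx
      obtain ⟨d, s, hds⟩ := hall b hb
      have h1 := hds (Sum.inl i)
      have h2 : π⁻¹ i = π i := by rw [Perm.inv_eq_iff_eq, hii]
      rw [ent_mul, ent_inv, cj_inl, h2, hb2 _ (fun h => hi (Sum.inl.inj h)) (Ne.symm hk2), mul_one, mul_inv_cancel, one_mul,
        hb1, e2] at h1
      have h0 : d ∈ D2 := by
        refine h.sc_P d ?_
        have h5 : sc d = x⁻¹ * (c0⁻¹ ^ s)⁻¹ := by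
          rw [h1, mul_inv_cancel_right]
        rw [h5]
        exact P.mul_mem (P.inv_mem (h.MP hx)) (P.inv_mem (P.zpow_mem (P.inv_mem h.c0P) _))
      have h4 := congrArg LinearEquiv.det h1
      rw [map_inv, map_mul, map_zpow, map_inv, h.c0det, inv_one, one_zpow, mul_one, det_sc2, hxd] at h4
      apply hδn d⁻¹ (D2.inv_mem h0)
      rw [← mul_inv, ← h4, inv_inv]
    · obtain ⟨d, s, hds⟩ := hall (sg (π i) c0) (isB_sg h.c0M h.c0det)
      have hj : π (π i) ≠ π i := fun h1 => hi (π.injective h1)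
      obtain ⟨g1, g2, g3⟩ := comm_sg p hj c0
      have h1 := hds (Sum.inl (π (π i)))
      rw [g1, e3 _ (fun h => hii (Sum.inl.inj h)) (fun h => hj (Sum.inl.inj h)), one_zpow, mul_one] at h1
      exact h.c0ns (conj_sc h1)
  subst hπ1
  by_cases hall : ∀ i, p.1 i ∈ M
  · left
    exact ⟨p, ⟨hall, hp.2.1, hp.2.2⟩, by rw [map_one, mul_one]⟩
  push Not at hall
  obtain ⟨j, hj⟩ := hall
  -- the commutator with `sg i c0`
  have hcs : ∀ i, p.1 i ∉ M → md.Ψ (J (sg i (c0⁻¹ * c0⁻¹))) ∈ zpowers c := by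
    intro i hi
    have h1 := key (sg i c0) (isB_sg h.c0M h.c0det)
    have h2 : cj p 1 (sg i c0) * (sg i c0)⁻¹ = sg i (c0⁻¹ * c0⁻¹) := by
      rw [cj_sg, Perm.one_apply, h.inv _ (hp.1 i) hi, sg_mul, sg_inv]
    rwa [h2] at h1
  have honly : ∀ i, i ≠ j → p.1 i ∈ M := by
    intro i hij
    by_contra hi
    obtain ⟨k, hk1, hk2⟩ := h3 (Sum.inl i) (Sum.inl j)
    have hd : LinearEquiv.det (c0⁻¹ * c0⁻¹) = 1 := by rw [map_mul, map_inv, h.c0det]; simp
    have hcP : c0⁻¹ * c0⁻¹ ∈ P := P.mul_mem (P.inv_mem h.c0P) (P.inv_mem h.c0P)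
    have hBi : ∀ i : α, IsB P D2 (sg (β := β) i (c0⁻¹ * c0⁻¹)) := fun i => isB_sg hcP hd
    have ho : ∀ i : α, (Sum.inl i : α ⊕ β) ≠ k →
        orderOf (md.Ψ (J (sg (β := β) i (c0⁻¹ * c0⁻¹)))) = orderOf (c0⁻¹ * c0⁻¹) := by
      intro i hik
      apply Nat.dvd_antisymm
      · refine hord2 _ (hBi i) _ fun l => ?_
        by_cases hl : l = Sum.inl i
        · rw [hl, sg_same, pow_orderOf_eq_one]
        · rw [sg_ne hl, one_pow]
      · have := hord1 _ (hBi i) k (sg_ne (Ne.symm hik) _) (Sum.inl i)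
        rwa [sg_same] at this
    have h1 := hzp _ (hcs i hi) _ (hcs j hj) (by rw [ho i (Ne.symm hk1), ho j (Ne.symm hk2)])
    obtain ⟨s, hs⟩ := mem_zpowers_iff.1 h1
    rw [(hpow _ (hBi j) s).1] at hs
    obtain ⟨d, hd⟩ := md.ent_eq (hBi i) (hpow _ (hBi j) s).2 hs.symm
    have h4 := hd k
    rw [sg_ne hk1, entpow, sg_ne hk2, one_zpow, mul_one] at h4
    have h5 := hd (Sum.inl i)
    rw [sg_same, entpow, sg_ne (fun h => hij (Sum.inl.inj h)), one_zpow, mul_one, ← h4, ← mul_inv_rev, inv_eq_one] at h5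
    exact h.c0sq h5
  right
  refine ⟨j, md.Ψ (J (sg j t0⁻¹ * p)), ⟨sg j t0⁻¹ * p, ⟨fun i => ?_, fun j' => ?_, ?_⟩, rfl⟩, ?_⟩
  · change ent (sg (β := β) j t0⁻¹) (Sum.inl i) * p.1 i ∈ M
    by_cases hij : i = j
    · subst hij
      rw [sg_same]
      exact h.two _ (P.inv_mem h.t0P) _ (hp.1 i) (fun h1 => h.t0M (M.inv_mem_iff.1 h1)) hj
    · rw [sg_ne (fun h => hij (Sum.inl.inj h)), one_mul]
      exact honly i hij
  · exact D2.mul_mem D2.one_mem (hp.2.1 j')
  · rw [map_mul, map_mul, det_sg, map_inv, h.t0det, hp.2.2]; simp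
  · have hB1 : IsB P D2 (sg (β := β) j t0) := isB_sg h.t0P h.t0det
    have hB2 : IsB P D2 (sg (β := β) j t0⁻¹) := isB_sg (P.inv_mem h.t0P) (by rw [map_inv, h.t0det, inv_one])
    rw [← md.Jmul hB1 (hB2.mul hp), ← mul_assoc, ← sg_mul, mul_inv_cancel, sg_one, one_mul, map_one, mul_one]

end Mod

end Cfsg.Agent.H763.Psa
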