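import Mathlib
import Cfsg.Agent.H763.PsaFive

/-!
# Odd automorphisms of the Sylow 2-subgroups of `PSL_n(q)`: assembly (helper763, S5174)
-/

set_option autoImplicit false
set_option linter.unusedVariables false
set_option linter.unusedSectionVars false

namespace Cfsg.Agent.H763.Psa

open Subgroup Equiv
open Cfsg.Agent.FooteOdd

variable {K : Type*} [Field K] {α β : Type*} [Fintype α] [DecidableEq α] [Fintype β] [DecidableEq β]
variable {P M : Subgroup (G2 K)} {D2 : Subgroup Kˣ} {c0 t0 : G2 K} {Q : Subgroup (Perm α)} {S : Type*} [Group S]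

theorem PDat.conj_c0 (h : PDat P M D2 c0 t0) {f : G2 K} (hf : f ∈ P) : f * c0 * f⁻¹ = c0 ∨ f * c0 * f⁻¹ = c0⁻¹ := by
  by_cases hfM : f ∈ M
  · left
    rw [h.comm f hfM c0 h.c0M, mul_inv_cancel_right]
  · exact Or.inr (h.inv f hf hfM)

theorem PDat.sc_mem_P (h : PDat P M D2 c0 t0) {d : Kˣ} (hd : sc d ∈ P) : d ∈ D2 := h.sc_P d hd

theorem sg_zpow (i : α) (x : G2 K) (n : ℤ) : sg (β := β) i (x ^ n) = sg i x ^ n := by
  let f : G2 K →* Pa K α β := ⟨⟨sg i, sg_one i⟩, fun x y => sg_mul i x y⟩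
  exact map_zpow f x n

namespace Mod

variable (md : Mod α β P D2 Q S)

/-- the elements `t j` -/
def t (md : Mod α β P D2 Q S) (t0 : G2 K) (j : α) : S := md.Ψ (J (sg j t0))

theorem zpow_sg {x : G2 K} (hx : x ∈ P) (hd : LinearEquiv.det x = 1) (i : α) (n : ℤ) :
    md.Ψ (J (sg i x)) ^ n = md.Ψ (J (sg i (x ^ n))) := by
  let f : ↥(P ⊓ (LinearEquiv.det : G2 K →* Kˣ).ker) →* S :=
    { toFun := fun x => md.Ψ (J (sg i (x : G2 K)))
      map_one' := by
        change md.Ψ (J (sg i 1)) = 1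
        rw [sg_one, map_one, md.one]
      map_mul' := fun x y => by
        change md.Ψ (J (sg i ((x : G2 K) * y))) = _
        rw [sg_mul, md.Jmul (isB_sg x.2.1 x.2.2) (isB_sg y.2.1 y.2.2)] }
  exact (map_zpow f ⟨x, hx, hd⟩ n).symm

/-- the commutators with `t j` -/
theorem comm_t (h : PDat P M D2 c0 t0) (j : α) {a : Pa K α β} (ha : IsB M D2 a) :
    md.t t0 j * md.Ψ (J a) * (md.t t0 j)⁻¹ * (md.Ψ (J a))⁻¹ = md.Ψ (J (sg j (t0 * a.1 j * t0⁻¹ * (a.1 j)⁻¹))) := by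
  have hB : IsB P D2 (sg (β := β) j t0) := isB_sg h.t0P h.t0det
  have h1 := md.comm_eq hB (one_mem Q) (ha.mono h.MP)
  rw [map_one, mul_one] at h1
  rw [t, h1]
  congr 2
  apply ext_ent
  intro l
  by_cases hl : l = Sum.inl j
  · subst hl
    rw [ent_mul, ent_inv, cj_inl, sg_same, inv_one, Perm.one_apply]
    change ent (sg (β := β) j t0) (Sum.inl j) * a.1 j * (ent (sg (β := β) j t0) (Sum.inl j))⁻¹ * (a.1 j)⁻¹ = _
    rw [sg_same]
  · rw [ent_mul, ent_inv, sg_ne hl]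
    rcases l with l | l
    · rw [cj_inl, inv_one, Perm.one_apply]
      change ent (sg (β := β) j t0) (Sum.inl l) * a.1 l * (ent (sg (β := β) j t0) (Sum.inl l))⁻¹ * (a.1 l)⁻¹ = _
      rw [sg_ne hl, inv_one, one_mul, mul_one, mul_inv_cancel]
    · rw [cj_inr, mul_inv_cancel]

theorem hcomm (h : PDat P M D2 c0 t0) : ∀ a ∈ md.A h.MP, ∀ b ∈ md.A h.MP, a * b = b * a := by
  rintro _ ⟨a, ha, rfl⟩ _ ⟨b, hb, rfl⟩
  rw [← md.Jmul (ha.mono h.MP) (hb.mono h.MP), ← md.Jmul (hb.mono h.MP) (ha.mono h.MP)]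
  congr 2
  exact Prod.ext (funext fun i => h.comm _ (ha.1 i) _ (hb.1 i)) (mul_comm _ _)

theorem hnorm (h : PDat P M D2 c0 t0) : ∀ s : S, ∀ a ∈ md.A h.MP, s * a * s⁻¹ ∈ md.A h.MP := by
  rintro s _ ⟨a, ha, rfl⟩
  obtain ⟨g, hg, rfl⟩ := md.surj s
  obtain ⟨p, π, hπ, hp, rfl⟩ := exists_of_mem hg
  rw [md.conj_eq hp hπ (ha.mono h.MP)]
  have h1 := cj_isB hp hπ (ha.mono h.MP)
  exact ⟨_, ⟨fun i => h.conj (hp.1 i) (ha.1 _), h1.2.1, h1.2.2⟩, rfl⟩

/-- an element commuting with the `c j` is in `A` -/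
theorem hcent (h : PDat P M D2 c0 t0) (h2 : ∀ l : α ⊕ β, ∃ k, k ≠ l) (s : S)
    (hs : ∀ j, s * md.t c0 j = md.t c0 j * s) : s ∈ md.A h.MP := by
  obtain ⟨g, hg, rfl⟩ := md.surj s
  obtain ⟨p, π, hπ, hp, rfl⟩ := exists_of_mem hg
  have hB : ∀ j : α, IsB P D2 (sg (β := β) j c0) := fun j => isB_sg h.c0P h.c0det
  have key : ∀ j, ∃ d : Kˣ, ∀ l, ent (cj p π (sg j c0)) l = sc d * ent (sg j c0) l := by
    intro j
    refine md.ent_eq (cj_isB hp hπ (hB j)) (hB j) ?_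
    rw [← md.conj_eq hp hπ (hB j)]
    exact mul_inv_eq_iff_eq_mul.2 (hs j)
  have hπ1 : π = 1 := by
    refine Equiv.ext fun j => ?_
    rw [Perm.one_apply]
    by_contra hj
    obtain ⟨d, hd⟩ := key j
    have h1 := hd (Sum.inl j)
    rw [cj_sg, sg_ne (fun h => hj (Sum.inl.inj h).symm), sg_same] at h1
    have h3 : c0 = sc d⁻¹ := by
      rw [← sc_inv, eq_inv_iff_mul_eq_one, ← sc_comm]
      exact h1.symm
    exact h.c0ns h3
  subst hπ1
  refine ⟨p, ⟨fun j => ?_, hp.2.1, hp.2.2⟩, by rw [map_one, mul_one]⟩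
  by_contra hj
  obtain ⟨d, hd⟩ := key j
  obtain ⟨k, hk⟩ := h2 (Sum.inl j)
  have h1 := hd k
  rw [cj_sg, Perm.one_apply, sg_ne hk, sg_ne hk, mul_one] at h1
  have h3 := hd (Sum.inl j)
  rw [cj_sg, Perm.one_apply, sg_same, sg_same, ← h1, one_mul, h.inv _ (hp.1 j) hj] at h3
  exact h.c0sq (inv_eq_iff_mul_eq_one.1 h3)

/-- the involutions of `A` commuting with the `t j` -/
theorem hinv [Nonempty α] [Subsingleton β] (two : (2 : K) ≠ 0) (h : PDat P M D2 c0 t0) (h2 : ∀ l : α ⊕ β, ∃ k, k ≠ l) :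
    ∀ z ∈ md.A h.MP, z * z = 1 → (∀ j, z * md.t t0 j = md.t t0 j * z) → z ∈ closure (Set.range (md.t c0)) := by
  rintro _ ⟨a, ha, rfl⟩ hz hzt
  have haP := ha.mono h.MP
  -- the entries in `α` are scalars
  have h1 : ∀ j, ∃ d : Kˣ, a.1 j = sc d := by
    intro j
    have hB : IsB P D2 (sg (β := β) j t0) := isB_sg h.t0P h.t0det
    have h3 := md.comm_t h j ha
    rw [← hzt j, mul_inv_cancel_right, mul_inv_cancel] at h3
    have hc : IsB P D2 (sg (β := β) j (t0 * a.1 j * t0⁻¹ * (a.1 j)⁻¹)) := by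
      refine isB_sg (P.mul_mem (P.mul_mem (P.mul_mem h.t0P (haP.1 j)) (P.inv_mem h.t0P)) (P.inv_mem (haP.1 j))) ?_
      rw [map_mul, map_mul, map_mul, map_inv, map_inv]
      rw [mul_comm (LinearEquiv.det t0), mul_inv_cancel_right, mul_inv_cancel]
    obtain ⟨d, hd⟩ := (md.ker _ hc.mem).1 h3.symm
    have h4 : J (sg (β := β) j (t0 * a.1 j * t0⁻¹ * (a.1 j)⁻¹)) = sc d * J (1 : Pa K α β) := by rw [hd, map_one, mul_one]
    have h5 := J_eq_sc_mul h4
    obtain ⟨k, hk⟩ := h2 (Sum.inl j)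
    have h6 := h5 k
    rw [sg_ne hk, ent_one, mul_one] at h6
    have h7 := h5 (Sum.inl j)
    rw [sg_same, ent_one, ← h6, mul_one, mul_inv_eq_one, mul_inv_eq_iff_eq_mul] at h7
    exact h.fix t0 h.t0P h.t0M _ (ha.1 j) h7
  choose e he using h1
  -- the square is a scalar
  obtain ⟨c, hc⟩ : ∃ c : Kˣ, ∀ l, ent a l * ent a l = sc c := by
    rw [← md.Jmul haP haP] at hz
    obtain ⟨c, hc⟩ := (md.ker _ (haP.mul haP).mem).1 hz
    have h4 : J (a * a) = sc c * J (1 : Pa K α β) := by rw [hc, map_one, mul_one]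
    refine ⟨c, fun l => ?_⟩
    have h5 := J_eq_sc_mul h4 l
    rwa [ent_mul, ent_one, mul_one] at h5
  have he2 : ∀ i, e i * e i = c := by
    intro i
    have := hc (Sum.inl i)
    rw [ent_inl, he, ← sc_mul] at this
    exact sc_inj this
  have hb2 : ∀ j, a.2 j * a.2 j = c := by
    intro j
    have := hc (Sum.inr j)
    rw [ent_inr, ← sc_mul] at this
    exact sc_inj this
  obtain ⟨ν, hν, hνb⟩ : ∃ ν : Kˣ, ν * ν = c ∧ ∀ j, a.2 j = ν := by
    rcases isEmpty_or_nonempty β with hβ | ⟨⟨j⟩⟩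
    · obtain ⟨i⟩ := ‹Nonempty α›
      exact ⟨e i, he2 i, fun j => (hβ.false j).elim⟩
    · exact ⟨a.2 j, hb2 j, fun j' => by rw [Subsingleton.elim j' j]⟩
  -- the signs
  have hε : ∀ i, e i * ν⁻¹ = 1 ∨ e i * ν⁻¹ = -1 := by
    intro i
    have h3 : ((e i * ν⁻¹ : Kˣ) : K) * ((e i * ν⁻¹ : Kˣ) : K) = 1 := by
      rw [← Units.val_mul, mul_mul_mul_comm, he2, ← mul_inv, hν, mul_inv_cancel, Units.val_one]
    rcases mul_self_eq_one_iff.1 h3 with h4 | h4
    · exact Or.inl (Units.ext (by rw [h4, Units.val_one]))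
    · exact Or.inr (Units.ext (by rw [h4, Units.val_neg, Units.val_one]))
  set b : Pa K α β := (fun i => sc (e i * ν⁻¹), 1) with hb
  have hab : J a = sc ν * J b := by
    rw [sc_eq_J, ← map_mul]
    congr 1
    refine Prod.ext (funext fun i => ?_) (funext fun j => ?_)
    · change a.1 i = sc ν * sc (e i * ν⁻¹)
      rw [he, ← sc_mul, mul_comm (e i), mul_inv_cancel_left]
    · change a.2 j = ν * 1
      rw [mul_one, hνb]
  obtain ⟨k0, hk0⟩ := h.neg
  -- each sign is a power of `c0`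
  have hs : ∀ i, ∃ m : ℤ, sc (e i * ν⁻¹) = c0 ^ m := by
    intro i
    rcases hε i with h4 | h4
    · exact ⟨0, by rw [h4, sc_one, zpow_zero]⟩
    · exact ⟨k0, by rw [h4, hk0]⟩
  choose m hm using hs
  have hB : ∀ x : α → Multiplicative ℤ, IsB P D2 ((fun i => c0 ^ (x i).toAdd, 1) : Pa K α β) := by
    intro x
    refine ⟨fun i => P.zpow_mem h.c0P _, fun j => D2.one_mem, ?_⟩
    rw [det_J]
    simp [map_zpow, h.c0det]
  let φ : (α → Multiplicative ℤ) →* S :=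
    { toFun := fun x => md.Ψ (J (fun i => c0 ^ (x i).toAdd, 1))
      map_one' := by
        have : ((fun i => c0 ^ ((1 : α → Multiplicative ℤ) i).toAdd, 1) : Pa K α β) = 1 := by
          refine Prod.ext (funext fun i => ?_) rfl
          change c0 ^ (0 : ℤ) = 1
          exact zpow_zero _
        rw [this, map_one, md.one]
      map_mul' := fun x y => by
        rw [← md.Jmul (hB x) (hB y)]
        congr 2
        refine Prod.ext (funext fun i => ?_) (mul_one _).symm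
        change c0 ^ ((x i).toAdd + (y i).toAdd) = c0 ^ (x i).toAdd * c0 ^ (y i).toAdd
        exact zpow_add _ _ _ }
  have hφ : (fun i => Multiplicative.ofAdd (m i)) ∈ (closure (Set.range (md.t c0))).comap φ := by
    refine pi_mem_of_mulSingle_mem _ fun i => ?_
    change φ (Pi.mulSingle i (Multiplicative.ofAdd (m i))) ∈ closure (Set.range (md.t c0))
    have h3 : φ (Pi.mulSingle i (Multiplicative.ofAdd (m i))) = md.t c0 i ^ m i := by
      rw [t, md.zpow_sg h.c0P h.c0det]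
      change md.Ψ (J _) = _
      congr 2
      refine Prod.ext (funext fun i' => ?_) rfl
      change c0 ^ ((Pi.mulSingle i (Multiplicative.ofAdd (m i)) : α → Multiplicative ℤ) i').toAdd = (Pi.mulSingle i (c0 ^ m i) : α → G2 K) i'
      by_cases hi : i' = i
      · subst hi
        rw [Pi.mulSingle_eq_same, Pi.mulSingle_eq_same]
        rfl
      · rw [Pi.mulSingle_eq_of_ne hi, Pi.mulSingle_eq_of_ne hi]
        exact zpow_zero _
    rw [h3]
    exact zpow_mem (subset_closure (Set.mem_range_self i)) _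
  have hφb : φ (fun i => Multiplicative.ofAdd (m i)) = md.Ψ (J a) := by
    have h3 : φ (fun i => Multiplicative.ofAdd (m i)) = md.Ψ (J b) := by
      change md.Ψ (J _) = _
      congr 2
      exact Prod.ext (funext fun i => (hm i).symm) rfl
    rw [h3, eq_comm, md.eq_iff haP.mem]
    · exact ⟨ν, hab⟩
    · have h4 := (hB fun i => Multiplicative.ofAdd (m i)).mem (Q := Q)
      have h5 : ((fun i => c0 ^ ((fun i => Multiplicative.ofAdd (m i)) i : Multiplicative ℤ).toAdd, 1) : Pa K α β) = b :=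
        Prod.ext (funext fun i => (hm i).symm) rfl
      rwa [h5] at h4
  rw [← hφb]
  exact hφ

theorem t_mem_A (h : PDat P M D2 c0 t0) (j : α) : md.t c0 j ∈ md.A h.MP := ⟨_, isB_sg h.c0M h.c0det, rfl⟩

/-- **The automorphism is trivial if it fixes `A` and the cosets `t j * A`.** -/
theorem eq_one_of_fix [Nonempty α] [Subsingleton β] [Finite S] (hS : IsPGroup 2 S) (two : (2 : K) ≠ 0) (h : PDat P M D2 c0 t0)
    (h2 : ∀ l : α ⊕ β, ∃ k, k ≠ l) {φ : MulAut S} {k : ℕ} (hk : Odd k) (hφ : φ ^ k = 1)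
    (hA : ∀ a ∈ md.A h.MP, φ a ∈ md.A h.MP) (ht : ∀ j, ∃ a ∈ md.A h.MP, φ (md.t t0 j) = md.t t0 j * a) : φ = 1 := by
  refine eq_one_of_cosets hS hk hφ (md.A h.MP) (md.hcomm h) hA (md.t t0) (md.t c0) ht ?_ ?_ ?_ (fun s hs => md.hcent h h2 s hs)
    (md.hinv two h h2)
  · rintro j _ ⟨a, ha, rfl⟩
    rw [md.comm_t h j ha]
    have h1 : t0 * a.1 j * t0⁻¹ * (a.1 j)⁻¹ ∈ zpowers c0 := by
      refine h.c0gen _ (M.mul_mem (h.conj h.t0P (ha.1 j)) (M.inv_mem (ha.1 j))) ?_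
      rw [map_mul, map_mul, map_mul, map_inv, map_inv, mul_comm (LinearEquiv.det t0), mul_inv_cancel_right, mul_inv_cancel]
    obtain ⟨n, hn⟩ := mem_zpowers_iff.1 h1
    rw [← hn, ← md.zpow_sg h.c0P h.c0det]
    exact zpow_mem (mem_zpowers _) _
  · intro j
    obtain ⟨g, hg, hgc⟩ := h.usurj _ h.t0P h.t0M
    obtain ⟨k, hk⟩ := h2 (Sum.inl j)
    obtain ⟨a, ha, ha1, ha2⟩ := exists_A h hk hg
    refine ⟨_, ⟨a, ha, rfl⟩, ?_⟩
    rw [md.comm_t h j ha]
    have : a.1 j = g := ha1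
    rw [this, hgc]
    rfl
  · intro s j
    obtain ⟨g, hg, rfl⟩ := md.surj s
    obtain ⟨p, π, hπ, hp, rfl⟩ := exists_of_mem hg
    refine ⟨π j, ?_⟩
    change md.Ψ (J p * bp π) * md.Ψ (J (sg j c0)) * (md.Ψ (J p * bp π))⁻¹ ∈ zpowers (md.Ψ (J (sg (π j) c0)))
    rw [md.conj_eq hp hπ (isB_sg h.c0P h.c0det), cj_sg]
    rcases h.conj_c0 (hp.1 (π j)) with h1 | h1
    · rw [h1]
      exact mem_zpowers _
    · rw [h1]
      have := md.zpow_sg h.c0P h.c0det (π j) (-1)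
      rw [zpow_neg_one c0] at this
      rw [← this]
      exact zpow_mem (mem_zpowers _) _

/-- the permutation of the blocks -/
theorem exists_perm : ∃ ρ : S →* Perm α, ρ.range = Q ∧
    ∀ (p : Pa K α β) (π : Perm α), IsB P D2 p → π ∈ Q → ρ (md.Ψ (J p * bp π)) = π := by
  have hex : ∀ s : S, ∃ π : Perm α, π ∈ Q ∧ ∃ p : Pa K α β, IsB P D2 p ∧ md.Ψ (J p * bp π) = s := by
    intro s
    obtain ⟨g, hg, rfl⟩ := md.surj s
    obtain ⟨p, π, hπ, hp, rfl⟩ := exists_of_mem hg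
    exact ⟨π, hπ, p, hp, rfl⟩
  choose f hf hf' using hex
  have huniq : ∀ (p : Pa K α β) (π : Perm α), IsB P D2 p → π ∈ Q → f (md.Ψ (J p * bp π)) = π := by
    intro p π hp hπ
    obtain ⟨p', hp', h1⟩ := hf' (md.Ψ (J p * bp π))
    exact md.perm_eq hp' hp (hf _) hπ h1
  refine ⟨MonoidHom.mk' f ?_, ?_, huniq⟩
  · intro s s'
    obtain ⟨p, hp, h1⟩ := hf' s
    obtain ⟨p', hp', h2⟩ := hf' s'
    set π := f s with hπ
    set π' := f s' with hπ'
    have hπQ : π ∈ Q := hf s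
    have hπQ' : π' ∈ Q := hf s'
    have h3 : s * s' = md.Ψ (J (p * cj 1 π p') * bp (π * π')) := by
      rw [← h1, ← h2, ← md.mul _ (mem_St hp hπQ) _ (mem_St hp' hπQ')]
      congr 1
      have h4 := cj_spec (K := K) (β := β) 1 π p'
      rw [map_one, one_mul] at h4
      have h5 : (bp (π * π') : (Ix α β → K) ≃ₗ[K] (Ix α β → K)) = bp π * bp π' := map_mul _ _ _
      rw [map_mul, ← h4, h5]
      group
    rw [h3]
    exact huniq _ _ (hp.mul (cj_isB IsB.one hπQ hp')) (Q.mul_mem hπQ hπQ')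
  · ext π
    constructor
    · rintro ⟨s, rfl⟩
      exact hf s
    · intro hπ
      refine ⟨md.Ψ (J 1 * bp π), huniq _ _ IsB.one hπ⟩

/-- the order of the image of an element with one entry -/
theorem sg_eq_one (h2 : ∀ l : α ⊕ β, ∃ k, k ≠ l) {j : α} {x : G2 K} (hx : x ∈ P) (hd : LinearEquiv.det x = 1)
    (h1 : md.Ψ (J (sg j x)) = 1) : x = 1 := by
  obtain ⟨k, hk⟩ := h2 (Sum.inl j)
  have hB : IsB P D2 (sg (β := β) j x) := isB_sg hx hd
  obtain ⟨d, hd'⟩ := (md.ker _ hB.mem).1 h1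
  have h4 : J (sg (β := β) j x) = sc d * J (1 : Pa K α β) := by rw [hd', map_one, mul_one]
  have h5 := J_eq_sc_mul h4
  have h6 := h5 k
  rw [sg_ne hk, ent_one, mul_one] at h6
  have h7 := h5 (Sum.inl j)
  rwa [sg_same, ent_one, ← h6, mul_one] at h7

theorem orderOf_sg (h2 : ∀ l : α ⊕ β, ∃ k, k ≠ l) (j : α) {x : G2 K} (hx : x ∈ P) (hd : LinearEquiv.det x = 1) :
    orderOf (md.Ψ (J (sg j x))) = orderOf x := by
  apply Nat.dvd_antisymm
  · apply orderOf_dvd_of_pow_eq_one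
    have := md.zpow_sg hx hd j (orderOf x)
    rw [zpow_natCast, zpow_natCast, pow_orderOf_eq_one, sg_one, map_one, md.one] at this
    exact this
  · apply orderOf_dvd_of_pow_eq_one
    have := md.zpow_sg hx hd j (orderOf (md.Ψ (J (sg j x))))
    rw [zpow_natCast, zpow_natCast, pow_orderOf_eq_one] at this
    exact md.sg_eq_one h2 (P.pow_mem hx _) (by rw [map_pow, hd, one_pow]) this.symm

theorem t_notMem (h : PDat P M D2 c0 t0) (h2 : ∀ l : α ⊕ β, ∃ k, k ≠ l) (j : α) : md.t t0 j ∉ md.A h.MP := by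
  intro h1
  have h4 := md.comm_t h j (isB_sg (i := j) h.c0M h.c0det : IsB M D2 (sg (β := β) j c0))
  have h5 := md.hcomm h _ h1 _ (md.t_mem_A h j)
  change md.t t0 j * md.t c0 j * (md.t t0 j)⁻¹ * (md.t c0 j)⁻¹ = _ at h4
  rw [h5, mul_inv_cancel_right, mul_inv_cancel] at h4
  have h6 : (sg (β := β) j c0).1 j = c0 := sg_same (β := β) j c0
  rw [h6, h.inv t0 h.t0P h.t0M] at h4
  have h7 := md.sg_eq_one h2 (P.mul_mem (P.inv_mem h.c0P) (P.inv_mem h.c0P)) (by rw [map_mul, map_inv, h.c0det]; simp) h4.symm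
  rw [← mul_inv_rev, inv_eq_one] at h7
  exact h.c0sq h7

include md in
/-- **At least three places.** -/
theorem eq_one_five [Nonempty α] [Subsingleton β] [Finite S] (hS : IsPGroup 2 S) (two : (2 : K) ≠ 0) (h : PDat P M D2 c0 t0)
    (QS : Sylow 2 (Perm α)) (hQS : (QS : Subgroup (Perm α)) = Q)
    (h3 : ∀ l l' : α ⊕ β, ∃ k, k ≠ l ∧ k ≠ l') {φ : MulAut S} {k : ℕ} (hk : Odd k) (hφ : φ ^ k = 1) : φ = 1 := by
  have h2 : ∀ l : α ⊕ β, ∃ k, k ≠ l := fun l => by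
    obtain ⟨k, hk, _⟩ := h3 l l
    exact ⟨k, hk⟩
  have hA : ∀ a ∈ md.A h.MP, φ a ∈ md.A h.MP := by
    intro a ha
    have hn : ((md.A h.MP).map φ.toMonoidHom).Normal := by
      refine ⟨?_⟩
      rintro _ ⟨x, hx, rfl⟩ g
      refine ⟨φ⁻¹ g * x * (φ⁻¹ g)⁻¹, md.hnorm h _ _ hx, ?_⟩
      change φ (φ⁻¹ g * x * (φ⁻¹ g)⁻¹) = g * φ x * g⁻¹
      rw [map_mul, map_mul, map_inv, MulAut.apply_inv_self]
    refine md.le_A h h3 _ hn ?_ ⟨a, ha, rfl⟩
    rintro _ ⟨x, hx, rfl⟩ _ ⟨y, hy, rfl⟩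
    change φ x * φ y = φ y * φ x
    rw [← map_mul, ← map_mul, md.hcomm h x hx y hy]
  refine md.eq_one_of_fix hS two h h2 hk hφ hA ?_
  obtain ⟨ρ, hρ, hρ'⟩ := md.exists_perm
  refine coset_fix hk hφ (md.A h.MP) hA (md.hnorm h) (md.t t0) ρ QS (by rw [hρ, hQS]) ?_ ?_ ?_
  · intro s j
    obtain ⟨g, hg, rfl⟩ := md.surj s
    obtain ⟨p, π, hπ, hp, rfl⟩ := exists_of_mem hg
    rw [hρ' p π hp hπ]
    have hB : ∀ (x : G2 K), x ∈ P → LinearEquiv.det x = 1 → IsB P D2 (sg (β := β) (π j) x) := fun x hx hd => isB_sg hx hd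
    have hx : p.1 (π j) * t0 * (p.1 (π j))⁻¹ ∈ P := P.mul_mem (P.mul_mem (hp.1 _) h.t0P) (P.inv_mem (hp.1 _))
    have hxd : LinearEquiv.det (p.1 (π j) * t0 * (p.1 (π j))⁻¹) = 1 := by
      rw [map_mul, map_mul, map_inv, h.t0det, mul_one, mul_inv_cancel]
    have ht' : t0⁻¹ ∈ P := P.inv_mem h.t0P
    have hd' : LinearEquiv.det t0⁻¹ = 1 := by rw [map_inv, h.t0det, inv_one]
    refine ⟨md.Ψ (J (sg (π j) (t0⁻¹ * (p.1 (π j) * t0 * (p.1 (π j))⁻¹)))), ⟨_, isB_sg ?_ ?_, rfl⟩, ?_⟩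
    · refine h.two _ ht' _ hx (fun h1 => h.t0M (M.inv_mem_iff.1 h1)) fun h1 => h.t0M ?_
      have h4 := h.conj (P.inv_mem (hp.1 (π j))) h1
      have h5 : (p.1 (π j))⁻¹ * (p.1 (π j) * t0 * (p.1 (π j))⁻¹) * ((p.1 (π j))⁻¹)⁻¹ = t0 := by group
      rwa [h5] at h4
    · rw [map_mul, hd', hxd, one_mul]
    · rw [t, md.conj_eq hp hπ (isB_sg h.t0P h.t0det), cj_sg, t, ← md.Jmul (hB _ h.t0P h.t0det)
        (hB _ (P.mul_mem ht' hx) (by rw [map_mul, hd', hxd, one_mul])), ← sg_mul, mul_inv_cancel_left]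
  · intro i j hij
    by_contra hne
    obtain ⟨a, ha, hae⟩ := hij
    have hB : ∀ j : α, IsB P D2 (sg (β := β) j t0) := fun j => isB_sg h.t0P h.t0det
    rw [t, t, ← md.Jinv (hB i), ← md.Jmul (hB i).inv (hB j)] at hae
    obtain ⟨d, hd⟩ := md.ent_eq (ha.mono h.MP) ((hB i).inv.mul (hB j)) hae
    have h1 := hd (Sum.inl j)
    rw [ent_mul, ent_inv, sg_ne (fun h => hne (Sum.inl.inj h).symm), inv_one, one_mul, sg_same] at h1
    have h4 : sc d = a.1 j * t0⁻¹ := by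
      rw [eq_mul_inv_iff_mul_eq]
      exact h1.symm
    have h5 : d ∈ D2 := h.sc_mem_P (by rw [h4]; exact P.mul_mem (h.MP (ha.1 j)) (P.inv_mem h.t0P))
    apply h.t0M
    have h6 : t0 = (sc d)⁻¹ * a.1 j := by
      rw [eq_inv_mul_iff_mul_eq]
      exact h1.symm
    rw [h6]
    exact M.mul_mem (M.inv_mem (h.sc_mem _ h5)) (ha.1 j)
  · intro j
    have hAinv : ∀ a, φ a ∈ md.A h.MP → a ∈ md.A h.MP := by
      intro a ha
      have hpow : ∀ n : ℕ, ∀ a ∈ md.A h.MP, (φ ^ n) a ∈ md.A h.MP := by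
        intro n
        induction n with
        | zero => intro a ha; exact ha
        | succ n ih =>
          intro a ha
          rw [pow_succ']
          exact hA _ (ih a ha)
      obtain ⟨l, hl⟩ := hk
      have h1 := hpow (2 * l) _ ha
      have h2 : (φ ^ (2 * l)) (φ a) = (φ ^ k) a := by rw [hl, pow_succ]; rfl
      rw [h2, hφ] at h1
      exact h1
    have hord : orderOf (φ (md.t c0 j)) = orderOf c0 := by
      rw [MulEquiv.orderOf_eq]
      exact md.orderOf_sg h2 j h.c0P h.c0det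
    have hcy : ∀ a ∈ md.A h.MP, φ (md.t t0 j) * a * (φ (md.t t0 j))⁻¹ * a⁻¹ ∈ zpowers (φ (md.t c0 j)) := by
      intro a ha
      obtain ⟨b, rfl⟩ := φ.surjective a
      obtain ⟨b', hb', rfl⟩ := hAinv _ ha
      rw [← map_inv, ← map_mul, ← map_inv, ← map_mul, ← map_mul, md.comm_t h j hb']
      have h4 : t0 * b'.1 j * t0⁻¹ * (b'.1 j)⁻¹ ∈ zpowers c0 := by
        refine h.c0gen _ (M.mul_mem (h.conj h.t0P (hb'.1 j)) (M.inv_mem (hb'.1 j))) ?_
        rw [map_mul, map_mul, map_mul, map_inv, map_inv, mul_comm (LinearEquiv.det t0), mul_inv_cancel_right, mul_inv_cancel]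
      obtain ⟨n, hn⟩ := mem_zpowers_iff.1 h4
      rw [← hn, ← md.zpow_sg h.c0P h.c0det, map_zpow]
      exact zpow_mem (mem_zpowers _) _
    rcases md.char_t h h3 hord hcy with h1 | ⟨i, a, ha, h1⟩
    · exact absurd (hAinv _ h1) (md.t_notMem h h2 j)
    · exact ⟨i, a, ha, h1⟩

end Mod

end Cfsg.Agent.H763.Psa
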