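import Mathlib
import Cfsg.Agent.H763.PsaAsm

/-!
# Odd automorphisms of the Sylow 2-subgroups of `PSL_4(q)` (helper763, S5174)
-/

set_option autoImplicit false
set_option linter.unusedVariables false
set_option linter.unusedSectionVars false

namespace Cfsg.Agent.H763.Psa

open Subgroup Equiv
open Cfsg.Agent.FooteOdd Cfsg.Agent.TwoFusion.OddAut

/-- automorphisms of odd order of a dihedral group of order 8 -/
theorem dih_fix {H : Type*} [Group H] {φ : MulAut H} {k : ℕ} (hk : Odd k) (hφ : φ ^ k = 1) {t u b : H} (ht : t * t = 1)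
    (hu : u * u = 1) (hb : b * b = 1) (htu : t * u = u * t) (hbt : b * t = u * b) (hne : t ≠ u) (ht1 : t ≠ 1) (hu1 : u ≠ 1)
    (hall : ∀ x : H, x = 1 ∨ x = t ∨ x = u ∨ x = t * u ∨ x = b ∨ x = b * t ∨ x = b * u ∨ x = b * (t * u)) :
    φ t = t ∧ φ u = u := by
  have hz1 : t * u ≠ 1 := fun h => hne (by
    have := mul_eq_one_iff_eq_inv.1 h
    rw [this]; exact inv_eq_of_mul_eq_one_left hu)
  have htb : t * b = b * u := by
    calc t * b = (b * b) * t * b := by rw [hb, one_mul]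
      _ = b * (b * t) * b := by group
      _ = b * u * (b * b) := by rw [hbt]; group
      _ = b * u := by rw [hb, mul_one]
  have hub : u * b = b * t := hbt.symm
  have hodd := isOddAut hk hφ
  have crit : ∀ {ψ : MulAut H} {l : ℕ}, Odd l → ψ ^ l = 1 → ∀ g : H, ψ g = g * (t * u) → ψ (t * u) = t * u → False := by
    intro ψ l hl hψ g h1 h2
    exact hz1 ((isOddAut hl hψ).fix_of_eq_mul (g := g) (k := t * u) (mem_top _) (mem_top _) (m := 1) h1 h2 (by
      rw [pow_one, pow_two]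
      calc t * u * (t * u) = t * (u * t) * u := by group
        _ = (t * t) * (u * u) := by rw [← htu]; group
        _ = 1 := by rw [ht, hu, mul_one]))
  have sq1 : (b * t) * (b * t) = t * u := by
    calc (b * t) * (b * t) = b * (t * b) * t := by group
      _ = (b * b) * u * t := by rw [htb]; group
      _ = t * u := by rw [hb, one_mul, htu]
  have sq2 : (b * u) * (b * u) = t * u := by
    calc (b * u) * (b * u) = (t * b) * (b * u) := by rw [htb]
      _ = t * (b * b) * u := by group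
      _ = t * u := by rw [hb, mul_one]
  have sq3 : (t * u) * (t * u) = 1 := by
    calc t * u * (t * u) = t * (u * t) * u := by group
      _ = (t * t) * (u * u) := by rw [← htu]; group
      _ = 1 := by rw [ht, hu, mul_one]
  have hbz : b * (t * u) = (t * u) * b := by
    calc b * (t * u) = (b * t) * u := by group
      _ = u * (b * u) := by rw [hbt]; group
      _ = u * (t * b) := by rw [htb]
      _ = (t * u) * b := by rw [htu]; group
  have sq4 : (b * (t * u)) * (b * (t * u)) = 1 := by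
    calc (b * (t * u)) * (b * (t * u)) = (b * (t * u)) * ((t * u) * b) := by rw [hbz]
      _ = b * ((t * u) * (t * u)) * b := by group
      _ = 1 := by rw [sq3, mul_one, hb]
  -- the image of `b * t`
  have h1 : φ (b * t) = b * t ∨ φ (b * t) = b * u := by
    have h2 : φ (b * t) * φ (b * t) ≠ 1 := by
      rw [← map_mul, sq1]
      exact fun h => hz1 (φ.injective (by rw [h, map_one]))
    rcases hall (φ (b * t)) with h | h | h | h | h | h | h | h
    · rw [h] at h2; simp at h2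
    · rw [h] at h2; exact absurd ht h2
    · rw [h] at h2; exact absurd hu h2
    · rw [h] at h2; exact absurd sq3 h2
    · rw [h] at h2; exact absurd hb h2
    · exact Or.inl h
    · exact Or.inr h
    · rw [h] at h2; exact absurd sq4 h2
  have hz : φ (t * u) = t * u := by
    rw [← sq1, map_mul]
    rcases h1 with h | h
    · rw [h]
    · rw [h, sq2, sq1]
  have hbt' : φ (b * t) = b * t := by
    rcases h1 with h | h
    · exact h
    · exfalso
      refine crit hk hφ (b * t) ?_ hz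
      rw [h]
      calc b * u = b * (t * t) * u := by rw [ht, mul_one]
        _ = b * t * (t * u) := by group
  have hu' : u = t * (t * u) := by rw [← mul_assoc, ht, one_mul]
  have hφu : φ u = φ t * (t * u) := by
    conv_lhs => rw [hu']
    rw [map_mul, hz]
  have hφt : φ t * φ t = 1 := by rw [← map_mul, ht, map_one]
  have hφb : φ b = b * t * φ t := by
    rw [← hbt', ← map_mul, mul_assoc, ht, mul_one]
  have hφ2 : (φ ^ 2) ^ k = 1 := by rw [← pow_mul, mul_comm, pow_mul, hφ, one_pow]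
  have hz2 : (φ ^ 2) (t * u) = t * u := by
    rw [pow_two, MulAut.mul_apply, hz, hz]
  have hmain : φ t = t := by
    rcases hall (φ t) with h | h | h | h | h | h | h | h
    · exact absurd (φ.injective (by rw [h, map_one])) ht1
    · exact h
    · exact (crit hk hφ t (by rw [h]; exact hu') hz).elim
    · exfalso
      have : t = t * u := φ.injective (by rw [h, hz])
      exact hu1 (left_eq_mul.1 this)
    · exfalso
      refine crit hk hφ2 t ?_ hz2
      rw [pow_two, MulAut.mul_apply, h, hφb, h]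
      calc b * t * b = b * (t * b) := by group
        _ = (b * b) * u := by rw [htb]; group
        _ = t * (t * u) := by rw [hb, one_mul]; exact hu'
    · rw [h, sq1] at hφt
      exact absurd hφt hz1
    · rw [h, sq2] at hφt
      exact absurd hφt hz1
    · exfalso
      refine crit hk hφ2 t ?_ hz2
      have e1 : φ b = t := by
        rw [hφb, h]
        calc b * t * (b * (t * u)) = (b * t) * ((t * u) * b) := by rw [hbz]
          _ = b * (t * t) * (u * b) := by group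
          _ = (b * b) * t := by rw [ht, hub]; group
          _ = t := by rw [hb, one_mul]
      rw [pow_two, MulAut.mul_apply, h, map_mul, hz, e1]
  exact ⟨hmain, by rw [hφu, hmain]; exact hu'.symm⟩


variable {K : Type*} [Field K] {α β : Type*} [Fintype α] [DecidableEq α] [Fintype β] [DecidableEq β]
variable {P M : Subgroup (G2 K)} {D2 : Subgroup Kˣ} {c0 t0 : G2 K} {Q : Subgroup (Perm α)} {S : Type*} [Group S]

namespace Mod

variable (md : Mod α β P D2 Q S)

/-- commutators of elements of a normal abelian subgroup -/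
theorem key_of_mem {N : Subgroup S} (hN : N.Normal) (hab : ∀ a ∈ N, ∀ b ∈ N, a * b = b * a) {p : Pa K α β} (hp : IsB P D2 p)
    {π : Perm α} (hπ : π ∈ Q) (hs : md.Ψ (J p * bp π) ∈ N) {b : Pa K α β} (hb : IsB P D2 b) :
    ∃ c : Kˣ, ∀ l, ent (cj p π (cj p π b * b⁻¹)) l = sc c * ent (cj p π b * b⁻¹) l := by
  have hy : md.Ψ (J (cj p π b * b⁻¹)) ∈ N := by
    rw [← md.comm_eq hp hπ hb, mul_assoc, mul_assoc, ← mul_assoc (md.Ψ (J b))]
    exact N.mul_mem hs (hN.conj_mem _ (N.inv_mem hs) _)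
  have hyB : IsB P D2 (cj p π b * b⁻¹) := (cj_isB hp hπ hb).mul hb.inv
  refine md.ent_eq (cj_isB hp hπ hyB) hyB ?_
  rw [← md.conj_eq hp hπ hyB, hab _ hs _ hy, mul_inv_cancel_right]

/-- commuting elements -/
theorem ent_of_comm {p : Pa K α β} (hp : IsB P D2 p) {b : Pa K α β} (hb : IsB P D2 b)
    (hs : md.Ψ (J p * bp 1) * md.Ψ (J b) = md.Ψ (J b) * md.Ψ (J p * bp 1)) :
    ∃ c : Kˣ, ∀ i, p.1 i * b.1 i * (p.1 i)⁻¹ * (b.1 i)⁻¹ = sc c := by
  have h1 : md.Ψ (J (cj p 1 b)) = md.Ψ (J b) := by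
    rw [← md.conj_eq hp (one_mem Q) hb, hs, mul_inv_cancel_right]
  obtain ⟨c, hc⟩ := md.ent_eq (cj_isB hp (one_mem Q) hb) hb h1
  refine ⟨c, fun i => ?_⟩
  have h2 := hc (Sum.inl i)
  rw [cj_inl, inv_one, Perm.one_apply] at h2
  change p.1 i * b.1 i * (p.1 i)⁻¹ = sc c * b.1 i at h2
  rw [h2, mul_inv_cancel_right]

/-- a normal abelian subgroup with the order of `A`, not elementary abelian, is contained in `A` (`n = 4`) -/
theorem le_A_four [IsEmpty β] [Finite S] (h : PDat P M D2 c0 t0) {i1 i2 : α} (h12 : i1 ≠ i2) (hα : ∀ i, i = i1 ∨ i = i2)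
    (N : Subgroup S) (hN : N.Normal) (hab : ∀ a ∈ N, ∀ b ∈ N, a * b = b * a) (hcard : Nat.card N = Nat.card (md.A h.MP))
    (hsq : ∃ x ∈ N, x * x ≠ 1) : N ≤ md.A h.MP := by
  obtain ⟨ρ, hρ, hρ'⟩ := md.exists_perm
  have hel : ∀ x ∈ N, ρ x ≠ 1 → x * x = 1 := by
    intro x hx hρx
    obtain ⟨g, hg, rfl⟩ := md.surj x
    obtain ⟨p, π, hπ, hp, rfl⟩ := exists_of_mem hg
    rw [hρ' p π hp hπ] at hρx
    have hπ1 : π i1 = i2 := by
      rcases hα (π i1) with h1 | h1
      · exfalso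
        apply hρx
        refine Equiv.ext fun i => ?_
        rcases hα i with rfl | rfl
        · exact h1
        · rcases hα (π i) with h2 | h2
          · exact absurd (π.injective (h1.trans h2.symm)) h12
          · exact h2
      · exact h1
    have hπ2 : π i2 = i1 := by
      rcases hα (π i2) with h1 | h1
      · exact h1
      · exact absurd (π.injective (hπ1.trans h1.symm)) h12
    have hi1 : π⁻¹ i1 = i2 := by rw [Perm.inv_eq_iff_eq, hπ2]
    have hi2 : π⁻¹ i2 = i1 := by rw [Perm.inv_eq_iff_eq, hπ1]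
    have hcomm : ∀ t ∈ P, LinearEquiv.det t = 1 → p.1 i1 * p.1 i2 * t = t * (p.1 i1 * p.1 i2) := by
      intro t ht hd
      obtain ⟨c, hc⟩ := md.key_of_mem hN hab hp hπ hx (isB_sg (i := i1) ht hd)
      obtain ⟨e1, e2, -⟩ := comm_sg (β := β) p (show π i1 ≠ i1 from hπ1 ▸ h12.symm) t
      have f1 := hc (Sum.inl i2)
      rw [hπ1] at e1
      rw [cj_inl, hi2, e1, e2] at f1
      have f2 : t⁻¹ = sc c * t := by
        have h1 : p.1 i2 * t⁻¹ * (p.1 i2)⁻¹ = p.1 i2 * (sc c * t) * (p.1 i2)⁻¹ := by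
          rw [f1, ← mul_assoc, ← mul_assoc, ← mul_assoc, sc_comm]
        exact mul_left_cancel (mul_right_cancel h1)
      have f3 : c * c = 1 := by
        have := congrArg LinearEquiv.det f2
        rw [map_inv, map_mul, hd, inv_one, mul_one, det_sc2] at this
        exact this.symm
      have f4 := hc (Sum.inl i1)
      rw [cj_inl, hi1, e1, e2, f2, ← mul_assoc (sc c), ← sc_mul, f3, sc_one, one_mul] at f4
      rw [← mul_inv_eq_iff_eq_mul]
      refine Eq.trans ?_ f4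
      group
    obtain ⟨ν, hν⟩ := h.centr (P.mul_mem (hp.1 i1) (hp.1 i2)) (hcomm _ h.c0P h.c0det) (hcomm _ h.t0P h.t0det)
    have hν' : p.1 i2 * p.1 i1 = sc ν := by
      have h1 : p.1 i2 * p.1 i1 = (p.1 i1)⁻¹ * (p.1 i1 * p.1 i2) * p.1 i1 := by group
      rw [h1, hν, ← sc_comm, inv_mul_cancel_right]
    have hπ3 : π * π = 1 := by
      refine Equiv.ext fun i => ?_
      rcases hα i with rfl | rfl
      · rw [Perm.mul_apply, hπ1, hπ2, Perm.one_apply]
      · rw [Perm.mul_apply, hπ2, hπ1, Perm.one_apply]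
    rw [← md.mul _ hg _ hg, md.ker _ (mul_mem hg hg)]
    refine ⟨ν, ?_⟩
    have h1 := bp_J (K := K) (α := α) (β := β) π p
    have h2 : (J p * bp π) * (J p * bp π) = J p * (bp π * J p * (bp π)⁻¹) * (bp π * bp π : (Ix α β → K) ≃ₗ[K] (Ix α β → K)) := by group
    rw [h2, h1, ← map_mul bp, hπ3, map_one, mul_one, ← map_mul, sc_eq_J]
    congr 1
    refine Prod.ext (funext fun i => ?_) (funext fun j => (IsEmpty.false j).elim)
    change p.1 i * p.1 (π⁻¹ i) = sc ν
    rcases hα i with rfl | rfl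
    · rw [hi1, hν]
    · rw [hi2, hν']
  have hρN : ∀ x ∈ N, ρ x = 1 := by
    intro x hx
    by_contra hρx
    obtain ⟨y, hy, hyy⟩ := hsq
    apply hyy
    by_cases hρy : ρ y = 1
    · have h1 := hel (x * y) (N.mul_mem hx hy) (by rw [map_mul, hρy, mul_one]; exact hρx)
      have h2 := hel x hx hρx
      calc y * y = x * (x * y) * y := by rw [← mul_assoc, h2, one_mul]
        _ = x * (y * x) * y := by rw [hab x hx y hy]
        _ = (x * y) * (x * y) := by group
        _ = 1 := h1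
    · exact hel y hy hρy
  -- elements of `N` outside `A`
  have hout : ∀ (p : Pa K α β), IsB P D2 p → md.Ψ (J p * bp 1) ∈ N → md.Ψ (J p * bp 1) ∉ md.A h.MP → ∀ i, p.1 i ∉ M := by
    intro p hp hpN hpA j hj
    obtain ⟨i, hi⟩ : ∃ i, p.1 i ∉ M := by
      by_contra hcon
      push Not at hcon
      exact hpA ⟨p, ⟨hcon, hp.2.1, hp.2.2⟩, by rw [map_one, mul_one]⟩
    have hij : i ≠ j := fun h1 => hi (h1 ▸ hj)
    obtain ⟨g, hgM, hgc⟩ := h.usurj _ (hp.1 i) hi
    obtain ⟨a, ha, ha1, ha2⟩ := exists_A (α := α) (β := β) h (i := i) (k := Sum.inl j) (fun h => hij (Sum.inl.inj h).symm) hgM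
    obtain ⟨c, hc⟩ := md.key_of_mem hN hab hp (one_mem Q) hpN (ha.mono h.MP)
    have e1 : ent (cj p 1 a * a⁻¹) (Sum.inl i) = c0 := by
      rw [ent_mul, ent_inv, cj_inl, inv_one, Perm.one_apply, ha1, hgc]
    have e2 : ent (cj p 1 a * a⁻¹) (Sum.inl j) = 1 := by
      rw [ent_mul, ent_inv, cj_inl, inv_one, Perm.one_apply]
      change p.1 j * a.1 j * (p.1 j)⁻¹ * (a.1 j)⁻¹ = 1
      rw [h.comm _ hj _ (ha.1 j), mul_inv_cancel_right, mul_inv_cancel]
    have e3 : sc c = (1 : G2 K) := by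
      have h1 := hc (Sum.inl j)
      rw [e2, mul_one, cj_inl, inv_one, Perm.one_apply, e2, mul_one, mul_inv_cancel] at h1
      exact h1.symm
    have h1 := hc (Sum.inl i)
    rw [cj_inl, inv_one, Perm.one_apply, e1, e3, one_mul, h.inv _ (hp.1 i) hi] at h1
    exact h.c0sq (inv_eq_iff_mul_eq_one.1 h1)
  intro x hx
  by_contra hxA
  obtain ⟨g, hg, rfl⟩ := md.surj x
  obtain ⟨p, π, hπ, hp, rfl⟩ := exists_of_mem hg
  have hπ1 : π = 1 := by rw [← hρ' p π hp hπ]; exact hρN _ hx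
  subst hπ1
  have hpM := hout p hp hx hxA
  have hrel : (N ⊓ md.A h.MP).relIndex N = 2 := by
    rw [relIndex_eq_two_iff_exists_notMem_and]
    refine ⟨_, hx, fun h1 => hxA h1.2, fun b hb => ?_⟩
    by_cases hbA : b ∈ md.A h.MP
    · exact Or.inr ⟨hb, hbA⟩
    left
    refine ⟨N.mul_mem hb hx, ?_⟩
    obtain ⟨g', hg', rfl⟩ := md.surj b
    obtain ⟨p', π', hπ', hp', rfl⟩ := exists_of_mem hg'
    have hπ1' : π' = 1 := by rw [← hρ' p' π' hp' hπ']; exact hρN _ hb
    subst hπ1'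
    have hpM' := hout p' hp' hb hbA
    have hpp := hp'.mul hp
    refine ⟨p' * p, ⟨fun i => h.two _ (hp'.1 i) _ (hp.1 i) (hpM' i) (hpM i), hpp.2.1, hpp.2.2⟩, ?_⟩
    rw [md.Jmul hp' hp, map_one, mul_one, mul_one]
  have hrelA : (N ⊓ md.A h.MP).relIndex (md.A h.MP) = 2 := by
    have h1 := relIndex_mul_relIndex (⊥ : Subgroup S) (N ⊓ md.A h.MP) N bot_le inf_le_left
    have h2 := relIndex_mul_relIndex (⊥ : Subgroup S) (N ⊓ md.A h.MP) (md.A h.MP) bot_le inf_le_right
    rw [relIndex_bot_left, relIndex_bot_left] at h1 h2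
    rw [hrel] at h1
    rw [← hcard, ← h1] at h2
    exact Nat.eq_of_mul_eq_mul_left Nat.card_pos h2
  have hcomm : ∀ b ∈ N, md.Ψ (J p * bp 1) * b = b * md.Ψ (J p * bp 1) := fun b hb => hab _ hx _ hb
  -- two elements of `A`
  obtain ⟨g, hgM, hgc⟩ := h.usurj _ (hp.1 i1) (hpM i1)
  obtain ⟨a, ha, ha1, ha2⟩ := exists_A (α := α) (β := β) h (i := i1) (k := Sum.inl i2) (fun h => h12 (Sum.inl.inj h).symm) hgM
  have hB1 : IsB M D2 (sg (β := β) i1 c0) := isB_sg h.c0M h.c0det
  have hs1 : (sg (β := β) i1 c0).1 i1 = c0 := sg_same (β := β) i1 c0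
  have hs2 : (sg (β := β) i1 c0).1 i2 = 1 := sg_ne (β := β) (fun h => h12 (Sum.inl.inj h).symm) c0
  have ha1' : a.1 i1 = g := ha1
  have n1 : md.Ψ (J (sg i1 c0)) ∉ N := by
    intro h1
    obtain ⟨c, hc⟩ := md.ent_of_comm hp (hB1.mono h.MP) (hcomm _ h1)
    have h2 := hc i2
    rw [hs2, mul_one, mul_inv_cancel, inv_one, mul_one] at h2
    have h3 := hc i1
    rw [hs1, ← h2, h.inv _ (hp.1 i1) (hpM i1), ← mul_inv_rev, inv_eq_one] at h3
    exact h.c0sq h3
  have n2 : md.Ψ (J a) ∉ N := by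
    intro h1
    obtain ⟨c, hc⟩ := md.ent_of_comm hp (ha.mono h.MP) (hcomm _ h1)
    have h2 := hc i1
    rw [ha1', hgc] at h2
    exact h.c0ns h2
  have n3 : (md.Ψ (J (sg i1 c0))) * md.Ψ (J a) ∈ N := by
    have h1 := @mul_mem_iff_of_index_two _ _ ((N ⊓ md.A h.MP).subgroupOf (md.A h.MP)) hrelA
      ⟨md.Ψ (J (sg i1 c0)), ⟨_, hB1, rfl⟩⟩ ⟨md.Ψ (J a), ⟨_, ha, rfl⟩⟩
    simp only [mem_subgroupOf, mem_inf] at h1
    exact (h1.2 ⟨fun h2 => absurd h2.1 n1, fun h2 => absurd h2.1 n2⟩).1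
  rw [← md.Jmul (hB1.mono h.MP) (ha.mono h.MP)] at n3
  obtain ⟨c, hc⟩ := md.ent_of_comm hp ((hB1.mul ha).mono h.MP) (hcomm _ n3)
  have h1 := hc i1
  change p.1 i1 * ((sg (β := β) i1 c0).1 i1 * a.1 i1) * (p.1 i1)⁻¹ * ((sg (β := β) i1 c0).1 i1 * a.1 i1)⁻¹ = sc c at h1
  rw [hs1, ha1'] at h1
  have h2 : p.1 i1 * (c0 * g) * (p.1 i1)⁻¹ * (c0 * g)⁻¹ = c0⁻¹ * c0⁻¹ * c0 := by
    calc p.1 i1 * (c0 * g) * (p.1 i1)⁻¹ * (c0 * g)⁻¹
        = (p.1 i1 * c0 * (p.1 i1)⁻¹) * (p.1 i1 * g * (p.1 i1)⁻¹ * g⁻¹) * c0⁻¹ := by group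
      _ = c0⁻¹ * c0 * c0⁻¹ := by rw [h.inv _ (hp.1 i1) (hpM i1), hgc]
      _ = _ := by group
  rw [h2, inv_mul_cancel_right] at h1
  exact h.c0ns (d := c⁻¹) (by rw [← sc_inv, ← h1, inv_inv])

/-- the cosets `t j * A` are different -/
theorem t_inj (h : PDat P M D2 c0 t0) {i j : α} (hij : (md.t t0 i)⁻¹ * md.t t0 j ∈ md.A h.MP) : i = j := by
  by_contra hne
  obtain ⟨a, ha, hae⟩ := hij
  have hB : ∀ j : α, IsB P D2 (sg (β := β) j t0) := fun j => isB_sg h.t0P h.t0det
  rw [t, t, ← md.Jinv (hB i), ← md.Jmul (hB i).inv (hB j)] at hae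
  obtain ⟨d, hd⟩ := md.ent_eq (ha.mono h.MP) ((hB i).inv.mul (hB j)) hae
  have h1 := hd (Sum.inl j)
  rw [ent_mul, ent_inv, sg_ne (fun h => hne (Sum.inl.inj h).symm), inv_one, one_mul, sg_same] at h1
  have h4 : sc d = a.1 j * t0⁻¹ := by
    rw [eq_mul_inv_iff_mul_eq]
    exact h1.symm
  have h5 : d ∈ D2 := h.sc_mem_P (by rw [h4]; exact P.mul_mem (h.MP (ha.1 j)) (P.inv_mem h.t0P))
  apply h.t0M
  have h6 : t0 = (sc d)⁻¹ * a.1 j := by
    rw [eq_inv_mul_iff_mul_eq]
    exact h1.symm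
  rw [h6]
  exact M.mul_mem (M.inv_mem (h.sc_mem _ h5)) (ha.1 j)

/-- splitting off `t j` -/
theorem split_t (h : PDat P M D2 c0 t0) {p : Pa K α β} (hp : IsB P D2 p) {j : α} (hj : p.1 j ∉ M) :
    ∃ p' : Pa K α β, IsB P D2 p' ∧ p'.1 j ∈ M ∧ (∀ i, i ≠ j → p'.1 i = p.1 i) ∧ md.Ψ (J p) = md.t t0 j * md.Ψ (J p') := by
  have hB1 : IsB P D2 (sg (β := β) j t0) := isB_sg h.t0P h.t0det
  have hB2 : IsB P D2 (sg (β := β) j t0⁻¹) := isB_sg (P.inv_mem h.t0P) (by rw [map_inv, h.t0det, inv_one])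
  refine ⟨sg j t0⁻¹ * p, hB2.mul hp, ?_, fun i hi => ?_, ?_⟩
  · change ent (sg (β := β) j t0⁻¹) (Sum.inl j) * p.1 j ∈ M
    rw [sg_same]
    exact h.two _ (P.inv_mem h.t0P) _ (hp.1 j) (fun h1 => h.t0M (M.inv_mem_iff.1 h1)) hj
  · change ent (sg (β := β) j t0⁻¹) (Sum.inl i) * p.1 i = p.1 i
    rw [sg_ne (fun h => hi (Sum.inl.inj h)), one_mul]
  · rw [t, ← md.Jmul hB1 (hB2.mul hp), ← mul_assoc, ← sg_mul, mul_inv_cancel, sg_one, one_mul]

include md in
/-- **`n = 4`.** -/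
theorem eq_one_four [IsEmpty β] [Finite S] (hS : IsPGroup 2 S) (two : (2 : K) ≠ 0) (h : PDat P M D2 c0 t0)
    {i1 i2 : α} (h12 : i1 ≠ i2) (hα : ∀ i, i = i1 ∨ i = i2) (hsw : swap i1 i2 ∈ Q)
    {φ : MulAut S} {k : ℕ} (hk : Odd k) (hφ : φ ^ k = 1) : φ = 1 := by
  have h2 : ∀ l : α ⊕ β, ∃ k, k ≠ l := by
    rintro (l | l)
    · by_cases hl : l = i1
      · exact ⟨Sum.inl i2, fun h => h12 (hl ▸ Sum.inl.inj h).symm⟩
      · exact ⟨Sum.inl i1, fun h => hl (Sum.inl.inj h).symm⟩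
    · exact (IsEmpty.false l).elim
  have hne : Nonempty α := ⟨i1⟩
  have hA : ∀ a ∈ md.A h.MP, φ a ∈ md.A h.MP := by
    intro a ha
    have hn : ((md.A h.MP).map φ.toMonoidHom).Normal := by
      refine ⟨?_⟩
      rintro _ ⟨x, hx, rfl⟩ g
      refine ⟨φ⁻¹ g * x * (φ⁻¹ g)⁻¹, md.hnorm h _ _ hx, ?_⟩
      change φ (φ⁻¹ g * x * (φ⁻¹ g)⁻¹) = g * φ x * g⁻¹
      rw [map_mul, map_mul, map_inv, MulAut.apply_inv_self]
    refine md.le_A_four h h12 hα _ hn ?_ ?_ ?_ ⟨a, ha, rfl⟩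
    · rintro _ ⟨x, hx, rfl⟩ _ ⟨y, hy, rfl⟩
      change φ x * φ y = φ y * φ x
      rw [← map_mul, ← map_mul, md.hcomm h x hx y hy]
    · exact card_map_of_injective φ.injective
    · refine ⟨φ (md.t c0 i1), ⟨_, md.t_mem_A h i1, rfl⟩, fun h1 => ?_⟩
      rw [← map_mul] at h1
      have h3 : md.t c0 i1 * md.t c0 i1 = 1 := φ.injective (by rw [h1, map_one])
      have hB := isB_sg (P := P) (D2 := D2) (β := β) (i := i1) h.c0P h.c0det
      rw [t, ← md.Jmul hB hB, ← sg_mul] at h3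
      exact h.c0sq (md.sg_eq_one h2 (P.mul_mem h.c0P h.c0P) (by rw [map_mul, h.c0det, one_mul]) h3)
  have hnA : (md.A h.MP).Normal := ⟨fun n hn g => md.hnorm h g n hn⟩
  have hmapA : (md.A h.MP).map φ.toMonoidHom = md.A h.MP := by
    refine eq_of_le_of_card_ge ?_ (le_of_eq (card_map_of_injective φ.injective).symm)
    rintro _ ⟨x, hx, rfl⟩
    exact hA x hx
  set A := md.A h.MP with hAdef
  let ψ : MulAut (S ⧸ A) := QuotientGroup.congr A A φ hmapA
  have hψ : ∀ s : S, ψ (QuotientGroup.mk s) = QuotientGroup.mk (φ s) := fun s => rfl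
  have hψk : ψ ^ k = 1 := by
    have h1 : ∀ n : ℕ, ∀ s : S, (ψ ^ n) (QuotientGroup.mk s) = QuotientGroup.mk ((φ ^ n) s) := by
      intro n
      induction n with
      | zero => intro s; rfl
      | succ n ih =>
        intro s
        rw [pow_succ', MulAut.mul_apply, ih, hψ, pow_succ', MulAut.mul_apply]
    refine MulEquiv.ext fun x => ?_
    obtain ⟨s, rfl⟩ := QuotientGroup.mk_surjective x
    rw [h1, hφ]
    rfl
  set B : S := md.Ψ (bp (swap i1 i2)) with hB
  have hbpm : (bp (swap i1 i2) : (Ix α β → K) ≃ₗ[K] (Ix α β → K)) ∈ St α β P D2 Q := bp_mem_St hsw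
  have hBB : B * B = 1 := by
    rw [hB, ← md.mul _ hbpm _ hbpm, ← map_mul, Equiv.swap_mul_self, map_one, md.one]
  have hT : ∀ j : α, IsB P D2 (sg (β := β) j t0) := fun j => isB_sg h.t0P h.t0det
  have htt : ∀ j, md.t t0 j * md.t t0 j ∈ A := by
    intro j
    rw [t, ← md.Jmul (hT j) (hT j), ← sg_mul]
    exact ⟨_, isB_sg (h.two _ h.t0P _ h.t0P h.t0M h.t0M) (by rw [map_mul, h.t0det, one_mul]), rfl⟩
  have htcomm : md.t t0 i1 * md.t t0 i2 = md.t t0 i2 * md.t t0 i1 := by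
    rw [t, t, ← md.Jmul (hT _) (hT _), ← md.Jmul (hT _) (hT _)]
    congr 2
    apply ext_ent
    intro l
    rw [ent_mul, ent_mul]
    by_cases hl : l = Sum.inl i1
    · subst hl
      rw [sg_ne (fun h => h12 (Sum.inl.inj h)), one_mul, mul_one]
    · rw [sg_ne hl, one_mul, mul_one]
  have hBt : B * md.t t0 i1 = md.t t0 i2 * B := by
    have h1 := md.conj_eq (IsB.one (P := P) (D2 := D2)) hsw (hT i1)
    rw [map_one, one_mul, cj_sg, swap_apply_left] at h1
    rw [← mul_inv_eq_iff_eq_mul]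
    refine h1.trans ?_
    rw [t]
    congr 3
  -- the classes of the block diagonal elements
  have hdiag : ∀ p : Pa K α β, IsB P D2 p → (QuotientGroup.mk (md.Ψ (J p)) : S ⧸ A) = 1 ∨
      (QuotientGroup.mk (md.Ψ (J p)) : S ⧸ A) = QuotientGroup.mk (md.t t0 i1) ∨
      (QuotientGroup.mk (md.Ψ (J p)) : S ⧸ A) = QuotientGroup.mk (md.t t0 i2) ∨
      (QuotientGroup.mk (md.Ψ (J p)) : S ⧸ A) = QuotientGroup.mk (md.t t0 i1) * QuotientGroup.mk (md.t t0 i2) := by
    have h0 : ∀ p : Pa K α β, IsB P D2 p → p.1 i1 ∈ M → p.1 i2 ∈ M → (QuotientGroup.mk (md.Ψ (J p)) : S ⧸ A) = 1 := by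
      intro p hp e1 e2
      rw [QuotientGroup.eq_one_iff]
      refine ⟨p, ⟨fun i => ?_, hp.2.1, hp.2.2⟩, rfl⟩
      rcases hα i with rfl | rfl
      · exact e1
      · exact e2
    have h1 : ∀ p : Pa K α β, IsB P D2 p → p.1 i1 ∈ M → (QuotientGroup.mk (md.Ψ (J p)) : S ⧸ A) = 1 ∨
        (QuotientGroup.mk (md.Ψ (J p)) : S ⧸ A) = QuotientGroup.mk (md.t t0 i2) := by
      intro p hp e1
      by_cases e2 : p.1 i2 ∈ M
      · exact Or.inl (h0 p hp e1 e2)
      · obtain ⟨p', hp', g1, g2, g3⟩ := md.split_t h hp e2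
        right
        rw [g3, QuotientGroup.mk_mul, h0 p' hp' (by rw [g2 _ h12]; exact e1) g1, mul_one]
    intro p hp
    by_cases e1 : p.1 i1 ∈ M
    · rcases h1 p hp e1 with h3 | h3
      · exact Or.inl h3
      · exact Or.inr (Or.inr (Or.inl h3))
    · obtain ⟨p', hp', g1, g2, g3⟩ := md.split_t h hp e1
      right
      rw [g3, QuotientGroup.mk_mul]
      rcases h1 p' hp' g1 with h3 | h3
      · left; rw [h3, mul_one]
      · right; right; rw [h3]
  have hall : ∀ x : S ⧸ A, x = 1 ∨ x = QuotientGroup.mk (md.t t0 i1) ∨ x = QuotientGroup.mk (md.t t0 i2) ∨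
      x = QuotientGroup.mk (md.t t0 i1) * QuotientGroup.mk (md.t t0 i2) ∨ x = QuotientGroup.mk B ∨
      x = QuotientGroup.mk B * QuotientGroup.mk (md.t t0 i1) ∨ x = QuotientGroup.mk B * QuotientGroup.mk (md.t t0 i2) ∨
      x = QuotientGroup.mk B * (QuotientGroup.mk (md.t t0 i1) * QuotientGroup.mk (md.t t0 i2)) := by
    intro x
    obtain ⟨s, rfl⟩ := QuotientGroup.mk_surjective x
    obtain ⟨g, hg, rfl⟩ := md.surj s
    obtain ⟨p, π, hπ, hp, rfl⟩ := exists_of_mem hg
    by_cases hπ1 : π = 1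
    · subst hπ1
      rw [map_one, mul_one]
      rcases hdiag p hp with h3 | h3 | h3 | h3
      · exact Or.inl h3
      · exact Or.inr (Or.inl h3)
      · exact Or.inr (Or.inr (Or.inl h3))
      · exact Or.inr (Or.inr (Or.inr (Or.inl h3)))
    · have hπsw : π = swap i1 i2 := by
        have e1 : π i1 = i2 := by
          rcases hα (π i1) with h1 | h1
          · exfalso
            apply hπ1
            refine Equiv.ext fun i => ?_
            rcases hα i with rfl | rfl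
            · exact h1
            · rcases hα (π i) with h2 | h2
              · exact absurd (π.injective (h1.trans h2.symm)) h12
              · exact h2
          · exact h1
        refine Equiv.ext fun i => ?_
        rcases hα i with rfl | rfl
        · rw [e1, swap_apply_left]
        · rw [swap_apply_right]
          rcases hα (π i) with h1 | h1
          · exact h1
          · exact absurd (π.injective (e1.trans h1.symm)) h12
      have h1 : md.Ψ (J p * bp π) = B * md.Ψ (J (cj 1 (swap i1 i2) p)) := by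
        have h4 := cj_spec (K := K) (β := β) 1 (swap i1 i2) p
        rw [map_one, one_mul] at h4
        have h5 : (bp (swap i1 i2) : (Ix α β → K) ≃ₗ[K] (Ix α β → K))⁻¹ = bp (swap i1 i2) := by
          rw [← map_inv, swap_inv]
        rw [hB, ← md.mul _ hbpm _ (cj_isB IsB.one hsw hp).mem, ← h4, hπsw]
        congr 1
        rw [← mul_assoc, ← mul_assoc, ← map_mul, Equiv.swap_mul_self, map_one, one_mul, h5]
      rw [h1, QuotientGroup.mk_mul]
      right; right; right; right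
      rcases hdiag _ (cj_isB IsB.one hsw hp) with h3 | h3 | h3 | h3
      · left; rw [h3, mul_one]
      · right; left; rw [h3]
      · right; right; left; rw [h3]
      · right; right; right; rw [h3]
  obtain ⟨r1, r2⟩ := dih_fix hk hψk (t := QuotientGroup.mk (md.t t0 i1)) (u := QuotientGroup.mk (md.t t0 i2))
    (b := QuotientGroup.mk B) ((QuotientGroup.eq_one_iff _).2 (htt i1)) ((QuotientGroup.eq_one_iff _).2 (htt i2))
    (by rw [← QuotientGroup.mk_mul, hBB]; rfl) (by rw [← QuotientGroup.mk_mul, htcomm]; rfl)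
    (by rw [← QuotientGroup.mk_mul, hBt]; rfl) (fun h1 => h12 (md.t_inj h (QuotientGroup.eq.1 h1)))
    (fun h1 => md.t_notMem h h2 i1 ((QuotientGroup.eq_one_iff _).1 h1))
    (fun h1 => md.t_notMem h h2 i2 ((QuotientGroup.eq_one_iff _).1 h1)) hall
  refine md.eq_one_of_fix hS two h h2 hk hφ hA ?_
  intro j
  refine ⟨(md.t t0 j)⁻¹ * φ (md.t t0 j), ?_, by rw [mul_inv_cancel_left]⟩
  rcases hα j with rfl | rfl
  · exact QuotientGroup.eq.1 r1.symm
  · exact QuotientGroup.eq.1 r2.symm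

end Mod

end Cfsg.Agent.H763.Psa
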