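import Mathlib
import Cfsg.Agent.H763.PsaOm

/-!
# The even-dimensional orthogonal group without lines and with an odd number of planes (helper763, S5173)
-/

set_option autoImplicit false
set_option linter.unusedVariables false

namespace Cfsg.Agent.H763.Psa.OM

open Subgroup Equiv

variable {W0 U0 Y : Type*} [Group W0] [Group U0] [Group Y] {m : ℕ} {D C : Subgroup W0} {T : Subgroup U0}
    {P : Subgroup (Perm (Fin m))} {E R : Subgroup Y} {ψ : (Fin m → W0) × U0 →* Y} {ρ : Perm (Fin m) →* Y}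
    {H : Type*} [Group H] {π : ↥E →* H} {S : Subgroup H}

/-- the kernel of the spinor norm, mapped to `S` -/
theorem card_A1 (h : OM D C T P E R ψ ρ) [Finite W0] [Finite H] (hm : 1 ≤ m) (hS : (R.subgroupOf E).map π = S)
    (hT : ∀ t ∈ T, t = 1) (χ : (Fin m → ↥C) →* ℤˣ) (hχ : Function.Surjective χ)
    (hχE : ∀ c : Fin m → ↥C, χ c = 1 ↔ ψ (fun i => (c i : W0), 1) ∈ E) {n : W0} (hnC : n ∈ C) (hn : n ≠ 1)
    (hker : ∀ (y : Y) (hy : y ∈ E), π ⟨y, hy⟩ = 1 ↔ y = 1 ∨ y = ψ (fun _ => n, 1)) (hnE : ψ (fun _ => n, 1) ∈ E) :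
    Nat.card ↥C ^ m = 4 * Nat.card (A1 π C T ψ S) := by
  have hmem : ∀ c : χ.ker, ψ (fun i => ((c : Fin m → ↥C) i : W0), 1) ∈ E := fun c => (hχE _).1 c.2
  have hmR : ∀ c : χ.ker, ψ (fun i => ((c : Fin m → ↥C) i : W0), 1) ∈ BB C T ψ := fun c =>
    mem_BB.2 ⟨_, 1, fun i => ((c : Fin m → ↥C) i).2, one_mem _, rfl⟩
  let φ : χ.ker →* ↥S := MonoidHom.mk' (fun c => ⟨π ⟨ψ (fun i => ((c : Fin m → ↥C) i : W0), 1), hmem c⟩, by
      rw [← hS]
      exact ⟨⟨_, hmem c⟩, h.BB_le (hmR c), rfl⟩⟩) (by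
    intro a b
    apply Subtype.ext
    change π _ = π _ * π _
    rw [← map_mul]
    refine congrArg π (Subtype.ext ?_)
    change ψ _ = ψ _ * ψ _
    rw [← map_mul]
    congr 1
    refine Prod.ext rfl ?_
    change (1 : U0) = 1 * 1
    rw [one_mul])
  have hφ : ∀ c, (φ c : H) = π ⟨ψ (fun i => ((c : Fin m → ↥C) i : W0), 1), hmem c⟩ := fun _ => rfl
  have hr : φ.range = A1 π C T ψ S := by
    ext x
    rw [mem_A1]
    constructor
    · rintro ⟨c, rfl⟩
      exact ⟨_, hmem c, hmR c, rfl⟩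
    · rintro ⟨y, hy, hyB, hyx⟩
      obtain ⟨c, t, hc, ht, rfl⟩ := mem_BB.1 hyB
      have ht1 := hT t ht
      subst ht1
      refine ⟨⟨fun i => ⟨c i, hc i⟩, (hχE _).2 hy⟩, Subtype.ext ?_⟩
      rw [hφ]
      exact hyx
  have hnm : (fun _ => ⟨n, hnC⟩ : Fin m → ↥C) ∈ χ.ker := (hχE _).2 hnE
  have hk : Nat.card φ.ker = 2 := by
    have e : (φ.ker : Set χ.ker) = {1, ⟨_, hnm⟩} := by
      ext c
      simp only [SetLike.mem_coe, MonoidHom.mem_ker, Set.mem_insert_iff, Set.mem_singleton_iff]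
      constructor
      · intro hc
        have h1 := congrArg Subtype.val hc
        rw [hφ] at h1
        rcases (hker _ _).1 h1 with h2 | h2
        · left
          rw [← map_one ψ] at h2
          have h3 := congrArg Prod.fst (h.inj h2)
          exact Subtype.ext (funext fun i => Subtype.ext (congrFun h3 i))
        · right
          have h3 := congrArg Prod.fst (h.inj h2)
          exact Subtype.ext (funext fun i => Subtype.ext (congrFun h3 i))
      · rintro (rfl | rfl)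
        · exact map_one φ
        · apply Subtype.ext
          rw [hφ]
          exact (hker _ _).2 (Or.inr rfl)
    change Nat.card ↥(φ.ker : Set χ.ker) = 2
    rw [e, Nat.card_coe_set_eq, Set.ncard_pair]
    intro h1
    have h2 := congrFun (congrArg Subtype.val h1) ⟨0, hm⟩
    exact hn (congrArg Subtype.val h2).symm
  have h1 := card_mul_index χ.ker
  rw [index_ker, MonoidHom.range_eq_top.2 hχ, card_top, Nat.card_fun, Nat.card_eq_fintype_card (α := ℤˣ),
    Nat.card_eq_fintype_card (α := Fin m), Fintype.card_fin] at h1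
  have h2 := card_mul_index φ.ker
  rw [index_ker, hr, hk] at h2
  have h3 : Fintype.card ℤˣ = 2 := rfl
  rw [← h1, h3, ← h2]
  ring

/-- **The contradiction.** -/
theorem not_par (h : OM D C T P E R ψ ρ) [Finite W0] [Finite H] (hm : 5 ≤ m) (hmo : m % 2 = 1) (hS : (R.subgroupOf E).map π = S)
    (hT : ∀ t ∈ T, t = 1) (χ : (Fin m → ↥C) →* ℤˣ) (hχ : Function.Surjective χ)
    (hχE : ∀ c : Fin m → ↥C, χ c = 1 ↔ ψ (fun i => (c i : W0), 1) ∈ E) {n : W0} (hnC : n ∈ C) (hn : n ≠ 1)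
    (hker : ∀ (y : Y) (hy : y ∈ E), π ⟨y, hy⟩ = 1 ↔ y = 1 ∨ y = ψ (fun _ => n, 1)) (hnE : ψ (fun _ => n, 1) ∈ E)
    {e N : ℕ} (hCe : Nat.card ↥C = 2 ^ e) (hexp : ∀ k, (∀ c ∈ C, c ^ 2 ^ k = 1) → e ≤ k)
    (hSN : Nat.card ↥S = 2 ^ N) (hN : N + 3 = (e + 1) * m + (Nat.factorial m).factorization 2)
    {S0 : Type*} [Group S0] {n' : ℕ} {ty : Bool} {w : ℕ} (hp : Par S0 n' ty w) (hn' : 6 ≤ n') (ε : S0 ≃* ↥S) : False := by
  obtain ⟨-, A, c, hA, hrel⟩ | ⟨h5, -⟩ := hp.alt
  swap
  · omega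
  have hAe := hA.eq_of_scn ε (h.normal_A1 hS) h.comm_A1
    (fun s hs => h.scn_A1 (by omega) hS (n := n) (u := 1) (fun y hy hy1 => (hker y hy).1 hy1) s hs)
  have hA' := hA.map ε
  rw [← hAe] at hA'
  -- the order of `A1`
  have h1 := h.card_A1 (by omega) hS hT χ hχ hχE hnC hn hker hnE
  rw [hA'.card, hCe, ← pow_mul] at h1
  have hc : e * m = c + 2 := by
    have h2 : (2 : ℕ) ^ (e * m) = 2 ^ (c + 2) := by rw [h1, pow_add]; ring
    exact Nat.pow_right_injective le_rfl h2
  -- the order of `S`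
  have h2 := (A1 π C T ψ S).card_mul_index
  rw [hA'.card, hA'.index, hSN, ← pow_add] at h2
  have ha := Nat.pow_right_injective le_rfl h2
  -- the exponent
  have hpow : ∀ (c : Fin m → W0) (k : ℕ), (ψ (c, 1)) ^ k = ψ (fun i => c i ^ k, 1) := by
    intro c k
    rw [← map_pow]
    congr 1
    refine Prod.ext rfl ?_
    change (1 : U0) ^ k = 1
    rw [one_pow]
  have hw1 : w ≤ e := by
    refine (hA'.exp e).1 fun x hx => ?_
    obtain ⟨y, hy, hyB, hyx⟩ := mem_A1.1 hx
    obtain ⟨d, t, hd, ht, rfl⟩ := mem_BB.1 hyB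
    have ht1 := hT t ht
    subst ht1
    apply Subtype.ext
    rw [SubmonoidClass.coe_pow, ← hyx, ← map_pow, OneMemClass.coe_one, ← map_one π]
    refine congrArg π (Subtype.ext ?_)
    change (ψ (d, 1)) ^ 2 ^ e = 1
    rw [hpow, ← map_one ψ]
    congr 1
    refine Prod.ext (funext fun i => ?_) rfl
    change d i ^ 2 ^ e = 1
    rw [← hCe]
    exact congrArg Subtype.val (pow_card_eq_one' (x := (⟨d i, hd i⟩ : ↥C)))
  have hw2 : e ≤ w := by
    refine hexp w fun c hc => ?_
    have hij : (⟨0, by omega⟩ : Fin m) ≠ ⟨1, by omega⟩ := by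
      intro h
      have := congrArg Fin.val h
      simp at this
    have hE := h.pair ⟨0, by omega⟩ ⟨1, by omega⟩ hij c hc
    set i : Fin m := ⟨0, by omega⟩ with hi
    set j : Fin m := ⟨1, by omega⟩ with hj
    set l : Fin m := ⟨2, by omega⟩ with hl
    have hli : l ≠ i := by
      intro h
      have := congrArg Fin.val h
      simp [hl, hi] at this
    have hlj : l ≠ j := by
      intro h
      have := congrArg Fin.val h
      simp [hl, hj] at this
    have hB : ψ (Pi.mulSingle i c * Pi.mulSingle j c⁻¹, 1) ∈ BB C T ψ := by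
      refine mem_BB.2 ⟨_, 1, fun k => ?_, one_mem _, rfl⟩
      rw [Pi.mul_apply]
      refine C.mul_mem ?_ ?_
      · by_cases hk : k = i
        · subst hk; rw [Pi.mulSingle_eq_same]; exact hc
        · rw [Pi.mulSingle_eq_of_ne hk]; exact one_mem _
      · by_cases hk : k = j
        · subst hk; rw [Pi.mulSingle_eq_same]; exact C.inv_mem hc
        · rw [Pi.mulSingle_eq_of_ne hk]; exact one_mem _
    have hSm : π ⟨_, hE⟩ ∈ S := by rw [← hS]; exact ⟨⟨_, hE⟩, h.BB_le hB, rfl⟩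
    have h3 := (hA'.exp w).2 le_rfl ⟨_, hSm⟩ (mem_A1.2 ⟨_, hE, hB, rfl⟩)
    have h4 := congrArg Subtype.val h3
    rw [SubmonoidClass.coe_pow, OneMemClass.coe_one, ← map_pow] at h4
    have h5 : (⟨ψ (Pi.mulSingle i c * Pi.mulSingle j c⁻¹, 1), hE⟩ : ↥E) ^ 2 ^ w =
        ⟨ψ (fun k => (Pi.mulSingle i c * Pi.mulSingle j c⁻¹ : Fin m → W0) k ^ 2 ^ w, 1), by
          rw [← hpow]; exact E.pow_mem hE _⟩ := Subtype.ext (hpow _ _)
    rw [h5] at h4
    rcases (hker _ _).1 h4 with h6 | h6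
    · rw [← map_one ψ] at h6
      have h7 := congrFun (congrArg Prod.fst (h.inj h6)) i
      change (Pi.mulSingle i c * Pi.mulSingle j c⁻¹ : Fin m → W0) i ^ 2 ^ w = 1 at h7
      rwa [Pi.mul_apply, Pi.mulSingle_eq_same, Pi.mulSingle_eq_of_ne hij, mul_one] at h7
    · exfalso
      have h7 := congrFun (congrArg Prod.fst (h.inj h6)) l
      change (Pi.mulSingle i c * Pi.mulSingle j c⁻¹ : Fin m → W0) l ^ 2 ^ w = n at h7
      rw [Pi.mul_apply, Pi.mulSingle_eq_of_ne hli, Pi.mulSingle_eq_of_ne hlj, mul_one, one_pow] at h7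
      exact hn h7.symm
  have hwe : w = e := le_antisymm hw1 hw2
  subst hwe
  -- arithmetic
  obtain ⟨r, rfl⟩ : ∃ r, m = r + 1 := ⟨m - 1, by omega⟩
  have hfac : (Nat.factorial (r + 1)).factorization 2 = (Nat.factorial r).factorization 2 := by
    rw [Nat.factorial_succ, Nat.factorization_mul (Nat.succ_ne_zero r) (Nat.factorial_ne_zero r), Finsupp.add_apply,
      Nat.factorization_eq_zero_of_not_dvd (by omega), zero_add]
  rw [hfac] at hN
  have hidx : n' / 2 = r := by
    apply index_mono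
    have : (w + 1) * (r + 1) = w * (r + 1) + (r + 1) := by ring
    omega
  have hrel' := hrel
  unfold Rel at hrel'
  rw [hidx] at hrel'
  have hw := hp.hw
  cases ty
  · have hw3 := hp.hw3 rfl
    simp only [Bool.false_eq_true, if_false] at hrel'
    have : w * (r + 1) = w * r + w := by ring
    have h6 : n' % 2 < 2 := Nat.mod_lt _ (by norm_num)
    have h7 := Nat.zero_le (min 1 (n'.factorization 2))
    omega
  · simp only [if_true] at hrel'
    have h6 : min w (n'.factorization 2) ≤ w := min_le_left _ _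
    have h7 : w * 4 ≤ w * r := Nat.mul_le_mul_left _ (by omega)
    have h8 : 2 * w * r = w * r + w * r := by ring
    have h9 : w * (r + 1) = w * r + w := by ring
    have h10 : 0 ≤ w * (n' % 2) := Nat.zero_le _
    omega

end Cfsg.Agent.H763.Psa.OM
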