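import Mathlib
import Cfsg.Agent.FooteOrth.Rows

/-!
# The orthogonal group of the plane `x² + y²` and its Sylow 2-subgroup (helper763, S5173)
-/

set_option autoImplicit false

namespace Cfsg.Agent.H763.Psa.Orth

open QuadraticMap Cfsg Subgroup
open Cfsg.Agent.LieClassical.OrthCore Cfsg.Agent.LieClassical.OrthTrans
open Cfsg.Agent.FooteOrth Cfsg.Agent.FooteOrth.Wr
open Cfsg.Agent.ClosedTwo.Elem (exists_conj_le)

variable {F : Type*} [Field F]

theorem ref_mul_rot (p p' : Circle F) : ∃ p'' : Circle F, ref p * rot p' = ref p'' := by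
  have h := p.2
  have h' := p'.2
  refine ⟨⟨(p.1.1 * p'.1.1 + p.1.2 * p'.1.2, p.1.2 * p'.1.1 - p.1.1 * p'.1.2), ?_⟩, ?_⟩
  · change (p.1.1 * p'.1.1 + p.1.2 * p'.1.2) * (p.1.1 * p'.1.1 + p.1.2 * p'.1.2) +
      (p.1.2 * p'.1.1 - p.1.1 * p'.1.2) * (p.1.2 * p'.1.1 - p.1.1 * p'.1.2) = 1
    linear_combination (p'.1.1 * p'.1.1 + p'.1.2 * p'.1.2) * h + h'
  · refine ext_W ?_ ?_
    · change ref p (rot p' _) = ref _ _
      rw [rot_apply, ref_apply, ref_apply]
      ext <;> simp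
    · change ref p (rot p' _) = ref _ _
      rw [rot_apply, ref_apply, ref_apply]
      ext <;> simp <;> ring

theorem ref_mul_ref (p p' : Circle F) : ∃ p'' : Circle F, ref p * ref p' = rot p'' := by
  have h := p.2
  have h' := p'.2
  refine ⟨⟨(p.1.1 * p'.1.1 + p.1.2 * p'.1.2, p.1.2 * p'.1.1 - p.1.1 * p'.1.2), ?_⟩, ?_⟩
  · change (p.1.1 * p'.1.1 + p.1.2 * p'.1.2) * (p.1.1 * p'.1.1 + p.1.2 * p'.1.2) +
      (p.1.2 * p'.1.1 - p.1.1 * p'.1.2) * (p.1.2 * p'.1.1 - p.1.1 * p'.1.2) = 1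
    linear_combination (p'.1.1 * p'.1.1 + p'.1.2 * p'.1.2) * h + h'
  · refine ext_W ?_ ?_
    · change ref p (ref p' _) = rot _ _
      rw [rot_apply, ref_apply, ref_apply]
      ext <;> simp
    · change ref p (ref p' _) = rot _ _
      rw [rot_apply, ref_apply, ref_apply]
      ext <;> simp <;> ring

theorem ref_sq (p : Circle F) : ref p * ref p = 1 := by
  ext1 w
  exact (ref p).left_inv w

theorem rot_comm (p p' : Circle F) : rot p * rot p' = rot p' * rot p := by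
  refine ext_W ?_ ?_
  · change rot p (rot p' _) = rot p' (rot p _)
    rw [rot_apply, rot_apply, rot_apply, rot_apply]
    ext <;> simp <;> ring
  · change rot p (rot p' _) = rot p' (rot p _)
    rw [rot_apply, rot_apply, rot_apply, rot_apply]
    ext <;> simp <;> ring

theorem ref_conj_rot (p p' : Circle F) : ref p * rot p' * (ref p)⁻¹ = (rot p')⁻¹ := by
  obtain ⟨p'', h⟩ := ref_mul_rot p p'
  have h1 := ref_sq p''
  rw [← h] at h1
  have h2 : (ref p)⁻¹ = ref p := inv_eq_of_mul_eq_one_left (ref_sq p)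
  rw [h2]
  refine eq_inv_of_mul_eq_one_left ?_
  rw [mul_assoc]
  exact h1

theorem rot_sq_eq_one (h2 : (2 : F) ≠ 0) (p : Circle F) (h : rot p * rot p = 1) : rot p = 1 ∨ rot p = LinearEquiv.neg F := by
  have h3 : rot p (rot p (1, 0)) = (1, 0) := DFunLike.congr_fun h (1, 0)
  rw [rot_apply, rot_apply] at h3
  simp only [mul_one, mul_zero, sub_zero, add_zero, Prod.mk.injEq] at h3
  have hc := p.2
  have hy : p.1.2 = 0 := by
    have h4 : (2 : F) * (p.1.2 * p.1.2) = 0 := by linear_combination hc - h3.1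
    exact mul_self_eq_zero.1 ((mul_eq_zero.1 h4).resolve_left h2)
  have hx : p.1.1 * p.1.1 = 1 := by rw [hy] at hc; linear_combination hc
  rcases mul_self_eq_one_iff.1 hx with h4 | h4
  · left
    refine ext_W ?_ ?_
    · change rot p (1, 0) = (1, 0)
      rw [rot_apply, h4, hy]; simp
    · change rot p (0, 1) = (0, 1)
      rw [rot_apply, h4, hy]; simp
  · right
    refine ext_W ?_ ?_
    · change rot p (1, 0) = -(1, 0)
      rw [rot_apply, h4, hy]; simp
    · change rot p (0, 1) = -(0, 1)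
      rw [rot_apply, h4, hy]; simp

/-- subgroups of the rotation group are cyclic -/
theorem cyclic_of_le_Rot [Finite F] (h2 : (2 : F) ≠ 0) {C : Subgroup ((F × F) ≃ₗ[F] (F × F))} (hC : C ≤ Rot F) : IsCyclic ↥C := by
  classical
  have hfin : Finite ((F × F) ≃ₗ[F] (F × F)) := DFunLike.finite _
  obtain ⟨i, hi⟩ : ∃ i : AlgebraicClosure F, i * i = -1 := by
    obtain ⟨i, hi⟩ := IsAlgClosed.exists_pow_nat_eq (-1 : AlgebraicClosure F) (n := 2) (by norm_num)
    exact ⟨i, by rw [← pow_two, hi]⟩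
  let A := algebraMap F (AlgebraicClosure F)
  have hA2 : (2 : AlgebraicClosure F) ≠ 0 := by
    have h3 : A 2 ≠ 0 := (map_ne_zero A).2 h2
    rwa [map_ofNat] at h3
  have hval : ∀ p : Circle F, (rot p) (1, 0) = (p.1.1, p.1.2) := by
    intro p
    rw [rot_apply]
    simp
  let f : ↥C →* AlgebraicClosure F :=
    { toFun := fun g => A ((g : (F × F) ≃ₗ[F] (F × F)) (1, 0)).1 + i * A ((g : (F × F) ≃ₗ[F] (F × F)) (1, 0)).2
      map_one' := by
        change A (1 : F) + i * A (0 : F) = 1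
        rw [map_one, map_zero, mul_zero, add_zero]
      map_mul' := by
        rintro ⟨g, hg⟩ ⟨g', hg'⟩
        obtain ⟨p, rfl⟩ := hC hg
        obtain ⟨p', rfl⟩ := hC hg'
        change A (rot p (rot p' (1, 0))).1 + i * A (rot p (rot p' (1, 0))).2 =
          (A (rot p (1, 0)).1 + i * A (rot p (1, 0)).2) * (A (rot p' (1, 0)).1 + i * A (rot p' (1, 0)).2)
        rw [hval p', hval p, rot_apply]
        simp only [map_add, map_sub, map_mul]
        linear_combination (-(A p.1.2 * A p'.1.2)) * hi }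
  refine isCyclic_of_injective_ringHom f ?_
  rintro ⟨g, hg⟩ ⟨g', hg'⟩ h
  obtain ⟨p, rfl⟩ := hC hg
  obtain ⟨p', rfl⟩ := hC hg'
  have h3 : A (rot p (1, 0)).1 + i * A (rot p (1, 0)).2 = A (rot p' (1, 0)).1 + i * A (rot p' (1, 0)).2 := h
  rw [hval, hval] at h3
  have e1 : (A p.1.1 + i * A p.1.2) * (A p.1.1 - i * A p.1.2) = 1 := by
    have := congrArg A p.2
    simp only [map_add, map_mul, map_one] at this
    linear_combination this - (A p.1.2 * A p.1.2) * hi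
  have e2 : (A p'.1.1 + i * A p'.1.2) * (A p'.1.1 - i * A p'.1.2) = 1 := by
    have := congrArg A p'.2
    simp only [map_add, map_mul, map_one] at this
    linear_combination this - (A p'.1.2 * A p'.1.2) * hi
  have h3' : A p.1.1 + i * A p.1.2 = A p'.1.1 + i * A p'.1.2 := h3
  have h4 : A p.1.1 - i * A p.1.2 = A p'.1.1 - i * A p'.1.2 := by
    have hne : A p.1.1 + i * A p.1.2 ≠ 0 := left_ne_zero_of_mul_eq_one e1
    rw [← h3'] at e2
    exact mul_left_cancel₀ hne (e1.trans e2.symm)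
  have h5 : A p.1.1 = A p'.1.1 := by
    have : (2 : AlgebraicClosure F) * (A p.1.1 - A p'.1.1) = 0 := by linear_combination h3' + h4
    exact sub_eq_zero.1 ((mul_eq_zero.1 this).resolve_left hA2)
  have h6 : A p.1.2 = A p'.1.2 := by
    have hi0 : i ≠ 0 := by
      rintro rfl
      rw [mul_zero] at hi
      exact neg_ne_zero.2 one_ne_zero hi.symm
    have : i * (A p.1.2 - A p'.1.2) = 0 := by linear_combination h3' - h5
    exact sub_eq_zero.1 ((mul_eq_zero.1 this).resolve_left hi0)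
  have h7 : p = p' := Subtype.ext (Prod.ext (A.injective h5) (A.injective h6))
  rw [Subtype.mk.injEq, h7]

section D

variable [Finite F] {D : Subgroup ((F × F) ≃ₗ[F] (F × F))}

/-- `D` as a Sylow subgroup -/
theorem exists_sylow (hDO : D ≤ O (qW F)) (hDc : Nat.card D = 2 ^ (Nat.card (O (qW F))).factorization 2) :
    ∃ SD : Sylow 2 ↥(O (qW F)), (SD : Subgroup ↥(O (qW F))) = D.subgroupOf (O (qW F)) := by
  have hp : Fact (Nat.Prime 2) := ⟨Nat.prime_two⟩
  have hfin : Finite ((F × F) ≃ₗ[F] (F × F)) := DFunLike.finite _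
  refine ⟨Sylow.ofCard (D.subgroupOf (O (qW F))) ?_, rfl⟩
  rw [Nat.card_congr (subgroupOfEquivOfLe hDO).toEquiv, hDc]

/-- `D` contains reflections of all norms -/
theorem exists_refl_D (h2 : (2 : F) ≠ 0) (hDO : D ≤ O (qW F))
    (hDc : Nat.card D = 2 ^ (Nat.card (O (qW F))).factorization 2) {c : F} (hc : c ≠ 0) :
    ∃ (w : F × F) (hw : qW F w ≠ 0), refl (qW F) w hw ∈ D ∧ qW F w = c := by
  have hp : Fact (Nat.Prime 2) := ⟨Nat.prime_two⟩
  have hfin : Finite ((F × F) ≃ₗ[F] (F × F)) := DFunLike.finite _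
  obtain ⟨SD, hSD⟩ := exists_sylow hDO hDc
  obtain ⟨s, t, hst⟩ := Cfsg.Agent.ClassicalGeometry.Universal.exists_sq_add_sq h2 (one_ne_zero (α := F))
    (one_ne_zero (α := F)) c
  have hq : qW F (s, t) = c := by
    rw [qW_apply]
    linear_combination hst
  have hq0 : qW F (s, t) ≠ 0 := by rw [hq]; exact hc
  have hz : IsPGroup 2 (zpowers (⟨refl (qW F) (s, t) hq0, refl_mem_O hq0⟩ : O (qW F))) := by
    rintro ⟨x, hx⟩
    obtain ⟨k, rfl⟩ := mem_zpowers_iff.1 hx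
    refine ⟨1, Subtype.ext ?_⟩
    change (_ ^ k) ^ 2 ^ 1 = 1
    have h3 : (⟨refl (qW F) (s, t) hq0, refl_mem_O hq0⟩ : O (qW F)) * ⟨refl (qW F) (s, t) hq0, refl_mem_O hq0⟩ = 1 :=
      Subtype.ext (refl_mul_self hq0)
    rw [pow_one, pow_two, ← (Commute.refl (⟨refl (qW F) (s, t) hq0, refl_mem_O hq0⟩ : O (qW F))).mul_zpow, h3, one_zpow]
  obtain ⟨⟨g, hg⟩, hgx⟩ := exists_conj_le SD hz
  have h3 := hgx _ (mem_zpowers _)
  rw [hSD] at h3
  have h4 : g * refl (qW F) (s, t) hq0 * g⁻¹ ∈ D := h3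
  have hq' : qW F (g (s, t)) = c := by rw [mem_O.1 hg, hq]
  have hq0' : qW F (g (s, t)) ≠ 0 := by rw [hq']; exact hc
  rw [refl_conj hg hq0 hq0'] at h4
  exact ⟨_, hq0', h4, hq'⟩

/-- reflections are not rotations -/
theorem refl_not_mem_Rot (h2 : (2 : F) ≠ 0) {w : F × F} (hw : qW F w ≠ 0) : refl (qW F) w hw ∉ Rot F := by
  rintro ⟨p, hp⟩
  have h1 : rot p * rot p = 1 := by rw [hp]; exact refl_mul_self hw
  have hw0 : w ≠ 0 := by
    rintro rfl
    exact hw (QuadraticMap.map_zero _)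
  have hself : refl (qW F) w hw w = -w := Cfsg.Agent.GenOrth.refl_self hw
  rcases rot_sq_eq_one h2 p h1 with h3 | h3
  · rw [← hp, h3] at hself
    have h4 : w = -w := hself
    have h5 : (2 : F) • w = 0 := by
      rw [two_smul]
      nth_rewrite 2 [h4]
      rw [add_neg_cancel]
    exact hw0 ((smul_eq_zero.1 h5).resolve_left h2)
  · -- `w⊥` is fixed
    have hperp : polar (qW F) w (-w.2, w.1) = 0 := by
      rw [polar_qW]
      ring
    have h4 : refl (qW F) w hw (-w.2, w.1) = (-w.2, w.1) := Cfsg.Agent.GenOrth.refl_perp hw hperp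
    rw [← hp, h3] at h4
    have h5 : -((-w.2, w.1) : F × F) = (-w.2, w.1) := h4
    have h6 : (2 : F) • ((-w.2, w.1) : F × F) = 0 := by
      rw [two_smul]
      nth_rewrite 1 [← h5]
      rw [neg_add_cancel]
    have h7 := (smul_eq_zero.1 h6).resolve_left h2
    rw [Prod.mk_eq_zero, neg_eq_zero] at h7
    exact hw0 (Prod.ext h7.2 h7.1)

/-- `|D| = 2 |C|` -/
theorem card_D (h2 : (2 : F) ≠ 0) (hDO : D ≤ O (qW F))
    (hDc : Nat.card D = 2 ^ (Nat.card (O (qW F))).factorization 2) : Nat.card D = 2 * Nat.card ↥(D ⊓ Rot F) := by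
  obtain ⟨w, hw, hwD, -⟩ := exists_refl_D h2 hDO hDc (one_ne_zero (α := F))
  obtain ⟨p0, hp0 | hp0⟩ := rot_or_ref h2 (hDO hwD)
  · exact (refl_not_mem_Rot h2 hw ⟨p0, hp0.symm⟩).elim
  rw [hp0] at hwD
  have h3 : ((D ⊓ Rot F).subgroupOf D).index = 2 := by
    rw [index_eq_two_iff]
    refine ⟨⟨ref p0, hwD⟩, ?_⟩
    rintro ⟨x, hx⟩
    obtain ⟨p, rfl | rfl⟩ := rot_or_ref h2 (hDO hx)
    · refine Or.inr ⟨mem_subgroupOf.2 ⟨hx, p, rfl⟩, fun h => ?_⟩
      obtain ⟨-, p', hp'⟩ := mem_subgroupOf.1 h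
      obtain ⟨p'', h4⟩ := rot_mul_ref p p0
      exact rot_ne_ref h2 p' p'' (hp'.trans h4)
    · refine Or.inl ⟨mem_subgroupOf.2 ⟨D.mul_mem hx hwD, ?_⟩, fun h => ?_⟩
      · obtain ⟨p'', h4⟩ := ref_mul_ref p p0
        exact ⟨p'', h4.symm⟩
      · obtain ⟨-, p', hp'⟩ := mem_subgroupOf.1 h
        exact rot_ne_ref h2 p' p hp'
  have h4 := card_mul_index ((D ⊓ Rot F).subgroupOf D)
  rw [h3, Nat.card_congr (subgroupOfEquivOfLe (inf_le_left : D ⊓ Rot F ≤ D)).toEquiv] at h4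
  omega

/-- `-1 ∈ D` -/
theorem neg_mem_D (hDO : D ≤ O (qW F))
    (hDc : Nat.card D = 2 ^ (Nat.card (O (qW F))).factorization 2) : (LinearEquiv.neg F : (F × F) ≃ₗ[F] (F × F)) ∈ D := by
  have hp : Fact (Nat.Prime 2) := ⟨Nat.prime_two⟩
  have hfin : Finite ((F × F) ≃ₗ[F] (F × F)) := DFunLike.finite _
  obtain ⟨SD, hSD⟩ := exists_sylow hDO hDc
  have hnO : (LinearEquiv.neg F : (F × F) ≃ₗ[F] (F × F)) ∈ O (qW F) := by
    intro v
    change qW F (-v) = qW F v
    rw [QuadraticMap.map_neg]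
  have hz : IsPGroup 2 (zpowers (⟨LinearEquiv.neg F, hnO⟩ : O (qW F))) := by
    rintro ⟨x, hx⟩
    obtain ⟨k, rfl⟩ := mem_zpowers_iff.1 hx
    refine ⟨1, Subtype.ext ?_⟩
    change (_ ^ k) ^ 2 ^ 1 = 1
    have h3 : (⟨LinearEquiv.neg F, hnO⟩ : O (qW F)) * ⟨LinearEquiv.neg F, hnO⟩ = 1 := by
      apply Subtype.ext
      ext1 v
      change -(-v) = v
      rw [neg_neg]
    rw [pow_one, pow_two, ← (Commute.refl (⟨LinearEquiv.neg F, hnO⟩ : O (qW F))).mul_zpow, h3, one_zpow]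
  obtain ⟨⟨g, hg⟩, hgx⟩ := exists_conj_le SD hz
  have h3 := hgx _ (mem_zpowers _)
  rw [hSD] at h3
  have h4 : g * LinearEquiv.neg F * g⁻¹ ∈ D := h3
  have e : g * LinearEquiv.neg F * g⁻¹ = LinearEquiv.neg F := by
    rw [mul_inv_eq_iff_eq_mul]
    ext1 v
    change g (-v) = -(g v)
    rw [map_neg]
  rwa [e] at h4

omit [Finite F] in
theorem neg_mem_Rot : (LinearEquiv.neg F : (F × F) ≃ₗ[F] (F × F)) ∈ Rot F := by
  refine ⟨⟨(-1, 0), by simp⟩, ?_⟩
  refine ext_W ?_ ?_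
  · change rot _ (1, 0) = -(1, 0)
    rw [rot_apply]; simp
  · change rot _ (0, 1) = -(0, 1)
    rw [rot_apply]; simp

omit [Finite F] in
theorem neg_ne_one (h2 : (2 : F) ≠ 0) : (LinearEquiv.neg F : (F × F) ≃ₗ[F] (F × F)) ≠ 1 := by
  intro h
  have h3 : -((1 : F), (0 : F)) = (1, 0) := DFunLike.congr_fun h (1, 0)
  have h4 := congrArg Prod.fst h3
  change -(1 : F) = 1 at h4
  exact h2 (by linear_combination -h4)

/-- the order of `C` -/
theorem exists_card_C (h2 : (2 : F) ≠ 0) (hDO : D ≤ O (qW F))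
    (hDc : Nat.card D = 2 ^ (Nat.card (O (qW F))).factorization 2) :
    ∃ e, 2 ≤ e ∧ Nat.card ↥(D ⊓ Rot F) = 2 ^ e ∧ (Nat.card F ^ 2 - 1).factorization 2 = e + 1 := by
  have h8 : 8 ∣ Nat.card F ^ 2 - 1 := by
    have : Nat.card F % 2 = 1 := by
      rcases card_circle h2 with ⟨-, h⟩ | ⟨-, h⟩ <;> omega
    exact Nat.eight_dvd_sq_sub_one_of_odd (Nat.odd_iff.2 this)
  have hq1 : 1 < Nat.card F := Finite.one_lt_card
  have h0 : Nat.card F ^ 2 - 1 ≠ 0 := by
    have h1 : Nat.card F ^ 1 < Nat.card F ^ 2 := Nat.pow_lt_pow_right hq1 (by norm_num)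
    rw [pow_one] at h1
    omega
  have h3 : 3 ≤ (Nat.card F ^ 2 - 1).factorization 2 :=
    (Nat.Prime.pow_dvd_iff_le_factorization Nat.prime_two h0).1 (by norm_num; exact h8)
  obtain ⟨e, he⟩ : ∃ e, (Nat.card F ^ 2 - 1).factorization 2 = e + 1 := ⟨(Nat.card F ^ 2 - 1).factorization 2 - 1, by omega⟩
  refine ⟨e, by omega, ?_, he⟩
  have h4 := card_D h2 hDO hDc
  rw [hDc, val_O_qW h2, he, pow_succ] at h4
  omega

/-- an element of `C` whose square is not 1 -/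
theorem exists_sq_ne (h2 : (2 : F) ≠ 0) (hDO : D ≤ O (qW F))
    (hDc : Nat.card D = 2 ^ (Nat.card (O (qW F))).factorization 2) : ∃ c ∈ D ⊓ Rot F, c * c ≠ 1 := by
  classical
  have hfin : Finite ((F × F) ≃ₗ[F] (F × F)) := DFunLike.finite _
  obtain ⟨e, he, hc, -⟩ := exists_card_C h2 hDO hDc
  by_contra hcon
  push Not at hcon
  have h3 : ((D ⊓ Rot F : Subgroup _) : Set ((F × F) ≃ₗ[F] (F × F))) ⊆ {1, LinearEquiv.neg F} := by
    intro x hx
    obtain ⟨p, hp⟩ := hx.2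
    have h4 := hcon x hx
    rw [← hp] at h4 ⊢
    exact rot_sq_eq_one h2 p h4
  have h4 := Set.ncard_le_ncard h3 (Set.toFinite _)
  have h5 : Set.ncard ({1, LinearEquiv.neg F} : Set ((F × F) ≃ₗ[F] (F × F))) = 2 := Set.ncard_pair (neg_ne_one h2).symm
  rw [← Nat.card_coe_set_eq] at h4
  have h6 : Nat.card ↥((D ⊓ Rot F : Subgroup _) : Set ((F × F) ≃ₗ[F] (F × F))) = 2 ^ e := hc
  rw [h6] at h4
  have h7 : 2 ^ 2 ≤ 2 ^ e := Nat.pow_le_pow_right (by norm_num) he
  omega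

end D

end Cfsg.Agent.H763.Psa.Orth
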