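import Mathlib
import Cfsg.Agent.H763.PsaOrth

/-!
# The Sylow 2-subgroup of `PSL_n(q)`, `n ≥ 6`, is not that of an orthogonal group (helper763, S5173)
-/

set_option autoImplicit false
set_option linter.unusedVariables false
set_option linter.unusedSectionVars false

namespace Cfsg.Agent.H763.Psa.Orth

open QuadraticMap Cfsg Subgroup
open Cfsg.Agent.LieClassical.OrthCore Cfsg.Agent.LieClassical.OrthTrans
open Cfsg.Agent.FooteOrth Cfsg.Agent.FooteOrth.Wr
open Cfsg.Agent.TitsThree.KSideO (toPOmega toPOmega_surjective)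

variable {F : Type*} [Field F] {ι : Type} [Fintype ι] [DecidableEq ι] {Q : QuadraticForm F (ι → F)}
  {m k : ℕ} {d : Fin k → F} {L : ((Fin m → F × F) × (Fin k → F)) ≃ₗ[F] (ι → F)} [Finite F]

/-- block diagonal matrices of reflections in `D` with any spinor sign -/
theorem exists_diag (hQL : ∀ v, Q (L v) = QM m (qW F) (qU d) v) (h2 : (2 : F) ≠ 0) (hm : 1 ≤ m)
    {D : Subgroup ((F × F) ≃ₗ[F] (F × F))} (hDO : D ≤ O (qW F))
    (hDc : Nat.card D = 2 ^ (Nat.card (O (qW F))).factorization 2) (ε : ℤˣ) :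
    ∃ x : Fin m → ↥(O (qW F)), (∀ i, (x i : (F × F) ≃ₗ[F] (F × F)) ∈ D ∧ (x i : (F × F) ≃ₗ[F] (F × F)) ∉ D ⊓ Rot F) ∧
      chi L hQL (x, 1) = ((-1) ^ m, ε) := by
  classical
  obtain ⟨c, hc⟩ := FiniteField.exists_nonsquare (F := F) (Cfsg.Agent.ClassicalGeometry.Universal.ringChar_ne_two h2)
  have hc0 : c ≠ 0 := by rintro rfl; exact hc IsSquare.zero
  obtain ⟨v, hv, hvD, hvq⟩ := exists_refl_D h2 hDO hDc (one_ne_zero (α := F))
  obtain ⟨w, hw, hwD, hwq⟩ := exists_refl_D h2 hDO hDc hc0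
  have hvs : IsSquare (qW F v) := by rw [hvq]; exact ⟨1, by ring⟩
  have hws : ¬ IsSquare (qW F w) := by rw [hwq]; exact hc
  let i0 : Fin m := ⟨0, hm⟩
  refine ⟨fun i => if i = i0 ∧ ε = -1 then ⟨refl (qW F) v hv, refl_mem_O hv⟩ else ⟨refl (qW F) w hw, refl_mem_O hw⟩, ?_, ?_⟩
  · intro i
    by_cases h : i = i0 ∧ ε = -1
    · simp only [if_pos h]
      exact ⟨hvD, fun h => refl_not_mem_Rot h2 hv h.2⟩
    · simp only [if_neg h]
      exact ⟨hwD, fun h => refl_not_mem_Rot h2 hw h.2⟩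
  · rw [chi_eq, show ((1, 1) : (Fin m → ↥(O (qW F))) × ↥(O (qU d))) = 1 from rfl, map_one, mul_one]
    have h1 : ∀ i, chi L hQL (Pi.mulSingle i (if i = i0 ∧ ε = -1 then (⟨refl (qW F) v hv, refl_mem_O hv⟩ : ↥(O (qW F)))
        else ⟨refl (qW F) w hw, refl_mem_O hw⟩), 1) = (-1, if i = i0 ∧ ε = -1 then -1 else 1) := by
      intro i
      by_cases h : i = i0 ∧ ε = -1
      · rw [if_pos h, if_pos h, chi_refl L hQL h2, if_pos hvs]
      · rw [if_neg h, if_neg h, chi_refl L hQL h2, if_neg hws]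
    rw [Finset.prod_congr rfl fun i _ => h1 i]
    refine Prod.ext ?_ ?_
    · rw [Prod.fst_prod]
      change ∏ i : Fin m, (-1 : Fˣ) = (-1) ^ m
      rw [Finset.prod_const, Finset.card_univ, Fintype.card_fin]
    · rw [Prod.snd_prod]
      change ∏ i : Fin m, (if i = i0 ∧ ε = -1 then (-1 : ℤˣ) else 1) = ε
      rcases Int.units_eq_one_or ε with h | h
      · subst h
        refine Finset.prod_eq_one fun i _ => if_neg ?_
        rintro ⟨-, h⟩
        exact absurd h (by decide)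
      · subst h
        rw [Fintype.prod_eq_single i0 (fun j hj => if_neg (fun h => hj h.1)), if_pos ⟨rfl, rfl⟩]

theorem mem_E_of_chi (hG : Good Q) (h2 : (2 : F) ≠ 0) (hQL : ∀ v, Q (L v) = QM m (qW F) (qU d) v) (x : Fin m → ↥(O (qW F)))
    (t : ↥(O (qU d))) :
    bh L (fun i => (x i : (F × F) ≃ₗ[F] (F × F)), (t : (Fin k → F) ≃ₗ[F] (Fin k → F))) ∈ E Q ↔ chi L hQL (x, t) = 1 := by
  rw [kap_iff hG h2 (bh_mem L hQL (fun i => (x i).2) t.2)]
  rfl

/-- case A -/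
theorem exists_inv (hG : Good Q) (h2 : (2 : F) ≠ 0) (hQL : ∀ v, Q (L v) = QM m (qW F) (qU d) v) (hd0 : ∀ j, d j ≠ 0) (hm : 1 ≤ m)
    {D : Subgroup ((F × F) ≃ₗ[F] (F × F))} (hDO : D ≤ O (qW F))
    (hDc : Nat.card D = 2 ^ (Nat.card (O (qW F))).factorization 2) (hcase : k ≠ 0 ∨ Even m) :
    ∃ (x : Fin m → ((F × F) ≃ₗ[F] (F × F))) (t : (Fin k → F) ≃ₗ[F] (Fin k → F)), (∀ i, x i ∈ D ∧ x i ∉ D ⊓ Rot F) ∧
      t ∈ (sgn : (Fin k → ℤˣ) →* ((Fin k → F) ≃ₗ[F] (Fin k → F))).range ∧ bh L (x, t) ∈ E Q := by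
  by_cases he : Even m
  · obtain ⟨x, hx, hchi⟩ := exists_diag hQL h2 hm hDO hDc 1
    refine ⟨fun i => x i, 1, hx, one_mem _, ?_⟩
    have h1 := mem_E_of_chi hG h2 hQL x 1
    rw [hchi, he.neg_one_pow] at h1
    exact h1.2 rfl
  · have hk : k ≠ 0 := hcase.resolve_right he
    have ho : Odd m := Nat.not_even_iff_odd.1 he
    obtain ⟨ε, hε⟩ := chi_sgn L hQL h2 (⟨0, Nat.pos_of_ne_zero hk⟩ : Fin k) (hd0 _)
    obtain ⟨x, hx, hchi⟩ := exists_diag hQL h2 hm hDO hDc ε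
    refine ⟨fun i => x i, sgn (Pi.mulSingle ⟨0, Nat.pos_of_ne_zero hk⟩ (-1)), hx, ⟨_, rfl⟩, ?_⟩
    have h1 := mem_E_of_chi hG h2 hQL x ⟨sgn (Pi.mulSingle ⟨0, Nat.pos_of_ne_zero hk⟩ (-1)), sgn_le_O d ⟨_, rfl⟩⟩
    refine h1.2 ?_
    have e : ((x, ⟨sgn (Pi.mulSingle ⟨0, Nat.pos_of_ne_zero hk⟩ (-1)), sgn_le_O d ⟨_, rfl⟩⟩) :
        (Fin m → ↥(O (qW F))) × ↥(O (qU d))) = (x, 1) * (1, ⟨sgn (Pi.mulSingle ⟨0, Nat.pos_of_ne_zero hk⟩ (-1)), sgn_le_O d ⟨_, rfl⟩⟩) := by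
      simp
    rw [e, map_mul, hchi, hε, ho.neg_one_pow]
    refine Prod.ext ?_ ?_
    · change (-1 : Fˣ) * (-1) = 1
      rw [neg_mul_neg, one_mul]
    · exact Int.units_mul_self ε

/-! ### The Sylow 2-subgroup of `POmega` -/

theorem sylow_map (hG : Good Q) {R : Subgroup ((ι → F) ≃ₗ[F] (ι → F))} (hRO : R ≤ O Q)
    (hRc : Nat.card R = 2 ^ (Nat.card (O Q)).factorization 2) :
    ∃ S : Sylow 2 (Cfsg.POmega F ⇑Q), (R.subgroupOf (E Q)).map (toPOmega hG) = (S : Subgroup (Cfsg.POmega F ⇑Q)) := by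
  have hp : Fact (Nat.Prime 2) := ⟨Nat.prime_two⟩
  have hfin : Finite ((ι → F) ≃ₗ[F] (ι → F)) := DFunLike.finite _
  let TL : Sylow 2 ↥(O Q) := Sylow.ofCard (R.subgroupOf (O Q)) (by
    rw [Nat.card_congr (subgroupOfEquivOfLe hRO).toEquiv, hRc])
  have hn : ((E Q).subgroupOf (O Q)).Normal := ⟨fun n hn g => conj_mem_E g.2 hn⟩
  have hpg : IsPGroup 2 ↥(R.subgroupOf (E Q)) := by
    have h1 : IsPGroup 2 ↥R := TL.2.of_equiv (subgroupOfEquivOfLe hRO)
    exact h1.comap_of_injective (E Q).subtype (E Q).subtype_injective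
  have hidx : ¬ 2 ∣ (R.subgroupOf (E Q)).index := by
    have h1 := Cfsg.Agent.CharactersDeep.QuatSylow.not_dvd_relIndex_of_normal TL ((E Q).subgroupOf (O Q))
    have h2 : (TL : Subgroup ↥(O Q)) = R.subgroupOf (O Q) := rfl
    rw [h2, relIndex_subgroupOf E_le_O] at h1
    exact h1
  let TN : Sylow 2 ↥(E Q) := hpg.toSylow hidx
  exact ⟨TN.mapSurjective (toPOmega_surjective hG), (Sylow.coe_mapSurjective (toPOmega_surjective hG) TN).symm⟩

/-- `-1` in block form -/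
theorem bh_neg (v : ι → F) : bh L (fun _ => LinearEquiv.neg F, LinearEquiv.neg F) v = -v := by
  obtain ⟨v, rfl⟩ := L.surjective v
  change conjL L (psi _) (L v) = _
  rw [conjL_apply]
  change L (-v.1, -v.2) = _
  rw [← map_neg]
  rfl

theorem ker_cases (hG : Good Q) {y : (ι → F) ≃ₗ[F] (ι → F)} (hy : y ∈ E Q) (h : toPOmega hG ⟨y, hy⟩ = 1) :
    y = 1 ∨ y = bh L (fun _ => LinearEquiv.neg F, LinearEquiv.neg F) := by
  obtain ⟨c, hc, hv⟩ := toPOmega_ker hG _ h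
  have hv' : ∀ v, y v = c • v := hv
  rcases hc with rfl | rfl
  · left
    ext1 v
    rw [hv', one_smul]
    rfl
  · right
    ext1 v
    rw [hv', bh_neg, neg_one_smul]

theorem card_O_four (hG : Good Q) (h2 : (2 : F) ≠ 0) : Nat.card ↥(O Q) = 4 * Nat.card ↥(E Q) := by
  have hd : 2 ≤ Fintype.card ι := by
    have := hG.dim
    rw [Module.finrank_fintype_fun_eq_card] at this
    omega
  have hnd : (polarBilin Q).Nondegenerate := by
    refine ⟨fun x hx => hG.nondeg x hx, fun x hx => hG.nondeg x fun y => ?_⟩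
    rw [polar_comm]
    exact hx y
  have h1 := Cfsg.Agent.ClassicalGeometry.OmegaIndex.index_Omega h2 hd Q hnd
  have h3 := (Cfsg.Omega F ⇑Q).card_mul_index
  have h4 : Nat.card ↥(E Q) = Nat.card ↥(Cfsg.Omega F ⇑Q) := by
    rw [← hG.commutator_eq_E, ← Cfsg.Agent.LieClassical.OrthFinite.map_Omega,
      card_map_of_injective (Cfsg.Agent.LieClassical.OrthFinite.isometryHom_injective Q)]
  rw [Cfsg.Agent.ClassicalGeometry.OrthSemiForms.card_O, h4, ← h3, h1, mul_comm]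

theorem card_E_two (hG : Good Q) (h2 : (2 : F) ≠ 0) (hn : LinearEquiv.neg F ∈ E Q) :
    Nat.card ↥(E Q) = 2 * Nat.card (Cfsg.POmega F ⇑Q) := by
  have hfin : Finite ((ι → F) ≃ₗ[F] (ι → F)) := DFunLike.finite _
  have hne : (1 : E Q) ≠ ⟨LinearEquiv.neg F, hn⟩ := by
    intro h
    have h3 : Nonempty ι := by
      have := hG.dim
      rw [Module.finrank_fintype_fun_eq_card] at this
      exact Fintype.card_pos_iff.1 (by omega)
    obtain ⟨i⟩ := h3
    have h1 := congrArg Subtype.val h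
    have h4 : (fun _ => (1 : F) : ι → F) i = -(1 : F) := congrFun (DFunLike.congr_fun h1 (fun _ => (1 : F))) i
    exact h2 (by linear_combination h4)
  have hk : Nat.card (toPOmega hG).ker = 2 := by
    have e : ((toPOmega hG).ker : Set ↥(E Q)) = {1, ⟨LinearEquiv.neg F, hn⟩} := by
      ext c
      simp only [SetLike.mem_coe, MonoidHom.mem_ker, Set.mem_insert_iff, Set.mem_singleton_iff]
      constructor
      · intro hc
        obtain ⟨a, ha, hv⟩ := toPOmega_ker hG _ hc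
        rcases ha with rfl | rfl
        · left
          apply Subtype.ext
          ext1 v
          rw [hv, one_smul]
          rfl
        · right
          apply Subtype.ext
          ext1 v
          rw [hv, neg_one_smul]
          rfl
      · rintro (rfl | rfl)
        · exact map_one _
        · exact toPOmega_neg hG _ fun v => rfl
    change Nat.card ↥((toPOmega hG).ker : Set ↥(E Q)) = 2
    rw [e, Nat.card_coe_set_eq, Set.ncard_pair hne]
  have h1 := card_mul_index (toPOmega hG).ker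
  rw [index_ker, MonoidHom.range_eq_top.2 (toPOmega_surjective hG), card_top, hk] at h1
  exact h1.symm

/-! ### rotations have determinant one -/

theorem chi_mul (hQL : ∀ v, Q (L v) = QM m (qW F) (qU d) v) (i : Fin m) (a b : ↥(O (qW F))) :
    chi L hQL (Pi.mulSingle i (a * b), 1) = chi L hQL (Pi.mulSingle i a, 1) * chi L hQL (Pi.mulSingle i b, 1) := by
  rw [← map_mul, Pi.mulSingle_mul]
  congr 1

theorem chi_rot (hQL : ∀ v, Q (L v) = QM m (qW F) (qU d) v) (h2 : (2 : F) ≠ 0) (i : Fin m) (a : ↥(O (qW F)))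
    (ha : (a : (F × F) ≃ₗ[F] (F × F)) ∈ Rot F) : (chi L hQL (Pi.mulSingle i a, 1)).1 = 1 := by
  classical
  obtain ⟨p, hp⟩ := ha
  let p0 : Circle F := ⟨(1, 0), by simp⟩
  obtain ⟨p1, hp1⟩ := rot_mul_ref p p0
  obtain ⟨v, hv, hvr⟩ := ref_mem_reflSet h2 p1
  obtain ⟨w, hw, hwr⟩ := ref_mem_reflSet h2 p0
  have e : a = ⟨refl (qW F) v hv, refl_mem_O hv⟩ * ⟨refl (qW F) w hw, refl_mem_O hw⟩ := by
    apply Subtype.ext
    change (a : (F × F) ≃ₗ[F] (F × F)) = refl (qW F) v hv * refl (qW F) w hw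
    rw [← hvr, ← hwr, ← hp1, mul_assoc, ref_sq, mul_one, hp]
  rw [e, chi_mul, chi_refl L hQL h2, chi_refl L hQL h2]
  change (-1 : Fˣ) * (-1) = 1
  rw [neg_mul_neg, one_mul]

theorem chi_neg (hQL : ∀ v, Q (L v) = QM m (qW F) (qU d) v) (h2 : (2 : F) ≠ 0) (i : Fin m)
    (hn : LinearEquiv.neg F ∈ O (qW F)) : chi L hQL (Pi.mulSingle i ⟨LinearEquiv.neg F, hn⟩, 1) = 1 := by
  classical
  have hb := basis2 (F := F) h2
  have hq1 : qW F (1, 0) ≠ 0 := hb.pair.left
  have hq2 : qW F (0, 1) ≠ 0 := hb.pair.right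
  have e1 : (⟨LinearEquiv.neg F, hn⟩ : ↥(O (qW F))) = ⟨refl (qW F) (1, 0) hq1, refl_mem_O hq1⟩ *
      ⟨refl (qW F) (0, 1) hq2, refl_mem_O hq2⟩ := by
    apply Subtype.ext
    refine ext_W ?_ ?_
    · show -((1 : F), (0 : F)) = refl (qW F) (1, 0) hq1 (refl (qW F) (0, 1) hq2 (1, 0))
      rw [Cfsg.Agent.GenOrth.refl_perp hq2 (by rw [polar_comm]; exact hb.pair.perp),
        Cfsg.Agent.GenOrth.refl_self hq1]
    · show -((0 : F), (1 : F)) = refl (qW F) (1, 0) hq1 (refl (qW F) (0, 1) hq2 (0, 1))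
      rw [Cfsg.Agent.GenOrth.refl_self hq2, map_neg, Cfsg.Agent.GenOrth.refl_perp hq1 hb.pair.perp]
  have hs1 : IsSquare (qW F (1, 0)) := ⟨1, by rw [qW_apply]; simp⟩
  have hs2 : IsSquare (qW F (0, 1)) := ⟨1, by rw [qW_apply]; simp⟩
  rw [e1, chi_mul, chi_refl L hQL h2, chi_refl L hQL h2, if_pos hs1, if_pos hs2]
  refine Prod.ext ?_ ?_
  · change (-1 : Fˣ) * (-1) = 1
    rw [neg_mul_neg, one_mul]
  · change (-1 : ℤˣ) * (-1) = 1
    rw [neg_mul_neg, one_mul]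

/-! ### the main theorem -/

theorem not_par (hG : Good Q) (h2 : (2 : F) ≠ 0) (h : Has Q m k d) (hd0 : ∀ j, d j ≠ 0) (hm : 3 ≤ m)
    (hcase : k ≠ 0 ∨ 4 ≤ m)
    (hcard : (Nat.card (O Q)).factorization 2 ≤
      m * (Nat.card F ^ 2 - 1).factorization 2 + k + (m.factorial).factorization 2)
    (S : Sylow 2 (Cfsg.POmega F ⇑Q)) {S0 : Type*} [Group S0] {n' : ℕ} {ty : Bool} {w : ℕ} (hp : Par S0 n' ty w)
    (hn' : 6 ≤ n') (ε : S0 ≃* ↥(S : Subgroup (Cfsg.POmega F ⇑Q))) : False := by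
  classical
  have hp2 : Fact (Nat.Prime 2) := ⟨Nat.prime_two⟩
  have hfinV : Finite (((Fin m → F × F) × (Fin k → F)) ≃ₗ[F] ((Fin m → F × F) × (Fin k → F))) := DFunLike.finite _
  have hfinW : Finite ((F × F) ≃ₗ[F] (F × F)) := DFunLike.finite _
  have hfinY : Finite ((ι → F) ≃ₗ[F] (ι → F)) := DFunLike.finite _
  have hfinG : Finite (Cfsg.POmega F ⇑Q) := Finite.of_surjective _ (toPOmega_surjective hG)
  obtain ⟨L, hL⟩ := h
  have hQL : ∀ v, Q (L v) = QM m (qW F) (qU d) v := hL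
  obtain ⟨D, hD2, hDO, hDc, -⟩ := exists_D h2
  obtain ⟨P⟩ : Nonempty (Sylow 2 (Equiv.Perm (Fin m))) := inferInstance
  -- the Sylow 2-subgroup of `O Q`
  have hT2 : IsPGroup 2 (sgn : (Fin k → ℤˣ) →* ((Fin k → F) ≃ₗ[F] (Fin k → F))).range := isPGroup_sgn h2
  have hR2 : IsPGroup 2 (TT D (sgn : (Fin k → ℤˣ) →* ((Fin k → F) ≃ₗ[F] (Fin k → F))).range
    (P : Subgroup (Equiv.Perm (Fin m)))) := isPGroup_TT hD2 hT2 P.isPGroup'
  have hRO : TT D (sgn : (Fin k → ℤˣ) →* ((Fin k → F) ≃ₗ[F] (Fin k → F))).range (P : Subgroup (Equiv.Perm (Fin m))) ≤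
    O (QM m (qW F) (qU d)) := TT_le_O hDO (sgn_le_O d)
  have hRc := card_le_TT (F := F) (W := F × F) (U := Fin k → F) (D := D)
    (T := (sgn : (Fin k → ℤˣ) →* ((Fin k → F) ≃ₗ[F] (Fin k → F))).range) (P := (P : Subgroup (Equiv.Perm (Fin m))))
  rw [hDc, card_sgn h2, P.card_eq_multiplicity, val_O_qW h2, Nat.card_perm, Nat.card_fin, ← pow_mul, ← pow_add,
    ← pow_add] at hRc
  obtain ⟨n, hn⟩ := IsPGroup.iff_card.1 hR2
  have hRLO : (TT D (sgn : (Fin k → ℤˣ) →* ((Fin k → F) ≃ₗ[F] (Fin k → F))).range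
      (P : Subgroup (Equiv.Perm (Fin m)))).map (conjL L).toMonoidHom ≤ O Q := by
    rintro _ ⟨g, hg, rfl⟩
    exact conjL_mem_O hQL (hRO hg)
  have hRLn : Nat.card ((TT D (sgn : (Fin k → ℤˣ) →* ((Fin k → F) ≃ₗ[F] (Fin k → F))).range
      (P : Subgroup (Equiv.Perm (Fin m)))).map (conjL L).toMonoidHom) = 2 ^ n := by
    rw [← hn]
    exact card_map_of_injective (conjL L).injective
  have hnle : n ≤ (Nat.card (O Q)).factorization 2 := by
    have h1 := Subgroup.card_dvd_of_le hRLO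
    rw [hRLn] at h1
    exact (Nat.Prime.pow_dvd_iff_le_factorization Nat.prime_two Nat.card_pos.ne').1 h1
  rw [hn] at hRc
  have hnge := (Nat.pow_le_pow_iff_right (by norm_num : 1 < 2)).1 hRc
  have hcomm : (Nat.card F ^ 2 - 1).factorization 2 * m = m * (Nat.card F ^ 2 - 1).factorization 2 := mul_comm _ _
  have hOn : (Nat.card (O Q)).factorization 2 = n := by omega
  have hOv : (Nat.card (O Q)).factorization 2 =
      m * (Nat.card F ^ 2 - 1).factorization 2 + k + (m.factorial).factorization 2 := by omega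
  obtain ⟨S1, hS1⟩ := sylow_map hG hRLO (by rw [hRLn, hOn])
  have hom := om L hG h2 hQL hDO hDc (P : Subgroup (Equiv.Perm (Fin m)))
  have ε1 : S0 ≃* ↥(S1 : Subgroup (Cfsg.POmega F ⇑Q)) := ε.trans (Sylow.equiv S S1)
  by_cases hA : k ≠ 0 ∨ Even m
  · -- an inverting element
    refine hp.not_invt hn' ε1 (hom.invt hm hS1 (fun y hy h => ker_cases (L := L) hG hy h) ?_)
    obtain ⟨x, t, hx, ht, hE⟩ := exists_inv hG h2 hQL hd0 (by omega) hDO hDc hA
    exact ⟨x, t, hx, ht, hE⟩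
  · push Not at hA
    obtain ⟨hk, hmo⟩ := hA
    subst hk
    have hmodd : Odd m := Nat.not_even_iff_odd.1 hmo
    have hm5 : 5 ≤ m := by
      rcases hcase with h | h
      · exact (h rfl).elim
      · obtain ⟨r, hr⟩ := hmodd
        omega
    have hsub : ∀ t : (Fin 0 → F) ≃ₗ[F] (Fin 0 → F), t = 1 := fun t => by
      ext1 u
      exact Subsingleton.elim _ _
    have hnO : LinearEquiv.neg F ∈ O (qW F) := hDO (neg_mem_D hDO hDc)
    have hnC : (LinearEquiv.neg F : (F × F) ≃ₗ[F] (F × F)) ∈ D ⊓ Rot F := ⟨neg_mem_D hDO hDc, neg_mem_Rot⟩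
    -- the spinor norm
    let χ : (Fin m → ↥(D ⊓ Rot F)) →* ℤˣ := (MonoidHom.snd _ _).comp ((chi L hQL).comp
      (MonoidHom.mk' (fun c => ((fun i => ⟨(c i : (F × F) ≃ₗ[F] (F × F)), hDO (c i).2.1⟩, 1) :
        (Fin m → ↥(O (qW F))) × ↥(O (qU d)))) (fun a b => Prod.ext rfl (by
          change (1 : ↥(O (qU d))) = 1 * 1
          rw [one_mul]))))
    have hχ : ∀ c : Fin m → ↥(D ⊓ Rot F), χ c = (chi L hQL (fun i => ⟨(c i : (F × F) ≃ₗ[F] (F × F)), hDO (c i).2.1⟩, 1)).2 :=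
      fun _ => rfl
    have hfst : ∀ c : Fin m → ↥(D ⊓ Rot F),
        (chi L hQL (fun i => ⟨(c i : (F × F) ≃ₗ[F] (F × F)), hDO (c i).2.1⟩, 1)).1 = 1 := by
      intro c
      rw [chi_eq, show ((1, 1) : (Fin m → ↥(O (qW F))) × ↥(O (qU d))) = 1 from rfl, map_one, mul_one, Prod.fst_prod]
      exact Finset.prod_eq_one fun i _ => chi_rot hQL h2 i _ (c i).2.2
    have hχE : ∀ c : Fin m → ↥(D ⊓ Rot F), χ c = 1 ↔ bh L (fun i => (c i : (F × F) ≃ₗ[F] (F × F)), 1) ∈ E Q := by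
      intro c
      rw [hχ]
      have h1 := mem_E_of_chi hG h2 hQL (fun i => ⟨(c i : (F × F) ≃ₗ[F] (F × F)), hDO (c i).2.1⟩) 1
      constructor
      · intro h3
        exact h1.2 (Prod.ext (hfst c) h3)
      · intro h3
        exact congrArg Prod.snd (h1.1 h3)
    have hχs : Function.Surjective χ := by
      obtain ⟨c, hc⟩ := FiniteField.exists_nonsquare (F := F) (Cfsg.Agent.ClassicalGeometry.Universal.ringChar_ne_two h2)
      have hc0 : c ≠ 0 := by rintro rfl; exact hc IsSquare.zero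
      obtain ⟨v, hv, hvD, hvq⟩ := exists_refl_D h2 hDO hDc (one_ne_zero (α := F))
      obtain ⟨w, hw, hwD, hwq⟩ := exists_refl_D h2 hDO hDc hc0
      have hvs : IsSquare (qW F v) := by rw [hvq]; exact ⟨1, by ring⟩
      have hws : ¬ IsSquare (qW F w) := by rw [hwq]; exact hc
      have hvwR : refl (qW F) v hv * refl (qW F) w hw ∈ Rot F := by
        obtain ⟨p1, h1 | h1⟩ := rot_or_ref h2 (hDO hvD)
        · exact (refl_not_mem_Rot h2 hv ⟨p1, h1.symm⟩).elim
        obtain ⟨p2, h3 | h3⟩ := rot_or_ref h2 (hDO hwD)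
        · exact (refl_not_mem_Rot h2 hw ⟨p2, h3.symm⟩).elim
        obtain ⟨p3, h4⟩ := ref_mul_ref p1 p2
        rw [h1, h3, h4]
        exact ⟨p3, rfl⟩
      let i0 : Fin m := ⟨0, by omega⟩
      have hval : χ (Pi.mulSingle i0 ⟨_, D.mul_mem hvD hwD, hvwR⟩) = -1 := by
        rw [hχ]
        have e : (fun i => ⟨((Pi.mulSingle i0 ⟨_, D.mul_mem hvD hwD, hvwR⟩ : Fin m → ↥(D ⊓ Rot F)) i :
            (F × F) ≃ₗ[F] (F × F)), hDO ((Pi.mulSingle i0 ⟨_, D.mul_mem hvD hwD, hvwR⟩ : Fin m → ↥(D ⊓ Rot F)) i).2.1⟩ :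
            Fin m → ↥(O (qW F))) = Pi.mulSingle i0 (⟨refl (qW F) v hv, refl_mem_O hv⟩ * ⟨refl (qW F) w hw, refl_mem_O hw⟩) := by
          funext i
          apply Subtype.ext
          by_cases hi : i = i0
          · subst hi
            simp only [Pi.mulSingle_eq_same]
            rfl
          · simp only [Pi.mulSingle_eq_of_ne hi]
            rfl
        rw [e, chi_mul, chi_refl L hQL h2, chi_refl L hQL h2, if_pos hvs, if_neg hws]
        rfl
      intro y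
      rcases Int.units_eq_one_or y with h | h
      · exact ⟨1, by rw [map_one, h]⟩
      · exact ⟨_, by rw [hval, h]⟩
    have hnE : bh L (fun _ => LinearEquiv.neg F, 1) ∈ E Q := by
      have h1 := hχE (fun _ => ⟨LinearEquiv.neg F, hnC⟩)
      refine h1.1 ?_
      rw [hχ, chi_eq, show ((1, 1) : (Fin m → ↥(O (qW F))) × ↥(O (qU d))) = 1 from rfl, map_one, mul_one, Prod.snd_prod]
      refine Finset.prod_eq_one fun i _ => ?_
      rw [chi_neg hQL h2 i hnO]
      rfl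
    have hker : ∀ (y : (ι → F) ≃ₗ[F] (ι → F)) (hy : y ∈ E Q), toPOmega hG ⟨y, hy⟩ = 1 ↔
        y = 1 ∨ y = bh L (fun _ => LinearEquiv.neg F, 1) := by
      intro y hy
      constructor
      · intro h
        have := ker_cases (L := L) hG hy h
        rwa [hsub (LinearEquiv.neg F)] at this
      · rintro (rfl | rfl)
        · exact map_one _
        · refine toPOmega_neg hG _ fun v => ?_
          have := bh_neg (L := L) v
          rwa [hsub (LinearEquiv.neg F)] at this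
    obtain ⟨e, he2, hCe, hve⟩ := exists_card_C h2 hDO hDc
    have hcyc : IsCyclic ↥(D ⊓ Rot F) := cyclic_of_le_Rot h2 inf_le_right
    have hexp : ∀ k, (∀ c ∈ D ⊓ Rot F, c ^ 2 ^ k = 1) → e ≤ k := by
      intro k hk
      obtain ⟨g, hg⟩ := hcyc.exists_generator
      have h1 : orderOf g = Nat.card ↥(D ⊓ Rot F) := orderOf_eq_card_of_forall_mem_zpowers hg
      have h3 : g ^ 2 ^ k = 1 := Subtype.ext (hk g g.2)
      have h4 := orderOf_dvd_of_pow_eq_one h3
      rw [h1, hCe] at h4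
      exact (Nat.pow_dvd_pow_iff_le_right (by norm_num)).1 h4
    have hnE' : LinearEquiv.neg F ∈ E Q := by
      have : bh L (fun _ => LinearEquiv.neg F, 1) = LinearEquiv.neg F := by
        ext1 v
        have := bh_neg (L := L) v
        rw [hsub (LinearEquiv.neg F)] at this
        exact this
      rwa [this] at hnE
    have h4 := card_O_four hG h2
    rw [card_E_two hG h2 hnE'] at h4
    have hpos : Nat.card (Cfsg.POmega F ⇑Q) ≠ 0 := Nat.card_pos.ne'
    have hN : (Nat.card (O Q)).factorization 2 = 3 + (Nat.card (Cfsg.POmega F ⇑Q)).factorization 2 := by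
      have e8 : 4 * (2 * Nat.card (Cfsg.POmega F ⇑Q)) = 2 ^ 3 * Nat.card (Cfsg.POmega F ⇑Q) := by ring
      rw [h4, e8, Nat.factorization_mul (by norm_num) hpos, Finsupp.add_apply, Nat.Prime.factorization_pow Nat.prime_two,
        Finsupp.single_eq_same]
    refine hom.not_par hm5 (Nat.odd_iff.1 hmodd) hS1 (fun t _ => hsub t) χ hχs hχE hnC (neg_ne_one h2) hker hnE hCe hexp
      S1.card_eq_multiplicity ?_ hp hn' ε1
    rw [hve] at hOv
    have e9 : m * (e + 1) = (e + 1) * m := mul_comm _ _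
    omega

end Cfsg.Agent.H763.Psa.Orth
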