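import Mathlib
import Cfsg.Agent.H763.PsaTwo
import Cfsg.Agent.H991.OverS

/-!
# Normal subsystems realized by `PSL_n(q)`, and generalized Fitting subsystems (helper763, S5174, S5313)

`Cl S` : the nonabelian strongly closed subgroups of `S` are `S`.
-/

set_option autoImplicit false
set_option linter.unusedVariables false
set_option linter.unusedSectionVars false

namespace Cfsg.Agent.H763.Psa

open Cfsg Cfsg.FusionSystem Cfsg.Agent.H802
open Matrix (SpecialLinearGroup ProjectiveSpecialLinearGroup)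

variable {Ω : Type*} [Group Ω]

/-- A normal subsystem over `S` is everything if `S` has no automorphisms of odd order. -/
theorem hom_eq_of_noOdd {S : Subgroup Ω} [Finite S] {F E : FusionSystem S} (hE : E.IsNormalIn F 2)
    (hA : ∀ (φ : MulAut S) (k : ℕ), Odd k → φ ^ k = 1 → φ = 1) (P : Subgroup Ω) : E.Hom P = F.Hom P := by
  have hp : Fact (Nat.Prime 2) := ⟨Nat.prime_two⟩
  have hpg : IsPGroup 2 (MulAut S) := Cfsg.Agent.Classification.QDW.AutSylow.isPGroup_of_odd fun a ha =>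
    hA a _ ha (pow_orderOf_eq_one a)
  have hi := hE.1.2.2
  refine Cfsg.Agent.H991.hom_eq_of_autGroup_le hi (fun α hα => ?_) P
  have hS : F.IsFullyAutomized 2 S := by
    obtain ⟨Q, hQ, hQ1, -⟩ := hE.1.2.1 S le_rfl
    have hc := isConj_card_eq hQ
    have hQS : Q = S := Subgroup.eq_of_le_of_card_ge (isConj_le_right hQ) hc.le
    rw [hQS] at hQ1
    exact hQ1
  refine Cfsg.Agent.H991.pElement_mem hi hS hα ?_
  obtain ⟨n, hn⟩ := hpg α
  obtain ⟨m, -, hm⟩ := (Nat.dvd_prime_pow Nat.prime_two).1 (orderOf_dvd_of_pow_eq_one hn)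
  exact ⟨m, hm⟩

/-- the same system -/
theorem transfer {S T : Subgroup Ω} {F : FusionSystem S} {E : FusionSystem T} (hTS : T = S)
    (h : ∀ P, E.Hom P = F.Hom P) {H : Type*} [Group H] (T' : Sylow 2 H)
    (hι : ∃ ι : T →* H, E.IsRealizedBy ι ∧ ∃ T' : Sylow 2 H, (T' : Subgroup H) = ι.range) :
    ∃ ι : S →* H, F.IsRealizedBy ι ∧ ∃ T' : Sylow 2 H, (T' : Subgroup H) = ι.range := by
  subst hTS
  obtain ⟨ι, ⟨h1, h2⟩, h3⟩ := hι
  refine ⟨ι, ⟨h1, fun P hP φ hφ => ?_⟩, h3⟩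
  rw [← h P]
  exact h2 P hP φ hφ

/-- transfer of the properties of a Sylow 2-subgroup along an injective map onto it -/
theorem props {T : Subgroup Ω} {H : Type*} [Group H] {ι : T →* H} (hι : Function.Injective ι) (T' : Sylow 2 H)
    (hT' : (T' : Subgroup H) = ι.range)
    (hA : ∀ (φ : MulAut ↥(T' : Subgroup H)) (k : ℕ), Odd k → φ ^ k = 1 → φ = 1)
    (hnc : ∃ x y : ↥(T' : Subgroup H), x * y ≠ y * x) :
    (∀ (φ : MulAut T) (k : ℕ), Odd k → φ ^ k = 1 → φ = 1) ∧ ∃ x y : T, x * y ≠ y * x := by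
  let e : T ≃* ↥(T' : Subgroup H) := (MonoidHom.ofInjective hι).trans (MulEquiv.subgroupCongr hT'.symm)
  constructor
  · intro φ k hk hφ
    have h1 : (MulAut.congr e φ) ^ k = 1 := by rw [← map_pow, hφ, map_one]
    exact (MulAut.congr e).injective ((hA _ k hk h1).trans (map_one _).symm)
  · obtain ⟨x, y, hxy⟩ := hnc
    refine ⟨e.symm x, e.symm y, fun hc => hxy ?_⟩
    rw [← map_mul, ← map_mul] at hc
    exact e.symm.injective hc

/-- the nonabelian strongly closed subgroups are everything -/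
def Cl (S : Subgroup Ω) : Prop :=
  ∀ T : Subgroup Ω, (groupFusionSystem S).StronglyClosed T → (∃ x ∈ T, ∃ y ∈ T, x * y ≠ y * x) → T = S

/-- **S5174**, given `Cl S`. -/
theorem main {G : Type*} [Group G] [Finite G] (S : Sylow 2 G) (hcl : Cl (S : Subgroup G)) {n : ℕ} (hn : 2 ≤ n)
    {F : Type*} [Field F] [Fintype F] (hF : Odd (Fintype.card F))
    (h2 : n = 2 → Fintype.card F % 8 = 1 ∨ Fintype.card F % 8 = 7) {T : Subgroup G} (E : FusionSystem T)
    (hE : E.IsNormalIn (groupFusionSystem (S : Subgroup G)) 2)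
    (hiso : ∃ ι : T →* ProjectiveSpecialLinearGroup (Fin n) F, E.IsRealizedBy ι ∧
      ∃ T' : Sylow 2 (ProjectiveSpecialLinearGroup (Fin n) F), (T' : Subgroup (ProjectiveSpecialLinearGroup (Fin n) F)) = ι.range) :
    ∃ ι : ↥(S : Subgroup G) →* ProjectiveSpecialLinearGroup (Fin n) F,
      (groupFusionSystem (S : Subgroup G)).IsRealizedBy ι ∧
      ∃ T' : Sylow 2 (ProjectiveSpecialLinearGroup (Fin n) F), (T' : Subgroup (ProjectiveSpecialLinearGroup (Fin n) F)) = ι.range := by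
  obtain ⟨ι, hι, T', hT'⟩ := hiso
  obtain ⟨p1, p2⟩ := psl_main hn hF h2 T'
  obtain ⟨q1, ⟨x, hx⟩, ⟨y, hy⟩, hxy⟩ := props hι.1 T' hT' p1 p2
  have hTS : T = (S : Subgroup G) := hcl T hE.1.2.2.2.1 ⟨x, hx, y, hy, fun hc => hxy (Subtype.ext hc)⟩
  subst hTS
  exact transfer rfl (fun P => hom_eq_of_noOdd hE q1 P) T' ⟨ι, hι, T', hT'⟩

end Cfsg.Agent.H763.Psa
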