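import Cfsg.Agent.S1252
import Cfsg.Agent.H763.PsaMain

/-!
# Nonabelian strongly closed 2-subgroups of simple groups (helper763)

`eq_of_noncomm`: `G` finite simple, `T` strongly closed in the Sylow 2-subgroup `S`, `T` not abelian: `T = S` (from S1252).
-/

set_option autoImplicit false

namespace Cfsg.Agent.H763

open Cfsg

variable {G : Type*} [Group G]

theorem eq_of_noncomm [Finite G] [IsSimpleGroup G] (S : Sylow 2 G) (T : Subgroup G)
    (hsc : IsStronglyClosed T (S : Subgroup G)) (hnc : ∃ x ∈ T, ∃ y ∈ T, x * y ≠ y * x) : T = (S : Subgroup G) := by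
  by_contra hTS
  have hT1 : T ≠ ⊥ := by
    rintro rfl
    obtain ⟨x, hx, y, hy, hxy⟩ := hnc
    rw [Subgroup.mem_bot] at hx hy
    exact hxy (by rw [hx, hy])
  have hlt : T < (S : Subgroup G) := lt_of_le_of_ne hsc.1 hTS
  -- the index of `T` is even
  have heven : Even T.index := by
    have h1 : (T.relIndex (S : Subgroup G)) * (S : Subgroup G).index = T.index :=
      Subgroup.relIndex_mul_index hsc.1
    have h2 : 2 ∣ T.relIndex (S : Subgroup G) := by
      have h3' : T.relIndex (S : Subgroup G) ≠ 1 := fun h =>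
        hTS (le_antisymm hsc.1 (Subgroup.relIndex_eq_one.1 h))
      have h4 : T.relIndex (S : Subgroup G) ∣ Nat.card (S : Subgroup G) :=
        Subgroup.relIndex_dvd_card T (S : Subgroup G)
      obtain ⟨n, hn⟩ := (IsPGroup.iff_card (p := 2)).1 S.isPGroup'
      rw [hn] at h4
      obtain ⟨j, -, hj⟩ := (Nat.dvd_prime_pow Nat.prime_two).1 h4
      rw [hj]
      refine dvd_pow_self 2 ?_
      rintro rfl
      exact h3' (by rw [hj, pow_zero])
    rw [← h1]
    exact (even_iff_two_dvd.2 h2).mul_right _
  have htop : ∀ N : Subgroup G, N.Normal → N ≠ ⊥ → N = ⊤ := fun N hN hN1 =>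
    (hN.eq_bot_or_eq_top).resolve_left hN1
  have hncl : Subgroup.normalClosure (T : Set G) = ⊤ := by
    refine htop _ inferInstance fun h => hT1 ?_
    have h5 : T ≤ Subgroup.normalClosure (T : Set G) := Subgroup.le_normalClosure
    rw [h] at h5
    exact (le_bot_iff).1 h5
  obtain ⟨-, r, L, hcomm, -, hsup, -, hZ⟩ := Cfsg.Agent.S1252.result S T hsc
    (by rw [hncl, Subgroup.relIndex_top_right]; exact heven)
    (fun N hN hN1 => by
      rw [htop N hN hN1, inf_top_eq, Subgroup.relIndex_top_right]
      exact heven)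
  rw [hncl] at hsup
  -- some `L i` is everything
  obtain ⟨i, hi⟩ : ∃ i, L i = ⊤ := by
    by_contra hno
    push Not at hno
    have hbot : ∀ i, L i = ⊥ := by
      intro i
      by_contra hne
      refine hno i (htop (L i) ?_ hne)
      have h6 : (⊤ : Subgroup G) ≤ Subgroup.normalizer (L i : Set G) := by
        rw [← hsup]
        refine iSup_le fun j => ?_
        by_cases hij : j = i
        · subst hij
          exact Subgroup.le_normalizer
        · intro b hb
          rw [Subgroup.mem_normalizer_iff]
          intro a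
          constructor
          · intro ha
            have h7 := hcomm i j (Ne.symm hij) a ha b hb
            rw [show b * a * b⁻¹ = a by rw [← h7]; group]
            exact ha
          · intro ha
            have h7 := hcomm i j (Ne.symm hij) _ ha b hb
            have h8 : b * a * b⁻¹ = a := by
              have : b * (b * a * b⁻¹) = b * a * b⁻¹ * b := h7.symm
              have h9 : b * a * b⁻¹ = a * b * b⁻¹ := by
                have h10 : b * (b * a * b⁻¹) = b * a := by rw [this]; group
                have h11 := mul_left_cancel h10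
                rw [h11]
                group
              rw [h9]
              group
            rw [h8] at ha
            exact ha
      exact ⟨fun a ha g => (Subgroup.mem_normalizer_iff.1 (h6 (Subgroup.mem_top g)) a).1 ha⟩
    have h7 : (⨆ i, L i) = ⊥ := by
      rw [iSup_eq_bot]
      exact hbot
    rw [hsup] at h7
    exact top_ne_bot h7
  obtain ⟨P, hP⟩ := hZ i
  have hTi : T ⊓ L i = T := inf_eq_left.2 (le_top.trans hi.ge)
  rw [hTi] at hP
  obtain ⟨x, hx, y, hy, hxy⟩ := hnc
  rw [hP] at hx hy
  obtain ⟨_, ⟨x, hx, rfl⟩, rfl⟩ := hx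
  obtain ⟨_, ⟨y, hy, rfl⟩, rfl⟩ := hy
  apply hxy
  have h8 := (Subgroup.mem_center_iff.1 hx) y
  have h9 : ((y : ↥(P : Subgroup ↥(L i))) : ↥(L i)) * x = x * y := congrArg Subtype.val h8
  have h10 := congrArg Subtype.val h9
  exact h10.symm

theorem cl [Finite G] [IsSimpleGroup G] (S : Sylow 2 G) : Psa.Cl (S : Subgroup G) := by
  intro T hT hnc
  refine eq_of_noncomm S T ⟨hT.1, fun x hx g hg => ?_⟩ hnc
  have hz : Subgroup.zpowers x ≤ T := (Subgroup.zpowers_le).2 hx
  have hm : conjHom (Subgroup.zpowers x) g ∈ (groupFusionSystem (S : Subgroup G)).Hom (Subgroup.zpowers x) := by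
    refine ⟨hz.trans hT.1, ?_, g, fun _ => rfl⟩
    rintro ⟨y, k, rfl⟩
    show g * x ^ k * g⁻¹ ∈ (S : Subgroup G)
    rw [← conj_zpow]
    exact (S : Subgroup G).zpow_mem hg k
  exact hT.2 _ hz _ hm ⟨x, Subgroup.mem_zpowers x⟩

end Cfsg.Agent.H763
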