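import Mathlib
import Cfsg.Agent.H763.PsaMain
import Cfsg.Agent.H759.FusNormal
import Cfsg.Prelude.Def_FusionFitting

/-!
# The generalized Fitting subsystem realized by `PSL_n(q)` (helper763, S5313)
-/

set_option autoImplicit false
set_option linter.unusedVariables false
set_option linter.unusedSectionVars false

namespace Cfsg.Agent.H763.Psa

open Cfsg Cfsg.FusionSystem Cfsg.Agent.H802
open Matrix (SpecialLinearGroup ProjectiveSpecialLinearGroup)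

variable {Ω : Type*} [Group Ω]

/-- strongly closed subgroups are carried to strongly closed subgroups of the realizing group -/
theorem closed_image {S : Subgroup Ω} {D : FusionSystem S} {H : Type*} [Group H] {ι : S →* H} (hι : D.IsRealizedBy ι)
    {A : Subgroup Ω} (hA : D.StronglyClosed A) : IsStronglyClosed ((A.subgroupOf S).map ι) ι.range := by
  refine ⟨?_, ?_⟩
  · rintro _ ⟨x, -, rfl⟩
    exact ⟨x, rfl⟩
  · rintro _ ⟨⟨a, haS⟩, ha, rfl⟩ g hg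
    have haA : a ∈ A := ha
    obtain ⟨b, hb⟩ := hg
    -- the map on `⟨a⟩`
    let e : S ≃* ι.range := MonoidHom.ofInjective hι.1
    have hz : ∀ y : Subgroup.zpowers a, (y : Ω) ∈ S := fun y => (Subgroup.zpowers_le.2 haS) y.2
    have hy : ∀ y : Subgroup.zpowers a, g * ι ⟨y, hz y⟩ * g⁻¹ ∈ ι.range := by
      rintro ⟨_, k, rfl⟩
      refine ⟨b ^ k, ?_⟩
      rw [map_zpow, hb, conj_zpow, ← map_zpow]
      rfl
    let φ : Subgroup.zpowers a →* Ω :=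
      { toFun := fun y => (e.symm ⟨g * ι ⟨y, hz y⟩ * g⁻¹, hy y⟩ : S)
        map_one' := by
          have h1 : (⟨g * ι ⟨((1 : Subgroup.zpowers a) : Ω), hz 1⟩ * g⁻¹, hy 1⟩ : ι.range) = 1 := by
            apply Subtype.ext
            have : (⟨((1 : Subgroup.zpowers a) : Ω), hz 1⟩ : S) = 1 := rfl
            change g * ι ⟨((1 : Subgroup.zpowers a) : Ω), hz 1⟩ * g⁻¹ = 1
            rw [this, map_one, mul_one, mul_inv_cancel]
          rw [h1, map_one]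
          rfl
        map_mul' := fun x y => by
          have h1 : (⟨g * ι ⟨((x * y : Subgroup.zpowers a) : Ω), hz (x * y)⟩ * g⁻¹, hy (x * y)⟩ : ι.range) =
              ⟨g * ι ⟨x, hz x⟩ * g⁻¹, hy x⟩ * ⟨g * ι ⟨y, hz y⟩ * g⁻¹, hy y⟩ := by
            apply Subtype.ext
            have : (⟨((x * y : Subgroup.zpowers a) : Ω), hz (x * y)⟩ : S) = ⟨x, hz x⟩ * ⟨y, hz y⟩ := rfl
            change g * ι ⟨((x * y : Subgroup.zpowers a) : Ω), hz (x * y)⟩ * g⁻¹ = g * ι ⟨x, hz x⟩ * g⁻¹ * (g * ι ⟨y, hz y⟩ * g⁻¹)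
            rw [this, map_mul]
            group
          rw [h1, map_mul]
          rfl }
    have hφ : ∀ x, φ x ∈ S := fun x => (e.symm _).2
    have hφD : φ ∈ D.Hom (Subgroup.zpowers a) := by
      refine (hι.2 _ (Subgroup.zpowers_le.2 haS) φ hφ).2 ⟨g, fun x => ?_⟩
      have h1 : e ⟨φ x, hφ x⟩ = ⟨g * ι ⟨x, hz x⟩ * g⁻¹, hy x⟩ := e.apply_symm_apply _
      exact congrArg Subtype.val h1
    have h1 : φ ⟨a, Subgroup.mem_zpowers a⟩ ∈ A := hA.2 _ (Subgroup.zpowers_le.2 haA) φ hφD _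
    have h2 : (⟨φ ⟨a, Subgroup.mem_zpowers a⟩, hφ _⟩ : S) = b := by
      apply e.injective
      have h3 : e ⟨φ ⟨a, Subgroup.mem_zpowers a⟩, hφ _⟩ = ⟨g * ι ⟨a, haS⟩ * g⁻¹, hy ⟨a, Subgroup.mem_zpowers a⟩⟩ :=
        e.apply_symm_apply _
      rw [h3]
      apply Subtype.ext
      exact hb.symm
    rw [← hb]
    refine ⟨b, ?_, rfl⟩
    rw [← h2]
    exact h1

/-- a central subgroup which is strongly closed in a system realized by a group all of whose strongly closed subgroups are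
trivial -/
theorem central_closed {S : Subgroup Ω} {D : FusionSystem S} {H : Type*} [Group H] {ι : S →* H} (hι : D.IsRealizedBy ι)
    (T' : Sylow 2 H) (hT' : (T' : Subgroup H) = ι.range)
    (hH : ∀ (S : Sylow 2 H) (A : Subgroup H), IsStronglyClosed A (S : Subgroup H) → A = ⊥ ∨ A = (S : Subgroup H))
    (hnc : ∃ x ∈ S, ∃ y ∈ S, x * y ≠ y * x) {A : Subgroup Ω} (hA : D.StronglyClosed A)
    (hc : ∀ a ∈ A, ∀ b ∈ A, a * b = b * a) : A = ⊥ := by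
  have h1 := closed_image hι hA
  rw [← hT'] at h1
  rcases hH T' _ h1 with h2 | h2
  · rw [eq_bot_iff]
    intro a ha
    have h3 : ι ⟨a, hA.1 ha⟩ ∈ (A.subgroupOf S).map ι := ⟨_, ha, rfl⟩
    rw [h2, Subgroup.mem_bot, ← map_one ι] at h3
    have h4 := hι.1 h3
    exact congrArg Subtype.val h4
  · exfalso
    obtain ⟨x, hx, y, hy, hxy⟩ := hnc
    rw [hT'] at h2
    have h3 : ∀ z (hz : z ∈ S), z ∈ A := by
      intro z hz
      have h4 : ι ⟨z, hz⟩ ∈ (A.subgroupOf S).map ι := by rw [h2]; exact ⟨_, rfl⟩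
      obtain ⟨⟨w, hw⟩, hwA, hwz⟩ := h4
      have h5 := congrArg Subtype.val (hι.1 hwz)
      have h6 : w = z := h5
      rw [← h6]
      exact hwA
    exact hxy (hc x (h3 x hx) y (h3 y hy))

section prod

variable {Q T U : Subgroup Ω} {E₁ : FusionSystem Q} {E₂ : FusionSystem T} {D₀ : FusionSystem (Q.prod T)}
  {θ : ↥(Q.prod T) →* Ω}

theorem theta_mul (h1 : ∀ (x : Ω) (hx : ((x, 1) : Ω × Ω) ∈ Q.prod T), θ ⟨(x, 1), hx⟩ = x)
    (h2 : ∀ (y : Ω) (hy : ((1, y) : Ω × Ω) ∈ Q.prod T), θ ⟨(1, y), hy⟩ = y) {x y : Ω} (hx : x ∈ Q) (hy : y ∈ T)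
    (h : ((x, y) : Ω × Ω) ∈ Q.prod T) : θ ⟨(x, y), h⟩ = x * y := by
  have hx' : ((x, 1) : Ω × Ω) ∈ Q.prod T := ⟨hx, T.one_mem⟩
  have hy' : ((1, y) : Ω × Ω) ∈ Q.prod T := ⟨Q.one_mem, hy⟩
  have h3 : (⟨(x, y), h⟩ : ↥(Q.prod T)) = ⟨(x, 1), hx'⟩ * ⟨(1, y), hy'⟩ := by
    apply Subtype.ext
    change (x, y) = (x, 1) * (1, y)
    rw [Prod.mk_mul_mk, mul_one, one_mul]
  rw [h3, map_mul, h1, h2]

theorem theta_comm (h1 : ∀ (x : Ω) (hx : ((x, 1) : Ω × Ω) ∈ Q.prod T), θ ⟨(x, 1), hx⟩ = x)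
    (h2 : ∀ (y : Ω) (hy : ((1, y) : Ω × Ω) ∈ Q.prod T), θ ⟨(1, y), hy⟩ = y) {x y : Ω} (hx : x ∈ Q) (hy : y ∈ T) :
    x * y = y * x := by
  have hx' : ((x, 1) : Ω × Ω) ∈ Q.prod T := ⟨hx, T.one_mem⟩
  have hy' : ((1, y) : Ω × Ω) ∈ Q.prod T := ⟨Q.one_mem, hy⟩
  have h3 : (⟨(x, 1), hx'⟩ : ↥(Q.prod T)) * ⟨(1, y), hy'⟩ = ⟨(1, y), hy'⟩ * ⟨(x, 1), hx'⟩ := by
    apply Subtype.ext
    change ((x, 1) : Ω × Ω) * (1, y) = (1, y) * (x, 1)
    rw [Prod.mk_mul_mk, Prod.mk_mul_mk, mul_one, one_mul, mul_one, one_mul]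
  have h4 := congrArg θ h3
  rwa [map_mul, map_mul, h1, h2] at h4

theorem mem_pre {P' : Subgroup Ω} {z : Ω × Ω} : z ∈ preimageAlong θ P' ↔ ∃ h : z ∈ Q.prod T, θ ⟨z, h⟩ ∈ P' := by
  constructor
  · rintro ⟨s, hs, rfl⟩
    exact ⟨s.2, hs⟩
  · rintro ⟨h, hz⟩
    exact ⟨⟨z, h⟩, hz, rfl⟩

/-- the maps of a central product on elements of the first factor -/
theorem apply_fst {D : FusionSystem U} (hprod : IsProductSystem E₁ E₂ D₀)
    (h1 : ∀ (x : Ω) (hx : ((x, 1) : Ω × Ω) ∈ Q.prod T), θ ⟨(x, 1), hx⟩ = x)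
    {P' : Subgroup Ω} {φ' : P' →* Ω} {φ : ↥(preimageAlong θ P') →* Ω × Ω} (hφ : φ ∈ D₀.Hom (preimageAlong θ P'))
    (hind : InducedAlong θ φ φ') :
    ∃ (P₁ : Subgroup Ω) (φ₁ : P₁ →* Ω), φ₁ ∈ E₁.Hom P₁ ∧ ∀ (x : Ω) (hxQ : x ∈ Q) (hx : x ∈ P'), ∃ h : x ∈ P₁,
      φ' ⟨x, hx⟩ = φ₁ ⟨x, h⟩ := by
  obtain ⟨hP, φ₁, hφ₁, φ₂, hφ₂, hmul⟩ := (hprod _ _).1 hφ
  refine ⟨_, φ₁, hφ₁, fun x hxQ hx => ?_⟩
  have hx' : ((x, 1) : Ω × Ω) ∈ Q.prod T := ⟨hxQ, T.one_mem⟩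
  have hxP : ((x, 1) : Ω × Ω) ∈ preimageAlong θ P' := mem_pre.2 ⟨hx', by rw [h1]; exact hx⟩
  have hf : x ∈ (preimageAlong θ P').map (MonoidHom.fst Ω Ω) := ⟨_, hxP, rfl⟩
  have hs : (1 : Ω) ∈ (preimageAlong θ P').map (MonoidHom.snd Ω Ω) := ⟨_, hxP, rfl⟩
  refine ⟨hf, ?_⟩
  obtain ⟨a1, a2, a3, a4⟩ := hind
  have h5 := a4 ⟨(x, 1), hxP⟩
  have h6 := hmul ⟨(x, 1), hxP⟩ hf hs
  have h7 : φ₂ ⟨1, hs⟩ = 1 := map_one φ₂
  have h8 : φ ⟨(x, 1), hxP⟩ = (φ₁ ⟨x, hf⟩, 1) := by rw [h6]; exact Prod.ext rfl h7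
  have h9 : ((φ₁ ⟨x, hf⟩, 1) : Ω × Ω) ∈ Q.prod T := by rw [← h8]; exact a2 _
  have h10 : (⟨φ ⟨(x, 1), hxP⟩, a2 _⟩ : ↥(Q.prod T)) = ⟨(φ₁ ⟨x, hf⟩, 1), h9⟩ := Subtype.ext h8
  have h11 : (⟨θ ⟨((⟨(x, 1), hxP⟩ : ↥(preimageAlong θ P')) : Ω × Ω), a1 hxP⟩, a3 ⟨(x, 1), hxP⟩⟩ : P') = ⟨x, hx⟩ :=
    Subtype.ext (h1 x _)
  exact (congrArg φ' h11.symm).trans (h5.trans ((congrArg θ h10).trans (h1 _ h9)))

/-- a central product with a trivial factor -/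
theorem hom_eq_of_bot {D : FusionSystem T} (hQ : Q = ⊥) (hprod : IsProductSystem E₁ E₂ D₀)
    (h1 : ∀ (x : Ω) (hx : ((x, 1) : Ω × Ω) ∈ Q.prod T), θ ⟨(x, 1), hx⟩ = x)
    (h2 : ∀ (y : Ω) (hy : ((1, y) : Ω × Ω) ∈ Q.prod T), θ ⟨(1, y), hy⟩ = y)
    (hD : ∀ (P' : Subgroup Ω) (φ' : P' →* Ω),
      φ' ∈ D.Hom P' ↔ P' ≤ T ∧ ∃ φ ∈ D₀.Hom (preimageAlong θ P'), InducedAlong θ φ φ') (P' : Subgroup Ω) :
    D.Hom P' = E₂.Hom P' := by
  have hmemP : ∀ z : Ω × Ω, z ∈ preimageAlong θ P' → z.1 = 1 ∧ z.2 ∈ T ∧ z.2 ∈ P' := by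
    rintro ⟨x, y⟩ hz
    obtain ⟨h, hz⟩ := mem_pre.1 hz
    have hx : x ∈ Q := h.1
    have hy : y ∈ T := h.2
    have hx1 : x = 1 := by rw [hQ, Subgroup.mem_bot] at hx; exact hx
    rw [theta_mul h1 h2 hx hy] at hz
    refine ⟨hx1, hy, ?_⟩
    change y ∈ P'
    rwa [hx1, one_mul] at hz
  ext φ'
  rw [hD]
  constructor
  · rintro ⟨hP'T, φ, hφ, a1, a2, a3, a4⟩
    obtain ⟨hP, φ₁, hφ₁, φ₂, hφ₂, hmul⟩ := (hprod _ _).1 hφ
    have hin : ∀ y ∈ P', ((1, y) : Ω × Ω) ∈ preimageAlong θ P' := fun y hy => by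
      have h : ((1, y) : Ω × Ω) ∈ Q.prod T := ⟨Q.one_mem, hP'T hy⟩
      exact mem_pre.2 ⟨h, by rw [h2 y h]; exact hy⟩
    have hle : P' ≤ (preimageAlong θ P').map (MonoidHom.snd Ω Ω) := fun y hy => ⟨_, hin y hy, rfl⟩
    refine mem_of_agree hφ₂ hle fun y hy => ?_
    have hf : (1 : Ω) ∈ (preimageAlong θ P').map (MonoidHom.fst Ω Ω) := ⟨_, hin y hy, rfl⟩
    have h5 := a4 ⟨(1, y), hin y hy⟩
    have h6 := hmul ⟨(1, y), hin y hy⟩ hf (hle hy)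
    have h7 : φ₁ ⟨1, hf⟩ = 1 := map_one φ₁
    have h8 : φ ⟨(1, y), hin y hy⟩ = (1, φ₂ ⟨y, hle hy⟩) := by rw [h6]; exact Prod.ext h7 rfl
    have h9 : ((1, φ₂ ⟨y, hle hy⟩) : Ω × Ω) ∈ Q.prod T := by rw [← h8]; exact a2 _
    have h10 : (⟨φ ⟨(1, y), hin y hy⟩, a2 _⟩ : ↥(Q.prod T)) = ⟨(1, φ₂ ⟨y, hle hy⟩), h9⟩ := Subtype.ext h8
    have h11 : (⟨θ ⟨((⟨(1, y), hin y hy⟩ : ↥(preimageAlong θ P')) : Ω × Ω), a1 (hin y hy)⟩, a3 ⟨(1, y), hin y hy⟩⟩ : P') =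
        ⟨y, hy⟩ := Subtype.ext (h2 y _)
    exact (congrArg φ' h11.symm).trans (h5.trans ((congrArg θ h10).trans (h2 _ h9)))
  · intro hψ
    have hP'T : P' ≤ T := hom_le hψ
    refine ⟨hP'T, ?_⟩
    have hle : (preimageAlong θ P').map (MonoidHom.snd Ω Ω) ≤ P' := by
      rintro _ ⟨z, hz, rfl⟩
      exact (hmemP z hz).2.2
    have hfst : (preimageAlong θ P').map (MonoidHom.fst Ω Ω) ≤ Q := by
      rintro _ ⟨z, hz, rfl⟩
      exact (mem_pre.1 hz).1.1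
    let φ₂ : ↥((preimageAlong θ P').map (MonoidHom.snd Ω Ω)) →* Ω := φ'.comp (Subgroup.inclusion hle)
    have hφ₂ : φ₂ ∈ E₂.Hom _ := mem_of_agree hψ hle fun x hx => rfl
    let φ₁ : ↥((preimageAlong θ P').map (MonoidHom.fst Ω Ω)) →* Ω := Subgroup.subtype _
    have hφ₁ : φ₁ ∈ E₁.Hom _ := subtype_mem E₁ hfst
    have hT2 : ∀ z, φ' z ∈ T := fun z => hom_apply_mem hψ z
    let f1 : ↥(preimageAlong θ P') →* ↥((preimageAlong θ P').map (MonoidHom.fst Ω Ω)) :=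
      (MonoidHom.fst Ω Ω).subgroupMap _
    let f2 : ↥(preimageAlong θ P') →* ↥((preimageAlong θ P').map (MonoidHom.snd Ω Ω)) :=
      (MonoidHom.snd Ω Ω).subgroupMap _
    let φ : ↥(preimageAlong θ P') →* Ω × Ω := (φ₁.comp f1).prod (φ₂.comp f2)
    have hφe : ∀ z : ↥(preimageAlong θ P'), φ z = ((z : Ω × Ω).1, φ' ⟨(z : Ω × Ω).2, (hmemP _ z.2).2.2⟩) := fun z => rfl
    have hPT : preimageAlong θ P' ≤ Q.prod T := fun z hz => (mem_pre.1 hz).1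
    refine ⟨φ, (hprod _ _).2 ⟨hPT, φ₁, hφ₁, φ₂, hφ₂, fun x h₁ h₂ => rfl⟩, hPT, fun z => ?_, fun z => (mem_pre.1 z.2).2, ?_⟩
    · rw [hφe]
      exact ⟨(hPT z.2).1, hT2 _⟩
    · rintro ⟨⟨x, y⟩, hz⟩
      obtain ⟨e1, e2, e3⟩ := hmemP _ hz
      change x = 1 at e1
      subst e1
      have h12 : ((1, φ' ⟨y, e3⟩) : Ω × Ω) ∈ Q.prod T := ⟨Q.one_mem, hT2 _⟩
      have h13 : θ ⟨(1, φ' ⟨y, e3⟩), h12⟩ = φ' ⟨y, e3⟩ := h2 _ _
      have h14 : θ ⟨(1, y), hPT hz⟩ = y := h2 _ _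
      have h15 : (⟨θ ⟨(1, y), hPT hz⟩, (mem_pre.1 hz).2⟩ : P') = ⟨y, e3⟩ := Subtype.ext h14
      exact (congrArg φ' h15).trans h13.symm

end prod

/-- **S5313**, given `Cl S`. -/
theorem main_fit {G : Type*} [Group G] [Finite G] (S : Sylow 2 G) (hcl : Cl (S : Subgroup G)) {n : ℕ} (hn : 2 ≤ n)
    {F : Type*} [Field F] [Fintype F] (hF : Odd (Fintype.card F))
    (h2 : n = 2 → Fintype.card F % 8 = 1 ∨ Fintype.card F % 8 = 7) {U : Subgroup G} (D : FusionSystem U)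
    (hD : D.IsGeneralizedFittingOf (groupFusionSystem (S : Subgroup G)) 2)
    (hiso : ∃ ι : ↥U →* ProjectiveSpecialLinearGroup (Fin n) F, D.IsRealizedBy ι ∧
      ∃ T' : Sylow 2 (ProjectiveSpecialLinearGroup (Fin n) F), (T' : Subgroup (ProjectiveSpecialLinearGroup (Fin n) F)) = ι.range) :
    ∃ ι : ↥(S : Subgroup G) →* ProjectiveSpecialLinearGroup (Fin n) F,
      (groupFusionSystem (S : Subgroup G)).IsRealizedBy ι ∧
      ∃ T' : Sylow 2 (ProjectiveSpecialLinearGroup (Fin n) F), (T' : Subgroup (ProjectiveSpecialLinearGroup (Fin n) F)) = ι.range := by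
  obtain ⟨ι, hι, T', hT'⟩ := hiso
  obtain ⟨p1, p2⟩ := psl_main hn hF h2 T'
  obtain ⟨q1, ⟨u, hu⟩, ⟨v, hv⟩, huv⟩ := props hι.1 T' hT' p1 p2
  have huv' : u * v ≠ v * u := fun hc => huv (Subtype.ext hc)
  have hH := Cfsg.Agent.FooteOdd.closedRow_psl_all hn (Cfsg.Agent.FooteOdd.two_of_odd hF)
  obtain ⟨T, E, hlay, D₀, hprod, Z, θ, hZ, -, -, h1, h3, -, hker, hr, hfac⟩ := hD
  set Fs := groupFusionSystem (S : Subgroup G) with hFs
  have hcore : Fs.IsNormal Fs.core := Cfsg.Agent.H759.isNormal_core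
  have hQS : Fs.core ≤ (S : Subgroup G) := hcore.1
  have hTS : T ≤ (S : Subgroup G) := hlay.1.1.2.2.2.1.1
  have hUS : U ≤ (S : Subgroup G) := by
    rw [← hr]
    rintro _ ⟨⟨⟨x, y⟩, hxy⟩, rfl⟩
    rw [theta_mul h1 h3 hxy.1 hxy.2]
    exact Subgroup.mul_mem _ (hQS hxy.1) (hTS hxy.2)
  have hQU : Fs.core ≤ U := by
    rw [← hr]
    intro x hx
    exact ⟨⟨(x, 1), ⟨hx, T.one_mem⟩⟩, h1 x _⟩
  have hTU : T ≤ U := by
    rw [← hr]
    intro x hx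
    exact ⟨⟨(1, x), ⟨Fs.core.one_mem, hx⟩⟩, h3 x _⟩
  have hcomm : ∀ x ∈ Fs.core, ∀ y ∈ T, x * y = y * x := fun x hx y hy => theta_comm h1 h3 hx hy
  -- one of the factors is not abelian
  have hor : (∃ x ∈ Fs.core, ∃ y ∈ Fs.core, x * y ≠ y * x) ∨ ∃ x ∈ T, ∃ y ∈ T, x * y ≠ y * x := by
    by_contra hcon
    push Not at hcon
    obtain ⟨c1, c2⟩ := hcon
    have hu' := hu
    have hv' := hv
    rw [← hr] at hu' hv'
    obtain ⟨⟨⟨x, y⟩, hxy⟩, hxu⟩ := hu'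
    obtain ⟨⟨⟨x', y'⟩, hxy'⟩, hxv⟩ := hv'
    rw [theta_mul h1 h3 hxy.1 hxy.2] at hxu
    rw [theta_mul h1 h3 hxy'.1 hxy'.2] at hxv
    apply huv'
    rw [← hxu, ← hxv]
    change x * y * (x' * y') = x' * y' * (x * y)
    have e1 : x * x' = x' * x := c1 x hxy.1 x' hxy'.1
    have e2 : y * y' = y' * y := c2 y hxy.2 y' hxy'.2
    have e3 : x' * y = y * x' := hcomm x' hxy'.1 y hxy.2
    have e4 : x * y' = y' * x := hcomm x hxy.1 y' hxy'.2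
    calc x * y * (x' * y') = x * (y * x') * y' := by group
      _ = (x * x') * (y * y') := by rw [← e3]; group
      _ = x' * (x * y') * y := by rw [e1, e2]; group
      _ = _ := by rw [e4]; group
  rcases hor with hor | hor
  · -- the core is `S`
    exfalso
    have hQ : Fs.core = (S : Subgroup G) := hcl _ (Cfsg.Agent.H759.IsNormal.stronglyClosed hcore) hor
    have hU : U = (S : Subgroup G) := le_antisymm hUS (hQ.ge.trans hQU)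
    -- the centre is strongly closed in `D`
    have hZc : D.StronglyClosed (U ⊓ Subgroup.centralizer (U : Set G)) := by
      refine ⟨inf_le_left, fun R hR φ' hφ' x => ?_⟩
      obtain ⟨hRU, φ, hφ, hind⟩ := (hfac R φ').1 hφ'
      obtain ⟨P₁, φ₁, hφ₁, hap⟩ := apply_fst (D := D) hprod h1 hφ hind
      obtain ⟨hP₁, a, ha, hφa⟩ := hφ₁
      have hxU : (x : G) ∈ U := hRU x.2
      obtain ⟨hx1, hx2⟩ := hap x (by rw [hQ, ← hU]; exact hxU) x.2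
      have e1 : φ' x = φ' ⟨(x : G), x.2⟩ := rfl
      rw [e1, hx2, hφa]
      have haU : a ∈ U := hQU ha
      have e2 : a * (x : G) = x * a := (hR x.2).2 a haU
      change a * (x : G) * a⁻¹ ∈ _
      rw [e2, mul_inv_cancel_right]
      exact hR x.2
    have hbot := central_closed hι T' hT' hH ⟨u, hu, v, hv, huv'⟩ hZc fun a ha b hb => (hb.2 a ha.1)
    -- but the centre is not trivial
    have hp : Fact (Nat.Prime 2) := ⟨Nat.prime_two⟩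
    have hUp : IsPGroup 2 U := S.2.to_le hUS
    have hnt : Nontrivial U := ⟨⟨u, hu⟩, 1, fun h => huv' (by rw [show u = 1 from congrArg Subtype.val h, one_mul, mul_one])⟩
    have hcn := hUp.center_nontrivial
    obtain ⟨⟨z, hz⟩, hz1⟩ := exists_ne (1 : ↥(Subgroup.center U))
    apply hz1
    have h4 : (z : G) ∈ U ⊓ Subgroup.centralizer (U : Set G) :=
      ⟨z.2, fun w hw => congrArg Subtype.val (Subgroup.mem_center_iff.1 hz ⟨w, hw⟩)⟩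
    rw [hbot, Subgroup.mem_bot] at h4
    exact Subtype.ext (Subtype.ext h4)
  · -- the layer is over `S`
    have hT : T = (S : Subgroup G) := hcl _ hlay.1.1.2.2.2.1 hor
    have hU : U = T := le_antisymm (hUS.trans hT.ge) hTU
    subst hU
    -- the core is central
    have hQc : D.StronglyClosed Fs.core := by
      refine ⟨hQU, fun R hR φ' hφ' x => ?_⟩
      obtain ⟨hRU, φ, hφ, hind⟩ := (hfac R φ').1 hφ'
      obtain ⟨P₁, φ₁, hφ₁, hap⟩ := apply_fst (D := D) hprod h1 hφ hind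
      obtain ⟨hP₁, a, ha, hφa⟩ := hφ₁
      obtain ⟨hx1, hx2⟩ := hap x (hR x.2) x.2
      have e1 : φ' x = φ' ⟨(x : G), x.2⟩ := rfl
      rw [e1, hx2, hφa]
      exact Subgroup.mul_mem _ (Subgroup.mul_mem _ ha (hR x.2)) (Subgroup.inv_mem _ ha)
    have hQ : Fs.core = ⊥ := central_closed hι T' hT' hH ⟨u, hu, v, hv, huv'⟩ hQc
      fun a ha b hb => hcomm a ha b (hQU hb)
    have hDE : ∀ P, D.Hom P = E.Hom P := fun P => hom_eq_of_bot hQ hprod h1 h3 hfac P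
    have hEF : ∀ P, E.Hom P = Fs.Hom P := by
      rw [hFs]
      subst hT
      exact fun P => hom_eq_of_noOdd hlay.1 q1 P
    exact transfer hT (fun P => (hDE P).trans (hEF P)) T' ⟨ι, hι, T', hT'⟩

end Cfsg.Agent.H763.Psa
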