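import Mathlib
import Cfsg.Prelude.Def_TwoFusion
import Cfsg.Agent.ClosedTwo.Torus
import Cfsg.Agent.KFacts.RgdCharP
import Cfsg.Agent.KFacts.RgdBorelTits

/-!
Strongly closed subgroups of the maximal unipotent subgroup of a simple group with a root group datum of rank at least
two (a copy, with a small import closure, of the parts `Abs`, `Rgd`, `RgdFoc` of `ClosedTwo.LieTwo` by helper39 and of
`conn_of_simple`, `noCent_of_center` of `KFacts.RgdLieCharP` by helper650); helper763.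
-/

set_option autoImplicit false
set_option linter.unusedSectionVars false

-- merged: Cfsg.Agent.ClosedTwo.Abs
section

/-!
Elementary facts for strongly closed subgroups of groups with a `BN`-pair (helper39, S1252).

* `comm_sub` : the elements `u` of `U` with `g u g⁻¹ u⁻¹ ∈ K`, `K` normal in `U`, form a subgroup;
* `eq_of_sup_commutator` : in a finite `p`-group `A ⊔ U' = U` implies `A = U` (for `A` normal in `U`);
* `cent` : the elements of a group centralising `V` modulo `K`.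
-/

set_option autoImplicit false

namespace Cfsg.Agent.H763.Abs

variable {G : Type*} [Group G]

/-- `u ∈ U` with `g u g⁻¹ u⁻¹ ∈ K`. -/
def cs (U K : Subgroup G) (hK : ∀ u ∈ U, ∀ k ∈ K, u * k * u⁻¹ ∈ K) (g : G) : Subgroup G where
  carrier := {u | u ∈ U ∧ g * u * g⁻¹ * u⁻¹ ∈ K}
  mul_mem' := by
    rintro a b ⟨ha, ha'⟩ ⟨hb, hb'⟩
    refine ⟨mul_mem ha hb, ?_⟩
    have e : g * (a * b) * g⁻¹ * (a * b)⁻¹ = (g * a * g⁻¹ * a⁻¹) * (a * (g * b * g⁻¹ * b⁻¹) * a⁻¹) := by group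
    rw [e]
    exact mul_mem ha' (hK a ha _ hb')
  one_mem' := ⟨one_mem _, by simp⟩
  inv_mem' := by
    rintro a ⟨ha, ha'⟩
    refine ⟨inv_mem ha, ?_⟩
    have e : g * a⁻¹ * g⁻¹ * a⁻¹⁻¹ = a⁻¹ * (g * a * g⁻¹ * a⁻¹)⁻¹ * a⁻¹⁻¹ := by group
    rw [e]
    exact hK _ (inv_mem ha) _ (inv_mem ha')

theorem mem_cs {U K : Subgroup G} {hK : ∀ u ∈ U, ∀ k ∈ K, u * k * u⁻¹ ∈ K} {g u : G} :
    u ∈ cs U K hK g ↔ u ∈ U ∧ g * u * g⁻¹ * u⁻¹ ∈ K := Iff.rfl

/-- The elements normalising `V` and `K` and centralising `V` modulo `K`. -/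
def cent (V K : Subgroup G) : Subgroup G where
  carrier := {g | (∀ v, v ∈ V ↔ g * v * g⁻¹ ∈ V) ∧ (∀ k, k ∈ K ↔ g * k * g⁻¹ ∈ K) ∧
    ∀ v ∈ V, g * v * g⁻¹ * v⁻¹ ∈ K}
  mul_mem' := by
    rintro a b ⟨h1, h2, h3⟩ ⟨h4, h5, h6⟩
    refine ⟨fun v => ?_, fun k => ?_, fun v hv => ?_⟩
    · rw [h4, h1]
      have e : a * (b * v * b⁻¹) * a⁻¹ = a * b * v * (a * b)⁻¹ := by group
      rw [e]
    · rw [h5, h2]
      have e : a * (b * k * b⁻¹) * a⁻¹ = a * b * k * (a * b)⁻¹ := by group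
      rw [e]
    · have e : a * b * v * (a * b)⁻¹ * v⁻¹ = (a * (b * v * b⁻¹) * a⁻¹ * (b * v * b⁻¹)⁻¹) * (b * v * b⁻¹ * v⁻¹) := by
        group
      rw [e]
      exact mul_mem (h3 _ ((h4 v).1 hv)) (h6 v hv)
  one_mem' := by simp
  inv_mem' := by
    rintro a ⟨h1, h2, h3⟩
    refine ⟨fun v => ?_, fun k => ?_, fun v hv => ?_⟩
    · rw [h1 (a⁻¹ * v * a⁻¹⁻¹)]
      have e : a * (a⁻¹ * v * a⁻¹⁻¹) * a⁻¹ = v := by group
      rw [e]
    · rw [h2 (a⁻¹ * k * a⁻¹⁻¹)]
      have e : a * (a⁻¹ * k * a⁻¹⁻¹) * a⁻¹ = k := by group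
      rw [e]
    · have hw : a⁻¹ * v * a⁻¹⁻¹ ∈ V := by
        rw [h1 (a⁻¹ * v * a⁻¹⁻¹)]
        have e : a * (a⁻¹ * v * a⁻¹⁻¹) * a⁻¹ = v := by group
        rwa [e]
      have h4 := h3 _ hw
      have e : a⁻¹ * v * a⁻¹⁻¹ * v⁻¹ = (a * (a⁻¹ * v * a⁻¹⁻¹) * a⁻¹ * (a⁻¹ * v * a⁻¹⁻¹)⁻¹)⁻¹ := by group
      rw [e]
      exact inv_mem h4

theorem mem_cent {V K : Subgroup G} {g : G} : g ∈ cent V K ↔ (∀ v, v ∈ V ↔ g * v * g⁻¹ ∈ V) ∧
    (∀ k, k ∈ K ↔ g * k * g⁻¹ ∈ K) ∧ ∀ v ∈ V, g * v * g⁻¹ * v⁻¹ ∈ K := Iff.rfl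

/-- `cent` is invariant under elements normalising `V` and `K`. -/
theorem conj_mem_cent {V K : Subgroup G} {g c : G} (hg : g ∈ cent V K) (hV : ∀ v, v ∈ V ↔ c * v * c⁻¹ ∈ V)
    (hK : ∀ k, k ∈ K ↔ c * k * c⁻¹ ∈ K) : c * g * c⁻¹ ∈ cent V K := by
  obtain ⟨h1, h2, h3⟩ := hg
  refine ⟨fun v => ?_, fun k => ?_, fun v hv => ?_⟩
  · constructor
    · intro hv
      have h4 : c⁻¹ * v * c ∈ V := (hV _).2 (by rwa [show c * (c⁻¹ * v * c) * c⁻¹ = v by group])
      have h5 := (hV _).1 ((h1 _).1 h4)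
      rwa [show c * (g * (c⁻¹ * v * c) * g⁻¹) * c⁻¹ = c * g * c⁻¹ * v * (c * g * c⁻¹)⁻¹ by group] at h5
    · intro hv
      have h4 : c⁻¹ * (c * g * c⁻¹ * v * (c * g * c⁻¹)⁻¹) * c ∈ V := (hV _).2 (by
        rwa [show c * (c⁻¹ * (c * g * c⁻¹ * v * (c * g * c⁻¹)⁻¹) * c) * c⁻¹ =
          c * g * c⁻¹ * v * (c * g * c⁻¹)⁻¹ by group])
      rw [show c⁻¹ * (c * g * c⁻¹ * v * (c * g * c⁻¹)⁻¹) * c = g * (c⁻¹ * v * c) * g⁻¹ by group, ← h1] at h4
      have h5 := (hV _).1 h4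
      rwa [show c * (c⁻¹ * v * c) * c⁻¹ = v by group] at h5
  · constructor
    · intro hv
      have h4 : c⁻¹ * k * c ∈ K := (hK _).2 (by rwa [show c * (c⁻¹ * k * c) * c⁻¹ = k by group])
      have h5 := (hK _).1 ((h2 _).1 h4)
      rwa [show c * (g * (c⁻¹ * k * c) * g⁻¹) * c⁻¹ = c * g * c⁻¹ * k * (c * g * c⁻¹)⁻¹ by group] at h5
    · intro hv
      have h4 : c⁻¹ * (c * g * c⁻¹ * k * (c * g * c⁻¹)⁻¹) * c ∈ K := (hK _).2 (by
        rwa [show c * (c⁻¹ * (c * g * c⁻¹ * k * (c * g * c⁻¹)⁻¹) * c) * c⁻¹ =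
          c * g * c⁻¹ * k * (c * g * c⁻¹)⁻¹ by group])
      rw [show c⁻¹ * (c * g * c⁻¹ * k * (c * g * c⁻¹)⁻¹) * c = g * (c⁻¹ * k * c) * g⁻¹ by group, ← h2] at h4
      have h5 := (hK _).1 h4
      rwa [show c * (c⁻¹ * k * c) * c⁻¹ = k by group] at h5
  · have h4 : c⁻¹ * v * c ∈ V := (hV _).2 (by rwa [show c * (c⁻¹ * v * c) * c⁻¹ = v by group])
    have h5 := (hK _).1 (h3 _ h4)
    rwa [show c * (g * (c⁻¹ * v * c) * g⁻¹ * (c⁻¹ * v * c)⁻¹) * c⁻¹ =
      c * g * c⁻¹ * v * (c * g * c⁻¹)⁻¹ * v⁻¹ by group] at h5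

/-- In a finite `p`-group `A ⊔ U' = U` implies `A = U` for `A` normal. -/
theorem eq_top_of_sup_commutator {U : Type*} [Group U] [Finite U] {p : ℕ} [Fact p.Prime] (hU : IsPGroup p U)
    {A : Subgroup U} [A.Normal] (h : A ⊔ commutator U = ⊤) : A = ⊤ := by
  by_contra hne
  have hnt : Nontrivial (U ⧸ A) := by
    rw [← not_subsingleton_iff_nontrivial]
    intro hs
    refine hne (eq_top_iff.2 fun x _ => ?_)
    exact (QuotientGroup.eq_one_iff x).1 (Subsingleton.elim _ _)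
  have hp : IsPGroup p (U ⧸ A) := hU.to_quotient A
  have hnil : Group.IsNilpotent (U ⧸ A) := hp.isNilpotent
  have h1 := Group.IsSolvable.commutator_lt_top_of_nontrivial (U ⧸ A)
  apply h1.ne
  have h2 : (commutator U).map (QuotientGroup.mk' A) = ⊤ := by
    have h3 : (A ⊔ commutator U).map (QuotientGroup.mk' A) = ⊤ := by
      rw [h, Subgroup.map_top_of_surjective _ (QuotientGroup.mk'_surjective A)]
    rw [Subgroup.map_sup, QuotientGroup.map_mk'_self, bot_sup_eq] at h3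
    exact h3
  rw [← h2, commutator_def, commutator_def, Subgroup.map_commutator,
    Subgroup.map_top_of_surjective _ (QuotientGroup.mk'_surjective A)]

theorem eq_of_sup_commutator [Finite G] {p : ℕ} [Fact p.Prime] {U A : Subgroup G} (hU : IsPGroup p U)
    (hAU : A ≤ U) (hA : ∀ u ∈ U, ∀ a ∈ A, u * a * u⁻¹ ∈ A) (h : U ≤ A ⊔ ⁅U, U⁆) : A = U := by
  have hn : (A.subgroupOf U).Normal := ⟨fun a ha u => hA _ u.2 _ ha⟩
  have h1 : A.subgroupOf U ⊔ commutator U = ⊤ := by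
    apply Subgroup.map_injective U.subtype_injective
    rw [Subgroup.map_sup, Subgroup.map_subgroupOf_eq_of_le hAU, commutator_def, Subgroup.map_commutator,
      ← MonoidHom.range_eq_map, Subgroup.range_subtype]
    refine le_antisymm (sup_le hAU (Subgroup.commutator_le.2 fun a ha b hb => ?_)) h
    rw [commutatorElement_def]
    exact mul_mem (mul_mem (mul_mem ha hb) (inv_mem ha)) (inv_mem hb)
  have h2 := eq_top_of_sup_commutator hU h1
  exact le_antisymm hAU (Subgroup.subgroupOf_eq_top.1 h2)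

end Cfsg.Agent.H763.Abs

end

-- merged: Cfsg.Agent.ClosedTwo.Rgd
section

/-!
Strongly closed subgroups of a Sylow `p`-subgroup `U` of a simple group with a root group datum of rank at least 2 in
characteristic `p` are trivial or equal to `U` (helper39, S1252).

Proof.  Let `D` be strongly closed in `U`, `D ≠ 1`.  As `D` is not normal, `D` is not contained in the radical
`V i` of some minimal parabolic.  If `D` is not in `V i` then the reflection `n i` centralises `V i` modulo `D`, up to an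
element of `B`; hence `U = D V j` for the neighbours `j` of `i`.  So `U = D V i` for all `i` and the rank one groups
centralise `V i` modulo `K = D U'`, the torus, generated by the rank one tori, centralises `U / K`, so the focal
subgroup lies in `K`.
-/

set_option autoImplicit false
set_option linter.unusedSectionVars false

namespace Cfsg.Agent.H763.Rgd

open CoxeterSystem Cfsg.Agent.ChevalleyStructure.CoxeterGeom Cfsg.Agent.Tits.Roots Cfsg.Agent.Tits.Core
  Cfsg.Agent.Nodes.Reps Cfsg.Agent.Nodes.BNOf Cfsg.Agent.Nodes.StabComb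
  Cfsg.Agent.Nodes.Bruhat Cfsg.Agent.Nodes.OppDec Cfsg.Agent.Nodes.FreeTorus Cfsg.Agent.KFacts.RgdCharP
  Cfsg.Agent.H763.Abs Cfsg.Agent.ClosedTwo
open scoped commutatorElement

variable {I W Y : Type*} [Fintype I] [DecidableEq I] [Group W] [Group Y] {M : CoxeterMatrix I}
  {cs : CoxeterSystem M W} {A : I → I → ℤ} {h : IsCartan M A} {p : ℕ} {T : Subgroup Y} {n : I → Y}
  {X : (I → ℤ) → Subgroup Y}

/-- the maximal unipotent subgroup -/
abbrev UU (cs : CoxeterSystem M W) (h : IsCartan M A) (X : (I → ℤ) → Subgroup Y) : Subgroup Y :=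
  RGD.Sup X (RGD.Pos cs h)

/-- the radical of the minimal parabolic -/
abbrev VV (cs : CoxeterSystem M W) (h : IsCartan M A) (X : (I → ℤ) → Subgroup Y) (i : I) : Subgroup Y :=
  RGD.Sup X (RGD.PosNe cs h i)

/-- `D` is strongly closed in `U`. -/
structure Closed (cs : CoxeterSystem M W) (h : IsCartan M A) (X : (I → ℤ) → Subgroup Y) (D : Subgroup Y) : Prop where
  le : D ≤ UU cs h X
  cl : ∀ x ∈ D, ∀ g : Y, g * x * g⁻¹ ∈ UU cs h X → g * x * g⁻¹ ∈ D

theorem VV_le (i : I) : VV cs h X i ≤ UU cs h X := RGD.Sup_mono fun _ hz => ⟨hz.1, hz.2.1⟩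

theorem X_le_UU (i : I) : X (sr i) ≤ UU cs h X := RGD.le_Sup ⟨isRoot_sr cs h i, sr_nonneg i⟩

section

variable (R : RGD cs h p T n X)

include R

theorem U_norm_V (i : I) : UU cs h X ≤ Subgroup.normalizer (VV cs h X i : Set Y) := by
  unfold UU
  rw [R.Upos_eq i]
  exact sup_le (R.X_le_normalizer_V i) Subgroup.le_normalizer

theorem B_norm_V (i : I) : RGD.B cs h T X ≤ Subgroup.normalizer (VV cs h X i : Set Y) :=
  sup_le (R.T_le_normalizer fun _ hx => hx.1) (U_norm_V R i)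

theorem n_norm_V (i : I) : n i ∈ Subgroup.normalizer (VV cs h X i : Set Y) := by
  rw [mem_normalizer_iff_cj]
  exact R.cj_n_V i

variable {D : Subgroup Y} (hD : Closed cs h X D)

include hD

theorem B_conj {b x : Y} (hb : b ∈ RGD.B cs h T X) (hx : x ∈ D) : b * x * b⁻¹ ∈ D :=
  hD.cl x hx b ((Subgroup.mem_normalizer_iff.1 (R.B_le_normalizer_U hb) x).1 (hD.le hx))

theorem B_norm_D : RGD.B cs h T X ≤ Subgroup.normalizer (D : Set Y) := by
  intro b hb
  rw [Subgroup.mem_normalizer_iff]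
  intro x
  refine ⟨fun hx => B_conj R hD hb hx, fun hx => ?_⟩
  have h1 := B_conj R hD (inv_mem hb) hx
  rwa [show b⁻¹ * (b * x * b⁻¹) * b⁻¹⁻¹ = x by group] at h1

omit R in
theorem conj_mem_inf {i : I} {g x : Y} (hg : g ∈ Subgroup.normalizer (VV cs h X i : Set Y))
    (hx : x ∈ D ⊓ VV cs h X i) : g * x * g⁻¹ ∈ D ⊓ VV cs h X i := by
  obtain ⟨h1, h2⟩ := Subgroup.mem_inf.1 hx
  have h3 := (Subgroup.mem_normalizer_iff.1 hg x).1 h2
  exact Subgroup.mem_inf.2 ⟨hD.cl x h1 g (VV_le i h3), h3⟩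

omit R in
theorem norm_inf {i : I} {g : Y} (hg : g ∈ Subgroup.normalizer (VV cs h X i : Set Y)) (x : Y) :
    x ∈ D ⊓ VV cs h X i ↔ g * x * g⁻¹ ∈ D ⊓ VV cs h X i := by
  refine ⟨conj_mem_inf hD hg, fun hx => ?_⟩
  have h1 := conj_mem_inf hD (inv_mem hg) hx
  rwa [show g⁻¹ * (g * x * g⁻¹) * g⁻¹⁻¹ = x by group] at h1

/-- `D` centralises `V i` modulo `D ⊓ V i`. -/
theorem D_le_cent (i : I) : D ≤ cent (VV cs h X i) (D ⊓ VV cs h X i) := by
  intro a ha
  have haN := U_norm_V R i (hD.le ha)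
  rw [mem_cent]
  refine ⟨fun v => Subgroup.mem_normalizer_iff.1 haN v, norm_inf hD haN, fun v hv => ?_⟩
  refine Subgroup.mem_inf.2 ⟨?_, mul_mem ((Subgroup.mem_normalizer_iff.1 haN v).1 hv) (inv_mem hv)⟩
  rw [show a * v * a⁻¹ * v⁻¹ = a * (v * a⁻¹ * v⁻¹) by group]
  exact mul_mem ha (B_conj R hD (RGD.U_le_B (VV_le i hv)) (inv_mem ha))

/-- The reflection centralises `V i` modulo `D`, up to an element of `B`. -/
theorem exists_d [Finite W] {i : I} (hi : ¬ D ≤ VV cs h X i) :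
    ∃ d ∈ cent (VV cs h X i) (D ⊓ VV cs h X i), ∃ b ∈ RGD.B cs h T X, n i = d * b := by
  obtain ⟨a, ha, haV⟩ := SetLike.not_le_iff_exists.1 hi
  have haU := hD.le ha
  have h1 : a ∈ ((X (sr i) ⊔ VV cs h X i : Subgroup Y) : Set Y) := by
    rw [← R.Upos_eq i]
    exact haU
  rw [Subgroup.coe_mul_of_left_le_normalizer_right _ _ (R.X_le_normalizer_V i), Set.mem_mul] at h1
  obtain ⟨x, hx, v, hv, e⟩ := h1
  have hx1 : x ≠ 1 := by
    rintro rfl
    rw [one_mul] at e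
    exact haV (e ▸ hv)
  have hnN := n_norm_V R i
  have hu : n i * x * (n i)⁻¹ ∈ X (-sr i) := by
    have := R.conj_mem (rp_simple cs R.nsys i) (isRoot_sr cs h i) hx
    rwa [rep_simple_sr] at this
  have hu1 : n i * x * (n i)⁻¹ ≠ 1 := fun h0 => hx1 (by
    have : x = (n i)⁻¹ * (n i * x * (n i)⁻¹) * n i := by group
    rw [this, h0]; group)
  obtain ⟨a1, ha1, t, ht, b1, hb1, e1⟩ := R.rk1 i _ hu hu1
  have hv' := (Subgroup.mem_normalizer_iff.1 hnN v).1 hv
  have hc : n i * a * (n i)⁻¹ ∈ cent (VV cs h X i) (D ⊓ VV cs h X i) :=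
    conj_mem_cent (D_le_cent R hD i ha) (fun v => Subgroup.mem_normalizer_iff.1 hnN v) (norm_inf hD hnN)
  have hb2 : a1 * t ∈ RGD.B cs h T X := mul_mem (RGD.U_le_B (X_le_UU i ha1)) (RGD.T_le_B ht)
  have hb2N := B_norm_V R i (inv_mem hb2)
  refine ⟨(a1 * t)⁻¹ * (n i * a * (n i)⁻¹) * (a1 * t)⁻¹⁻¹,
    conj_mem_cent hc (fun v => Subgroup.mem_normalizer_iff.1 hb2N v) (norm_inf hD hb2N),
    (a1 * t)⁻¹ * (b1 * (n i * v * (n i)⁻¹))⁻¹, mul_mem (inv_mem hb2) (inv_mem (mul_mem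
      (RGD.U_le_B (X_le_UU i hb1)) (RGD.U_le_B (VV_le i hv')))), ?_⟩
  have e2 : n i * a * (n i)⁻¹ = a1 * t * n i * b1 * (n i * v * (n i)⁻¹) := by
    rw [← e1, ← e]; group
  rw [e2]
  group

/-- If `D` is not in `V i` and `j` is a neighbour of `i` then `U = D V j`. -/
theorem adj [Finite W] {i j : I} (hij : i ≠ j) (hm : M i j ≠ 2) (hi : ¬ D ≤ VV cs h X i) :
    UU cs h X ≤ D ⊔ VV cs h X j := by
  obtain ⟨d, hd, b, hb, e⟩ := exists_d R hD hi
  have hjr := isRoot_sr cs h j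
  have hji : (sr j : I → ℤ) ≠ sr i := by
    intro h0
    have := congrFun h0 j
    rw [sr_self, sr_ne (Ne.symm hij)] at this
    exact one_ne_zero this
  have hXV : X (sr j) ≤ VV cs h X i := RGD.le_Sup ⟨hjr, sr_nonneg j, hji⟩
  -- the image root
  have hroot : rep cs h (cs.simple i) (sr j) ∈ RGD.PosNe cs h j := by
    refine ⟨hjr.act _, hjr.simple_nonneg (sr_nonneg j) i hji, ?_⟩
    rw [rep_simple_eq]
    intro h0
    have h1 := congrFun h0 i
    rw [Pi.sub_apply, Pi.smul_apply, sr_self, sr_ne hij] at h1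
    have h2 : pairing A i (sr j : I → ℤ) = A i j := by
      unfold sr
      rw [pairing_single, mul_one]
    rw [h2] at h1
    have h3 := cartan_neg h hij hm
    simp at h1
    omega
  have hDN : RGD.B cs h T X ≤ Subgroup.normalizer ((D ⊔ VV cs h X j : Subgroup Y) : Set Y) := by
    intro y hy
    rw [mem_normalizer_iff_cj, cj_sup, mem_normalizer_iff_cj.1 (B_norm_D R hD hy),
      mem_normalizer_iff_cj.1 (B_norm_V R j hy)]
  have key : ∀ x ∈ X (sr j), x ∈ D ⊔ VV cs h X j := by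
    intro x hx
    have hy : b * x * b⁻¹ ∈ VV cs h X i := (Subgroup.mem_normalizer_iff.1 (B_norm_V R i hb) x).1 (hXV hx)
    have h1 := (mem_cent.1 hd).2.2 _ hy
    have h2 : n i * x * (n i)⁻¹ ∈ VV cs h X j :=
      RGD.le_Sup hroot (R.conj_mem (rp_simple cs R.nsys i) hjr hx)
    have h3 : b * x * b⁻¹ = (d * (b * x * b⁻¹) * d⁻¹ * (b * x * b⁻¹)⁻¹)⁻¹ * (n i * x * (n i)⁻¹) := by
      rw [e]; group
    have h4 : b * x * b⁻¹ ∈ D ⊔ VV cs h X j := by
      rw [h3]
      exact mul_mem (inv_mem (Subgroup.mem_sup_left (Subgroup.mem_inf.1 h1).1)) (Subgroup.mem_sup_right h2)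
    exact (Subgroup.mem_normalizer_iff.1 (hDN hb) x).2 h4
  unfold UU
  rw [R.Upos_eq j]
  exact sup_le key le_sup_right

variable [Finite W] [Finite Y] [IsSimpleGroup Y]

/-- If `D ≠ 1` then `U = D V j` for all `j`. -/
theorem all_sup [Nontrivial I] [Fact p.Prime] (hconn : Conn M) (hc : ∃ a b : Y, a * b ≠ b * a)
    (hG : RGD.Sup X {x | IsRoot cs h x} = ⊤) (hD1 : D ≠ ⊥) (j : I) : UU cs h X ≤ D ⊔ VV cs h X j := by
  have hgen : RGD.B cs h T X ⊔ NN cs R.nsys = ⊤ := Cfsg.Agent.Nodes.RGDLib.rgd_gen_of_G1 R hG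
  -- some `V i` does not contain `D`
  have h1 : ∃ i, ¬ D ≤ VV cs h X i := by
    by_contra hno
    push Not at hno
    have hn : ∀ i, n i ∈ Subgroup.normalizer (D : Set Y) := by
      intro i
      have hnN := n_norm_V R i
      rw [Subgroup.mem_normalizer_iff]
      intro x
      have h2 := norm_inf hD hnN x
      rw [inf_eq_left.2 (hno i)] at h2
      exact h2
    have h2 : Subgroup.normalizer (D : Set Y) = ⊤ := by
      rw [eq_top_iff, ← hgen, NN_eq]
      refine sup_le (B_norm_D R hD) (sup_le (le_trans RGD.T_le_B (B_norm_D R hD)) ?_)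
      rw [Subgroup.closure_le]
      rintro _ ⟨i, rfl⟩
      exact hn i
    rcases (Subgroup.normalizer_eq_top_iff.1 h2).eq_bot_or_eq_top with h3 | h3
    · exact hD1 h3
    · have h4 : IsPGroup p (⊤ : Subgroup Y) := h3 ▸ R.isPGroup_Upos.to_le hD.le
      obtain ⟨a, b, hab⟩ := hc
      have h5 : IsPGroup p Y := h4.of_equiv Subgroup.topEquiv
      have h6 := h5.center_nontrivial
      have h7 : Subgroup.center Y = ⊥ := by
        rcases (inferInstance : (Subgroup.center Y).Normal).eq_bot_or_eq_top with h8 | h8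
        · exact h8
        · exfalso
          have h9 : a ∈ Subgroup.center Y := by rw [h8]; trivial
          exact hab ((Subgroup.mem_center_iff.1 h9 b).symm)
      rw [h7] at h6
      exact not_nontrivial _ h6
  obtain ⟨t, ht⟩ := h1
  have hnV : ∀ i, UU cs h X ≤ D ⊔ VV cs h X i → ¬ D ≤ VV cs h X i := by
    intro i h2 h3
    obtain ⟨u, hu, hu1⟩ := exists_ne_one R i
    apply hu1
    have h4 : u ∈ VV cs h X i := by
      have := h2 (X_le_UU i hu)
      rwa [sup_eq_right.2 h3] at this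
    exact eq_one_of_mem_PosNe R hu h4
  have h2 : {i | ¬ D ≤ VV cs h X i} = Set.univ := by
    by_contra hne
    obtain ⟨a, ha, b, hb, hab⟩ := hconn {i | ¬ D ≤ VV cs h X i} ⟨t, ht⟩ hne
    have hab' : a ≠ b := fun h0 => hb (h0 ▸ ha)
    exact hb (hnV b (adj R hD hab' hab ha))
  -- a neighbour of `j`
  obtain ⟨k, hk⟩ := exists_ne j
  obtain ⟨a, ha, b, hb, hab⟩ := hconn {i | i ≠ j} ⟨k, hk⟩ (fun h0 => by
    have : j ∈ {i | i ≠ j} := by rw [h0]; trivial
    exact this rfl)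
  have hbj : b = j := by
    by_contra h0
    exact hb h0
  subst hbj
  refine adj R hD ha hab ?_
  have : a ∈ {i | ¬ D ≤ VV cs h X i} := by rw [h2]; trivial
  exact this

end

end Cfsg.Agent.H763.Rgd

end

-- merged: Cfsg.Agent.ClosedTwo.RgdFoc
section

/-!
The focal subgroup (helper39, S1252): if `U = D V i` for all `i` then `g u g⁻¹ ∈ u D U'` for all `u`, `g u g⁻¹ ∈ U`.
-/

set_option autoImplicit false
set_option linter.unusedSectionVars false

namespace Cfsg.Agent.H763.Rgd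

open CoxeterSystem Cfsg.Agent.ChevalleyStructure.CoxeterGeom Cfsg.Agent.Tits.Roots Cfsg.Agent.Tits.Core
  Cfsg.Agent.Nodes.Reps Cfsg.Agent.Nodes.BNOf Cfsg.Agent.Nodes.StabComb
  Cfsg.Agent.Nodes.Bruhat Cfsg.Agent.Nodes.OppDec Cfsg.Agent.Nodes.FreeTorus Cfsg.Agent.KFacts.RgdCharP
  Cfsg.Agent.H763.Abs Cfsg.Agent.ClosedTwo
open scoped commutatorElement

variable {I W Y : Type*} [Fintype I] [DecidableEq I] [Group W] [Group Y] {M : CoxeterMatrix I}
  {cs : CoxeterSystem M W} {A : I → I → ℤ} {h : IsCartan M A} {p : ℕ} {T : Subgroup Y} {n : I → Y}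
  {X : (I → ℤ) → Subgroup Y}

/-- conjugation invariance of `D0 ⊔ V'` -/
theorem conj_sup_comm {V D0 : Subgroup Y} {g : Y} (hV : ∀ v, v ∈ V ↔ g * v * g⁻¹ ∈ V)
    (hD : ∀ x, x ∈ D0 ↔ g * x * g⁻¹ ∈ D0) (k : Y) : k ∈ D0 ⊔ ⁅V, V⁆ ↔ g * k * g⁻¹ ∈ D0 ⊔ ⁅V, V⁆ := by
  have h1 : g ∈ Subgroup.normalizer (V : Set Y) := Subgroup.mem_normalizer_iff.2 hV
  have h2 : g ∈ Subgroup.normalizer (D0 : Set Y) := Subgroup.mem_normalizer_iff.2 hD
  have h3 : g ∈ Subgroup.normalizer ((D0 ⊔ ⁅V, V⁆ : Subgroup Y) : Set Y) := by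
    rw [mem_normalizer_iff_cj] at h1 h2 ⊢
    rw [cj_sup, h2]
    unfold cj at h1 ⊢
    rw [Subgroup.map_commutator, h1]
  exact Subgroup.mem_normalizer_iff.1 h3 k

/-- `V` centralises itself modulo `D0 ⊔ V'`. -/
theorem self_le_cent {V D0 H : Subgroup Y} (hVH : H ≤ V) (hD : ∀ g ∈ V, ∀ x, x ∈ D0 ↔ g * x * g⁻¹ ∈ D0) :
    H ≤ cent V (D0 ⊔ ⁅V, V⁆) := by
  intro g hg
  have hgV := hVH hg
  have hV : ∀ v, v ∈ V ↔ g * v * g⁻¹ ∈ V := fun v =>
    Subgroup.mem_normalizer_iff.1 (Subgroup.le_normalizer hgV) v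
  rw [mem_cent]
  refine ⟨hV, conj_sup_comm hV (hD g hgV), fun v hv => ?_⟩
  refine Subgroup.mem_sup_right ?_
  rw [← commutatorElement_def]
  exact Subgroup.commutator_mem_commutator hgV hv

theorem cent_mono_comm {V D0 : Subgroup Y} : cent V D0 ≤ cent V (D0 ⊔ ⁅V, V⁆) := by
  intro g hg
  obtain ⟨h1, h2, h3⟩ := mem_cent.1 hg
  exact mem_cent.2 ⟨h1, conj_sup_comm h1 h2, fun v hv => Subgroup.mem_sup_left (h3 v hv)⟩

section

variable (R : RGD cs h p T n X) {D : Subgroup Y} (hD : Closed cs h X D)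

include R hD

/-- the rank one group centralises `V i` modulo `D V i'` -/
theorem LL_le_cent {i : I} (hi : UU cs h X ≤ D ⊔ VV cs h X i) :
    LL X (sr i) ≤ cent (VV cs h X i) (D ⊓ VV cs h X i ⊔ ⁅VV cs h X i, VV cs h X i⁆) := by
  have hnN := n_norm_V R i
  have h1 : UU cs h X ≤ cent (VV cs h X i) (D ⊓ VV cs h X i ⊔ ⁅VV cs h X i, VV cs h X i⁆) := by
    refine le_trans hi (sup_le (le_trans (D_le_cent R hD i) cent_mono_comm) ?_)
    exact self_le_cent le_rfl fun g hg x => norm_inf hD (Subgroup.le_normalizer hg) x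
  unfold LL
  refine sup_le (le_trans (X_le_UU i) h1) ?_
  have h2 : cj (n i) (X (sr i)) = X (-sr i) := by
    rw [R.conj i _ (isRoot_sr cs h i), rep_simple_sr]
  rw [← h2]
  intro y hy
  rw [mem_cj] at hy
  have h3 := conj_mem_cent (c := n i) (h1 (X_le_UU i hy)) (fun v => Subgroup.mem_normalizer_iff.1 hnN v)
    (conj_sup_comm (fun v => Subgroup.mem_normalizer_iff.1 hnN v) (norm_inf hD hnN))
  rwa [show n i * ((n i)⁻¹ * y * n i) * (n i)⁻¹ = y by group] at h3

/-- `K = D U'` -/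
theorem K_conj {b : Y} (hb : b ∈ RGD.B cs h T X) (k : Y) :
    k ∈ D ⊔ ⁅UU cs h X, UU cs h X⁆ ↔ b * k * b⁻¹ ∈ D ⊔ ⁅UU cs h X, UU cs h X⁆ :=
  conj_sup_comm (fun v => Subgroup.mem_normalizer_iff.1 (R.B_le_normalizer_U hb) v)
    (fun v => Subgroup.mem_normalizer_iff.1 (B_norm_D R hD hb) v) k

omit R hD in
theorem Ki_le (i : I) : D ⊓ VV cs h X i ⊔ ⁅VV cs h X i, VV cs h X i⁆ ≤ D ⊔ ⁅UU cs h X, UU cs h X⁆ :=
  sup_le_sup inf_le_left (Subgroup.commutator_mono (VV_le i) (VV_le i))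

theorem U_le_cent : UU cs h X ≤ cent (UU cs h X) (D ⊔ ⁅UU cs h X, UU cs h X⁆) :=
  self_le_cent le_rfl fun _ hg x => Subgroup.mem_normalizer_iff.1 (B_norm_D R hD (RGD.U_le_B hg)) x

variable [Finite W] (hG : RGD.Sup X {x | IsRoot cs h x} = ⊤)
  (hall : ∀ i, UU cs h X ≤ D ⊔ VV cs h X i)

include hG hall

/-- the rank one tori centralise `U` modulo `K` -/
theorem TT_le_cent (i : I) : TT cs h X (sr i) ≤ cent (UU cs h X) (D ⊔ ⁅UU cs h X, UU cs h X⁆) := by
  intro t ht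
  have hGG : GG cs h T X = ⊤ := by
    rw [eq_top_iff, ← hG]
    exact le_sup_right
  obtain ⟨htL, htH⟩ := Subgroup.mem_inf.1 ht
  have htT : t ∈ T := Torus.HH_le R hGG htH
  have htB : t ∈ RGD.B cs h T X := RGD.T_le_B htT
  rw [mem_cent]
  refine ⟨fun v => Subgroup.mem_normalizer_iff.1 (R.B_le_normalizer_U htB) v, K_conj R hD htB, ?_⟩
  have hUK : ∀ u ∈ UU cs h X, ∀ k ∈ D ⊔ ⁅UU cs h X, UU cs h X⁆,
      u * k * u⁻¹ ∈ D ⊔ ⁅UU cs h X, UU cs h X⁆ := fun u hu k hk => (K_conj R hD (RGD.U_le_B hu) k).1 hk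
  have h1 : D ⊔ VV cs h X i ≤ Abs.cs (UU cs h X) (D ⊔ ⁅UU cs h X, UU cs h X⁆) hUK t := by
    refine sup_le (fun a ha => ?_) (fun v hv => ?_)
    · refine mem_cs.2 ⟨hD.le ha, Subgroup.mem_sup_left (mul_mem (B_conj R hD htB ha) (inv_mem ha))⟩
    · refine mem_cs.2 ⟨VV_le i hv, Ki_le i ((mem_cent.1 (LL_le_cent R hD (hall i) htL)).2.2 v hv)⟩
  intro v hv
  exact (mem_cs.1 (h1 (hall i hv))).2

theorem TT_le_cent' {m : I → Y} (hm : ∀ i, m i ∈ LL X (sr i)) (hr : ∀ i, Rp cs R.nsys (cs.simple i) (m i))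
    (w : W) (i : I) : TT cs h X (rep cs h w (sr i)) ≤ cent (UU cs h X) (D ⊔ ⁅UU cs h X, UU cs h X⁆) := by
  have hGG : GG cs h T X = ⊤ := by
    rw [eq_top_iff, ← hG]
    exact le_sup_right
  obtain ⟨ω, rfl⟩ := cs.wordProd_surjective w
  induction ω with
  | nil =>
    rw [wordProd_nil, map_one, Module.End.one_apply]
    exact TT_le_cent R hD hG hall i
  | cons j ω ih =>
    set x := rep cs h (cs.wordProd ω) (sr i) with hx
    have hxr : IsRoot cs h x := ⟨_, _, rfl⟩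
    rw [wordProd_cons, rep_mul_apply, ← hx, ← (Torus.acts_of_rp R (hr j)).cj_TT hxr]
    intro t ht
    rw [mem_cj] at ht
    set s := (m j)⁻¹ * t * m j with hs
    have e : t = m j * s * (m j)⁻¹ := by rw [hs]; group
    have hsT : s ∈ T := Torus.HH_le R hGG (Subgroup.mem_inf.1 ht).2
    have hsm : m j * s * (m j)⁻¹ ∈ T :=
      (Subgroup.mem_normalizer_iff.1 (hr j).mem_normalizer s).1 hsT
    have h1 : m j * s * (m j)⁻¹ * s⁻¹ ∈ TT cs h X (sr j) := by
      refine Subgroup.mem_inf.2 ⟨?_, ?_⟩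
      · have h2 : s * (m j)⁻¹ * s⁻¹ ∈ LL X (sr j) := by
          have h3 : cj s (LL X (sr j)) = LL X (sr j) := by
            unfold LL
            rw [cj_sup, R.tor _ (isRoot_sr cs h j) s hsT, R.tor _ (isRoot_sr cs h j).neg s hsT]
          rw [← h3]
          exact conj_mem_cj.2 (inv_mem (hm j))
        rw [show m j * s * (m j)⁻¹ * s⁻¹ = m j * (s * (m j)⁻¹ * s⁻¹) by group]
        exact mul_mem (hm j) h2
      · rw [mem_HH]
        have h2 : m j * s * (m j)⁻¹ * s⁻¹ ∈ T := mul_mem hsm (inv_mem hsT)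
        intro y hy
        rw [R.tor y hy _ h2, map_one, Module.End.one_apply]
    rw [e, show m j * s * (m j)⁻¹ = (m j * s * (m j)⁻¹ * s⁻¹) * s by group]
    exact mul_mem (TT_le_cent R hD hG hall j h1) (ih ht)

/-- the Borel subgroup centralises `U` modulo `K` -/
theorem B_le_cent [Finite Y] : RGD.B cs h T X ≤ cent (UU cs h X) (D ⊔ ⁅UU cs h X, UU cs h X⁆) := by
  refine sup_le ?_ (U_le_cent R hD)
  choose m hm hr using Torus.exists_m R
  rw [Torus.torus_eq R hG]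
  refine iSup_le ?_
  rintro ⟨x, w, i, rfl⟩
  exact TT_le_cent' R hD hG hall hm hr w i

/-- the chain -/
theorem chain [Finite Y] {m : I → Y} (hm : ∀ i, m i ∈ LL X (sr i)) (hr : ∀ i, Rp cs R.nsys (cs.simple i) (m i)) :
    ∀ (N : ℕ) (w : W), cs.length w = N → ∀ k, Rp cs R.nsys w k → ∀ x ∈ PW cs h w, ∀ u ∈ X x,
      k * u * k⁻¹ * u⁻¹ ∈ D ⊔ ⁅UU cs h X, UU cs h X⁆ := by
  intro N
  induction N with
  | zero =>
    intro w hw k hk x hx u hu
    have hw1 : w = 1 := cs.length_eq_zero_iff.1 hw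
    subst hw1
    have hkB : k ∈ RGD.B cs h T X := RGD.T_le_B hk.mem_of_one
    exact (mem_cent.1 (B_le_cent R hD hG hall hkB)).2.2 u (RGD.le_Sup (S := RGD.Pos cs h) ⟨hx.1, hx.2.1⟩ hu)
  | succ N ih =>
    intro w hw k hk x hx u hu
    have hw1 : w ≠ 1 := by
      rintro rfl
      rw [cs.length_one] at hw
      omega
    obtain ⟨i, hi⟩ := cs.exists_leftDescent_of_ne_one hw1
    have hi' : cs.length (cs.simple i * w) < cs.length w := hi
    obtain ⟨w', hw'⟩ : ∃ w', w' = cs.simple i * w := ⟨_, rfl⟩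
    have hww : w = cs.simple i * w' := by rw [hw', ← mul_assoc, simple_mul_simple_self, one_mul]
    have hlen : cs.length w' = N := by
      rcases cs.length_simple_mul w i with h1 | h1
      · omega
      · rw [hw']; omega
    obtain ⟨k', hk'⟩ : ∃ k', k' = (m i)⁻¹ * k := ⟨_, rfl⟩
    have hkk : k = m i * k' := by rw [hk']; group
    have hk'2 : Rp cs R.nsys w' k' := by
      have := (hr i).inv.mul hk
      rwa [inv_simple, ← hk', ← hw'] at this
    -- the root `w' x`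
    have hxr := hx.1
    have hx0 := hx.2.1
    have hwx := hx.2.2
    have hyr : IsRoot cs h (rep cs h w' x) := hxr.act w'
    have hwx' : 0 ≤ rep cs h (cs.simple i) (rep cs h w' x) := by
      rw [← rep_mul_apply, ← hww]
      exact hwx
    have hyne : rep cs h w' x ≠ sr i := by
      intro h0
      rw [h0, rep_simple_sr] at hwx'
      exact (isRoot_sr cs h i).not_pos_neg (sr_nonneg i) (neg_nonneg.1 hwx')
    have hy0 : 0 ≤ rep cs h w' x := by
      rcases hyr.pos_or_neg with h1 | h1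
      · exact h1
      · exfalso
        have h2 : -rep cs h w' x = sr i := by
          by_contra h3
          have h4 := hyr.neg.simple_nonneg (neg_nonneg.2 h1) i h3
          rw [map_neg] at h4
          exact (hyr.act (cs.simple i)).not_pos_neg hwx' (neg_nonneg.1 h4)
        -- then `x = - w'⁻¹ α_i`
        have h3 : rep cs h w'⁻¹ (sr i) = -x := by
          rw [← h2, map_neg, rep_inv_apply]
        have h4 : 0 ≤ rep cs h w'⁻¹ (sr i) := by
          refine (lt_iff' cs h w'⁻¹ i).1 ?_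
          have e1 : w'⁻¹ * cs.simple i = w⁻¹ := by
            rw [hww, mul_inv_rev, inv_simple]
          rw [e1, cs.length_inv, cs.length_inv]
          omega
        rw [h3] at h4
        exact hxr.not_pos_neg hx0 (neg_nonneg.1 h4)
    have hu' := ih w' hlen k' hk'2 x ⟨hxr, hx0, hy0⟩ u hu
    have hyV : k' * u * k'⁻¹ ∈ VV cs h X i :=
      RGD.le_Sup (S := RGD.PosNe cs h i) ⟨hyr, hy0, hyne⟩ (R.conj_mem hk'2 hxr hu)
    have h5 := Ki_le (D := D) i ((mem_cent.1 (LL_le_cent R hD (hall i) (hm i))).2.2 _ hyV)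
    rw [show k * u * k⁻¹ * u⁻¹ = (m i * (k' * u * k'⁻¹) * (m i)⁻¹ * (k' * u * k'⁻¹)⁻¹) * (k' * u * k'⁻¹ * u⁻¹) by
      rw [hkk]; group]
    exact mul_mem h5 hu'

/-- fusion in `U` is trivial modulo `K` -/
theorem fusion [Finite Y] {u g : Y} (hu : u ∈ UU cs h X) (hg : g * u * g⁻¹ ∈ UU cs h X) :
    g * u * g⁻¹ * u⁻¹ ∈ D ⊔ ⁅UU cs h X, UU cs h X⁆ := by
  have hGG : GG cs h T X = ⊤ := by
    rw [eq_top_iff, ← hG]
    exact le_sup_right
  choose m hm hr using Torus.exists_m R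
  have hUK : ∀ u ∈ UU cs h X, ∀ k ∈ D ⊔ ⁅UU cs h X, UU cs h X⁆,
      u * k * u⁻¹ ∈ D ⊔ ⁅UU cs h X, UU cs h X⁆ := fun u hu k hk => (K_conj R hD (RGD.U_le_B hu) k).1 hk
  obtain ⟨w, b₁, hb₁, k, hk, b₂, hb₂, rfl⟩ := (mem_GG R (g := g)).1 (by rw [hGG]; trivial)
  have hB := B_le_cent R hD hG hall
  have hv : b₂ * u * b₂⁻¹ ∈ UU cs h X := (Subgroup.mem_normalizer_iff.1 (R.B_le_normalizer_U hb₂) u).1 hu
  obtain ⟨v, hvd⟩ : ∃ v, v = b₂ * u * b₂⁻¹ := ⟨_, rfl⟩
  rw [← hvd] at hv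
  have hz : k * v * k⁻¹ ∈ UU cs h X := by
    have h1 := (Subgroup.mem_normalizer_iff.1 (R.B_le_normalizer_U (inv_mem hb₁)) _).1 hg
    rwa [show b₁⁻¹ * (b₁ * k * b₂ * u * (b₁ * k * b₂)⁻¹) * b₁⁻¹⁻¹ = k * v * k⁻¹ by rw [hvd]; group] at h1
  have hvP : v ∈ RGD.Sup X (PW cs h w) := by
    have h1 := mem_PW_of_conj R hk.inv hv (by
      rw [inv_inv]
      exact RGD.U_le_B hz)
    rwa [inv_inv] at h1
  have h1 : RGD.Sup X (PW cs h w) ≤ Abs.cs (UU cs h X) (D ⊔ ⁅UU cs h X, UU cs h X⁆) hUK k := by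
    refine RGD.Sup_le fun x hx u hu => ?_
    exact mem_cs.2 ⟨RGD.le_Sup (S := RGD.Pos cs h) ⟨hx.1, hx.2.1⟩ hu,
      chain R hD hG hall hm hr _ w rfl k hk x hx u hu⟩
  have h2 := (mem_cs.1 (h1 hvP)).2
  have h3 := (mem_cent.1 (hB hb₁)).2.2 _ hz
  have h4 := (mem_cent.1 (hB hb₂)).2.2 u hu
  rw [← hvd] at h4
  rw [show b₁ * k * b₂ * u * (b₁ * k * b₂)⁻¹ * u⁻¹ = (b₁ * (k * v * k⁻¹) * b₁⁻¹ * (k * v * k⁻¹)⁻¹) *
    (k * v * k⁻¹ * v⁻¹) * (v * u⁻¹) by rw [hvd]; group]
  exact mul_mem (mul_mem h3 h2) h4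

end

/-- **Strongly closed subgroups in simple groups of Lie type of rank at least 2, in the characteristic.** -/
theorem eq_U [Finite W] [Finite Y] [IsSimpleGroup Y] [Nontrivial I] [Fact p.Prime] (R : RGD cs h p T n X)
    {D : Subgroup Y} (hD : Closed cs h X D) (hconn : Conn M) (hc : ∃ a b : Y, a * b ≠ b * a)
    (hG : RGD.Sup X {x | IsRoot cs h x} = ⊤) (hD1 : D ≠ ⊥) : D = UU cs h X := by
  have hall := all_sup R hD hconn hc hG hD1
  have hGG : GG cs h T X = ⊤ := by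
    rw [eq_top_iff, ← hG]
    exact le_sup_right
  -- `U` is a Sylow subgroup
  obtain ⟨S, hS⟩ := R.isPGroup_Upos.exists_le_sylow
  have hSU : (S : Subgroup Y) = UU cs h X :=
    Cfsg.Agent.Nodes.NormalForm.eq_U_of_isPGroup R S.2 hS (by rw [hGG]; exact le_top)
  have hperf : commutator Y = ⊤ := by
    rcases (inferInstance : (commutator Y).Normal).eq_bot_or_eq_top with h1 | h1
    · exfalso
      obtain ⟨a, b, hab⟩ := hc
      apply hab
      have h2 : ⁅a, b⁆ ∈ commutator Y := Subgroup.commutator_mem_commutator trivial trivial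
      rw [h1, Subgroup.mem_bot, commutatorElement_eq_one_iff_mul_comm] at h2
      exact h2
    · exact h1
  refine eq_of_sup_commutator R.isPGroup_Upos hD.le
    (fun u hu a ha => B_conj R hD (RGD.U_le_B hu) ha) ?_
  have h1 := Subgroup.commutator_inf_eq_focalSubgroup S
  rw [hperf, top_inf_eq, hSU] at h1
  intro y hy
  have h2 : y ∈ (UU cs h X).focalSubgroup := by rw [← h1]; exact hy
  have h3 : (UU cs h X).focalSubgroup ≤ D ⊔ ⁅UU cs h X, UU cs h X⁆ := by
    rw [Subgroup.focalSubgroup_def, Subgroup.closure_le]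
    rintro z ⟨hz, x, hx, g, rfl⟩
    have hxi : g * x⁻¹ * g⁻¹ ∈ UU cs h X := by
      have h4 := mul_mem (inv_mem hx) hz
      rwa [commutatorElement_def, show x⁻¹ * (x * g * x⁻¹ * g⁻¹) = g * x⁻¹ * g⁻¹ by group] at h4
    have h5 := fusion R hD hG hall (inv_mem hx) hxi
    have h6 := (K_conj R hD (RGD.U_le_B hx) _).1 h5
    rwa [show x * (g * x⁻¹ * g⁻¹ * x⁻¹⁻¹) * x⁻¹ = ⁅x, g⁆ by rw [commutatorElement_def]; group] at h6
  exact h3 h2

end Cfsg.Agent.H763.Rgd

end

section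

namespace Cfsg.Agent.H763.Conn

open CoxeterSystem Cfsg.Agent.ChevalleyStructure.CoxeterGeom Cfsg.Agent.Tits.Roots
  Cfsg.Agent.Nodes.Reps Cfsg.Agent.Nodes.BNOf
  Cfsg.Agent.Nodes.Bruhat Cfsg.Agent.Nodes.OppDec Cfsg.Agent.Nodes.LeviDec Cfsg.Agent.Nodes.NormX
  Cfsg.Agent.KFacts.RgdPar Cfsg.Agent.KFacts.RgdCent
  Cfsg.Agent.KFacts.RgdEx Cfsg.Agent.KFacts.RgdVJ Cfsg.Agent.KFacts.RgdCharP
  Cfsg.Agent.KFacts.RgdBorelTits

variable {I W Y : Type*} [Fintype I] [DecidableEq I] [Group W] [Group Y] {M : CoxeterMatrix I}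
  {cs : CoxeterSystem M W} {A : I → I → ℤ} {h : IsCartan M A} {p : ℕ} {T : Subgroup Y} {n : I → Y}
  {X : (I → ℤ) → Subgroup Y}

/-! ### disconnected diagrams -/

/-- Roots of a disconnected diagram are supported on one of the parts. -/
theorem supp_or {J : Set I} (hJ : ∀ a ∈ J, ∀ b, b ∉ J → M a b = 2) {x : I → ℤ} (hx : IsRoot cs h x) :
    (∀ b, b ∉ J → x b = 0) ∨ (∀ a ∈ J, x a = 0) := by
  have hA : ∀ a ∈ J, ∀ b, b ∉ J → A a b = 0 ∧ A b a = 0 := by
    intro a ha b hb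
    have hab : a ≠ b := fun e => hb (e ▸ ha)
    rcases h.rel a b hab with h1 | h1 | h1 | h1
    · exact h1.2
    all_goals
      have := hJ a ha b hb
      omega
  have key : ∀ (i : I) (x : I → ℤ), ((∀ b, b ∉ J → x b = 0) ∨ (∀ a ∈ J, x a = 0)) →
      ((∀ b, b ∉ J → rep cs h (cs.simple i) x b = 0) ∨ (∀ a ∈ J, rep cs h (cs.simple i) x a = 0)) := by
    intro i x hx
    rcases hx with hx | hx
    · left
      intro b hb
      by_cases hbi : b = i
      · subst hbi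
        rw [rep_simple_apply_self, hx b hb, zero_sub, neg_eq_zero]
        unfold pairing
        refine Finset.sum_eq_zero fun a _ => ?_
        by_cases ha : a ∈ J
        · rw [(hA a ha b hb).2]; ring
        · rw [hx a ha]; ring
      · rw [rep_simple_apply cs h i x b hbi, hx b hb]
    · right
      intro a ha
      by_cases hai : a = i
      · subst hai
        rw [rep_simple_apply_self, hx a ha, zero_sub, neg_eq_zero]
        unfold pairing
        refine Finset.sum_eq_zero fun b _ => ?_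
        by_cases hb : b ∈ J
        · rw [hx b hb]; ring
        · rw [(hA a ha b hb).1]; ring
      · rw [rep_simple_apply cs h i x a hai, hx a ha]
  obtain ⟨w, i, rfl⟩ := hx
  induction w using cs.simple_induction_left with
  | one =>
    rw [map_one, Module.End.one_apply]
    by_cases hi : i ∈ J
    · left
      intro b hb
      rw [sr, Pi.single_apply, if_neg (by rintro rfl; exact hb hi)]
    · right
      intro a ha
      rw [sr, Pi.single_apply, if_neg (by rintro rfl; exact hi ha)]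
  | mul_simple_left w j ih =>
    rw [rep_mul_apply]
    exact key j _ ih

/-- **The diagram of a simple group is connected.** -/
theorem conn_of_simple [IsSimpleGroup Y] (R : RGD cs h p T n X) (hG : RGD.Sup X {x | IsRoot cs h x} = ⊤)
    (hc : Subgroup.center Y = ⊥) : Conn M := by
  intro J hne hJ1
  by_contra hcon
  push Not at hcon
  have hJ : ∀ a ∈ J, ∀ b, b ∉ J → M a b = 2 := hcon
  set S1 : Set (I → ℤ) := {x | IsRoot cs h x ∧ ∀ b, b ∉ J → x b = 0} with hS1
  set S2 : Set (I → ℤ) := {x | IsRoot cs h x ∧ ∀ a ∈ J, x a = 0} with hS2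
  have hne0 : ∀ {x : I → ℤ}, IsRoot cs h x → x ≠ 0 := fun hx => hx.ne_zero
  -- the two parts commute
  have hcomm : ∀ x ∈ S1, ∀ y ∈ S2, ∀ u ∈ X x, ∀ v ∈ X y, u * v = v * u := by
    rintro x ⟨hx, hx'⟩ y ⟨hy, hy'⟩ u hu v hv
    have h1 : x ≠ y := by
      rintro rfl
      refine hne0 hx (funext fun k => ?_)
      by_cases hk : k ∈ J
      · exact hy' k hk
      · exact hx' k hk
    have h2 : x ≠ -y := by
      rintro rfl
      refine hne0 hy (funext fun k => ?_)
      by_cases hk : k ∈ J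
      · exact hy' k hk
      · have := hx' k hk
        rw [Pi.neg_apply, neg_eq_zero] at this
        exact this
    have h3 := R.comm x y hx hy h1 h2 u hu v hv
    have h4 : btw cs h X x y = ⊥ := by
      rw [eq_bot_iff]
      refine iSup_le ?_
      rintro ⟨z, hz⟩
      exfalso
      obtain ⟨hzr, m, i, j, hm, hi, hj, e⟩ := hz
      have e' : ∀ k, m * z k = i * x k + j * y k := fun k => by
        have := congrFun e k
        simpa using this
      rcases supp_or hJ hzr with hz1 | hz1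
      · refine hne0 hy (funext fun k => ?_)
        by_cases hk : k ∈ J
        · exact hy' k hk
        · have := e' k
          rw [hz1 k hk, hx' k hk, mul_zero, mul_zero, zero_add] at this
          exact (mul_eq_zero.1 this.symm).resolve_left hj.ne'
      · refine hne0 hx (funext fun k => ?_)
        by_cases hk : k ∈ J
        · have := e' k
          rw [hz1 k hk, hy' k hk, mul_zero, mul_zero, add_zero] at this
          exact (mul_eq_zero.1 this.symm).resolve_left hi.ne'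
        · exact hx' k hk
    rw [h4, Subgroup.mem_bot, commutatorElement_eq_one_iff_mul_comm] at h3
    exact h3
  set N1 := RGD.Sup X S1 with hN1
  set N2 := RGD.Sup X S2 with hN2
  have hcN : ∀ u ∈ N1, ∀ v ∈ N2, u * v = v * u := by
    have h1 : N1 ≤ Subgroup.centralizer (N2 : Set Y) := by
      rw [hN1]
      refine RGD.Sup_le fun x hx u hu => ?_
      rw [Subgroup.mem_centralizer_iff]
      have h2 : N2 ≤ Subgroup.centralizer {u} := by
        rw [hN2]
        refine RGD.Sup_le fun y hy v hv => ?_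
        rw [Subgroup.mem_centralizer_singleton_iff]
        exact (hcomm x hx y hy u hu v hv).symm
      intro v hv
      exact Subgroup.mem_centralizer_singleton_iff.1 (h2 hv)
    intro u hu v hv
    exact ((Subgroup.mem_centralizer_iff.1 (h1 hu)) v hv).symm
  have htop : N1 ⊔ N2 = ⊤ := by
    rw [eq_top_iff, ← hG]
    refine RGD.Sup_le fun x hx => ?_
    rcases supp_or hJ hx with h1 | h1
    · exact le_trans (RGD.le_Sup (S := S1) ⟨hx, h1⟩) le_sup_left
    · exact le_trans (RGD.le_Sup (S := S2) ⟨hx, h1⟩) le_sup_right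
  have hnorm : N1.Normal := by
    rw [← Subgroup.normalizer_eq_top_iff, eq_top_iff, ← htop]
    refine sup_le Subgroup.le_normalizer fun v hv => ?_
    rw [Subgroup.mem_normalizer_iff]
    intro u
    constructor
    · intro hu
      have := hcN u hu v hv
      rw [← this, mul_inv_cancel_right]
      exact hu
    · intro hu
      have h1 := hcN _ hu v hv
      have h2 : v * u * v⁻¹ = u := by
        have h3 : v * u * v⁻¹ * v = v * (v * u * v⁻¹) := h1
        have h4 : v * u * v⁻¹ * v = v * u := by group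
        rw [h4] at h3
        exact (mul_left_cancel h3).symm
      rwa [h2] at hu
  obtain ⟨a, ha⟩ := hne
  obtain ⟨b, hb⟩ : ∃ b, b ∉ J := by
    by_contra h4
    push Not at h4
    exact hJ1 (Set.eq_univ_iff_forall.2 h4)
  have hXa : X (sr a) ≤ N1 := RGD.le_Sup (S := S1) ⟨isRoot_sr cs h a, fun k hk => by
    rw [sr, Pi.single_apply, if_neg (by rintro rfl; exact hk ha)]⟩
  have hXb : X (sr b) ≤ N2 := RGD.le_Sup (S := S2) ⟨isRoot_sr cs h b, fun k hk => by
    rw [sr, Pi.single_apply, if_neg (by rintro rfl; exact hb hk)]⟩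
  have ha1 := Nodes.Bruhat.X_ne_bot R (isRoot_sr cs h a)
  have hb1 := Nodes.Bruhat.X_ne_bot R (isRoot_sr cs h b)
  rcases hnorm.eq_bot_or_eq_top with h1 | h1
  · exact ha1 (eq_bot_iff.2 (h1 ▸ hXa))
  · apply hb1
    rw [eq_bot_iff, ← hc]
    intro v hv
    rw [Subgroup.mem_center_iff]
    intro g
    exact hcN g (h1 ▸ Subgroup.mem_top g) v (hXb hv)

/-- A group without centre generated by its root groups: no element of `T` centralises all root groups. -/
theorem noCent_of_center (hG : RGD.Sup X {x | IsRoot cs h x} = ⊤) (hc : Subgroup.center Y = ⊥) :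
    NoCent cs h T X := by
  intro t _ ht
  rw [← Subgroup.mem_bot, ← hc, Subgroup.mem_center_iff]
  intro g
  have h1 : (⊤ : Subgroup Y) ≤ Subgroup.centralizer {t} := by
    rw [← hG]
    refine RGD.Sup_le fun x hx v hv => ?_
    rw [Subgroup.mem_centralizer_singleton_iff]
    exact (ht x hx v hv).symm
  exact Subgroup.mem_centralizer_singleton_iff.1 (h1 (Subgroup.mem_top g))

theorem center_eq_bot {G : Type*} [Group G] [IsSimpleGroup G] (hc : ∃ a b : G, a * b ≠ b * a) :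
    Subgroup.center G = ⊥ := by
  obtain ⟨a, b, hab⟩ := hc
  rcases (inferInstance : (Subgroup.center G).Normal).eq_bot_or_eq_top with h1 | h1
  · exact h1
  · exfalso
    have h2 : a ∈ Subgroup.center G := by rw [h1]; trivial
    exact hab ((Subgroup.mem_center_iff.1 h2 b).symm)


end Cfsg.Agent.H763.Conn

end
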